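import Mathlib
import Cfsg.Agent.H03.FH
import Cfsg.Agent.H07.Extend
import Cfsg.Agent.H24.MinAct
import Cfsg.Agent.H24.Partition
import Cfsg.Agent.H24.Hol

/-!
Fixed point free operator groups, tools (namespace H03).
* `cm D D₀` (elements normalising `D₀` and centralising `D/D₀`), `norm_lemma`, `lemS` (Clifford-type lemma: the stabiliser of a
  component has no fixed points on it), `lemF`, `exists_max_cent`;
* `Xsp K Z` (class two, `Z(K), K' ≤ Z`), `Xsp.exists_sq`, `Xsp.low` (`|R| ≤ s + 1` for cyclic `R` semiregular on `K/Z`),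
  `Xsp.up` (`s + 1 ≤ |R|` if `R` has no fixed points on a module).
-/

set_option autoImplicit false
open Cfsg BG H24 H05
open scoped IsMulCommutative commutatorElement ComplexConjugate

namespace H03

universe u
variable {X : Type u} [Group X] {V D D₀ A B E Y K R Z : Subgroup X} {a g h : X}

/-- elements normalising `D₀` and centralising `D / D₀` -/
def cm (D D₀ : Subgroup X) : Subgroup X := coquo D₀ C_(quo D₀ D)

theorem cm_le_norm : cm D D₀ ≤ N_(D₀) := coquo_le_norm _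

theorem le_cm_iff (hD : D ≤ N_(D₀)) : B ≤ cm D D₀ ↔ B ≤ N_(D₀) ∧ ⁅D, B⁆ ≤ D₀ := by
  constructor
  · intro h
    have h1 := h.trans cm_le_norm
    exact ⟨h1, comm_le_of_quo hD h1 (cent_symm (quo_le_of_le_coquo h))⟩
  · rintro ⟨h1, h2⟩
    exact (quo_le_iff h1).1 (cent_symm ((quo_le_cent_iff hD h1).2 h2))

theorem le_cm (hD : D ≤ N_(D₀)) (h0 : D₀ ≤ D) (h : ⁅D, B⁆ ≤ D₀) : B ≤ cm D D₀ :=
  (le_cm_iff hD).2 ⟨le_norm_of_comm h h0, h⟩

theorem comm_cm (hD : D ≤ N_(D₀)) (h : B ≤ cm D D₀) : ⁅D, B⁆ ≤ D₀ := ((le_cm_iff hD).1 h).2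

theorem mem_cm [Finite X] (hD : D ≤ N_(D₀)) (h0 : D₀ ≤ D) : a ∈ cm D D₀ ↔ ∀ d ∈ D, ⁅d, a⁆ ∈ D₀ := by
  constructor
  · intro h d hd
    exact comm_cm hD le_rfl (Subgroup.commutator_mem_commutator hd h)
  · intro h
    have h1 : a ∈ N_(D₀) := mem_norm_of_cj_le (by
      intro x hx
      obtain ⟨y, hy, rfl⟩ := mem_cj'.1 hx
      have := D₀.mul_mem (D₀.inv_mem (h y (h0 hy))) hy
      rwa [show ⁅y, a⁆⁻¹ * y = a * y * a⁻¹ by simp [commutatorElement_def, mul_assoc]] at this)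
    refine mem_coquo.2 ⟨h1, (qmk_mem_cent_iff h1 hD).2 fun d hd => ?_⟩
    rw [← commutatorElement_inv]
    exact inv_mem (h d hd)

open Classical in
/-- conjugation action on `V` as a total function -/
noncomputable def ac (V : Subgroup X) (g : X) : V →* V :=
  if h : g ∈ N_(V) then (V.normalizerMonoidHom ⟨g, h⟩).toMonoidHom else MonoidHom.id V

theorem coe_ac (hg : g ∈ N_(V)) (v : V) : (ac V g v : X) = g * v * g⁻¹ := by
  rw [ac, dif_pos hg]; rfl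

theorem ac_mul (hg : g ∈ N_(V)) (hh : h ∈ N_(V)) (v : V) : ac V (g * h) v = ac V g (ac V h v) :=
  Subtype.ext (by rw [coe_ac (mul_mem hg hh), coe_ac hg, coe_ac hh]; group)

theorem ac_eq_iff (hg : g ∈ N_(V)) (v : V) : ac V g v = v ↔ (v : X) ∈ C_[g] := by
  rw [Subtype.ext_iff, coe_ac hg, mul_inv_eq_iff_eq_mul, mem_cent1, eq_comm]

theorem ac_prod [IsMulCommutative V] [Fintype A] (hA : A ≤ N_(V)) (w : V) (ha : a ∈ A) :
    ac V a (∏ b : A, ac V b w) = ∏ b : A, ac V b w := by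
  rw [map_prod]
  refine Fintype.prod_equiv (Equiv.mulLeft ⟨a, ha⟩) _ _ fun b => ?_
  rw [← ac_mul (hA ha) (hA b.2)]; rfl

theorem norm_lemma [Finite X] (hV : IsMulCommutative V) (hD : IsMulCommutative D) (hDV : D ≤ N_(V)) (hAV : A ≤ N_(V))
    (hAD : A ≤ N_(D)) (h0 : D₀ ≤ D) (hcD : (Nat.card D).Coprime (Nat.card V)) (hcA : (Nat.card A).Coprime (Nat.card V))
    (hY : Y ≤ V) (hDY : D ≤ N_(Y)) (hE : E ≤ N_(A)) (hEV : E ≤ N_(V)) (hYE : Y ≤ C_(E)) (hfix : V ⊓ C_(A ⊔ E) = ⊥)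
    (hmax : ∀ a ∈ A, a ∉ cm D D₀ → ∀ w ∈ V, w ∈ C_(D₀) → (∀ d ∈ D, w ∈ C_[⁅d, a⁆]) → w = 1) :
    Y ⊓ C_(D₀) ⊓ C_(A ⊓ cm D D₀) = ⊥ := by
  classical
  have := Fintype.ofFinite A
  have := Fintype.ofFinite D
  have := Fintype.ofFinite D₀
  rw [eq_bot_iff]
  rintro v ⟨⟨hvY, hv0⟩, hvB⟩
  let v' : V := ⟨v, hY hvY⟩
  have hD0 : D ≤ N_(D₀) := le_norm_of_abelian hD h0
  have hcomm : ∀ a ∈ A, ∀ d ∈ D, ⁅d, a⁆ ∈ D := fun a ha d hd =>
    comm_le_left hAD (Subgroup.commutator_mem_commutator hd ha)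
  have h1 : ∀ w : V, (w : X) ∈ Y → ∏ b : A, ac V b w = 1 := by
    intro w hw
    refine Subtype.ext (Subgroup.mem_bot.1 (hfix.le ⟨(∏ b : A, ac V b w).2, ?_⟩))
    rw [cent_sup]
    refine ⟨mem_cent.2 fun a ha => (mem_cent1.1 ((ac_eq_iff (hAV ha) _).1 (ac_prod hAV w ha))).symm,
      mem_cent.2 fun e he => (mem_cent1.1 ((ac_eq_iff (hEV he) _).1 ?_)).symm⟩
    rw [map_prod]
    refine Fintype.prod_equiv (A.normalizerMonoidHom ⟨e, hE he⟩).toEquiv _ _ fun b => ?_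
    have h2 : ac V e w = w := (ac_eq_iff (hEV he) w).2 (cent_le_cent1 he (hYE hw))
    have h3 : ((A.normalizerMonoidHom ⟨e, hE he⟩).toEquiv b : X) = e * b * e⁻¹ := rfl
    rw [h3]
    conv_rhs => rw [← h2]
    rw [← ac_mul (hEV he) (hAV b.2), ← ac_mul (mul_mem (mul_mem (hEV he) (hAV b.2)) (inv_mem (hEV he))) (hEV he),
      inv_mul_cancel_right]
  let π : V →* V := ∏ d : D₀, ac V d
  have hπ : ∀ w, π w = ∏ d : D₀, ac V d w := fun w => MonoidHom.finsetProd_apply _ _ _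
  have hπ1 : ∀ d ∈ D, ∀ w, ac V d (π w) = π (ac V d w) := by
    intro d hd w
    rw [hπ, hπ, map_prod]
    refine Finset.prod_congr rfl fun e _ => ?_
    rw [← ac_mul (hDV hd) (hDV (h0 e.2)), ← ac_mul (hDV (h0 e.2)) (hDV hd), mul_comm_of_abelian hD hd (h0 e.2)]
  have hπ2 : ∀ d ∈ D₀, ∀ w, ac V d (π w) = π w := fun d hd w => by
    rw [hπ]; exact ac_prod (h0.trans hDV) w hd
  have h2 : ∏ d : D, π (ac V d (∏ b : A, ac V b (ac V (d : X)⁻¹ v'))) = 1 := by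
    refine Finset.prod_eq_one fun d _ => ?_
    rw [h1 _ (by
      rw [coe_ac (inv_mem (hDV d.2))]
      exact conj_mem_of_norm (inv_mem (hDY d.2)) hvY), map_one, map_one]
  have h3 : ∀ b : A, ∏ d : D, π (ac V d (ac V b (ac V (d : X)⁻¹ v'))) =
      if (b : X) ∈ cm D D₀ then v' ^ (Nat.card D₀ * Nat.card D) else 1 := by
    intro b
    have e : ∀ d : D, ac V d (ac V b (ac V (d : X)⁻¹ v')) = ac V ⁅(d : X), (b : X)⁆ (ac V b v') := fun d => by
      rw [← ac_mul (hAV b.2) (inv_mem (hDV d.2)), ← ac_mul (hDV d.2) (mul_mem (hAV b.2) (inv_mem (hDV d.2))),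
        ← ac_mul (hDV (hcomm b b.2 d d.2)) (hAV b.2)]
      congr 2
      simp [commutatorElement_def, mul_assoc]
    simp only [e]
    split_ifs with hb
    · have e1 : ac V b v' = v' := (ac_eq_iff (hAV b.2) v').2 (cent_le_cent1 (Subgroup.mem_inf.2 ⟨b.2, hb⟩) hvB)
      have e2 : ∀ d ∈ D₀, ac V d v' = v' := fun d hd => (ac_eq_iff (hDV (h0 hd)) v').2 (cent_le_cent1 hd hv0)
      rw [Finset.prod_congr rfl (g := fun _ => v' ^ Nat.card D₀) fun d _ => by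
        rw [e1, e2 _ ((mem_cm hD0 h0).1 hb d d.2), hπ, Finset.prod_congr rfl (g := fun _ => v') fun (e : D₀) _ => e2 e e.2]
        simp]
      simp [pow_mul]
    · refine Subtype.ext (hmax b b.2 hb _ (Subtype.prop _) (mem_cent.2 fun e he => ?_) fun e he => ?_)
      · refine (mem_cent1.1 ((ac_eq_iff (hDV (h0 he)) _).1 ?_)).symm
        rw [map_prod]
        exact Finset.prod_congr rfl fun d _ => hπ2 e he _
      · refine (ac_eq_iff (hDV (hcomm b b.2 e he)) _).1 ?_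
        rw [map_prod]
        refine Fintype.prod_equiv (Equiv.mulLeft ⟨e, he⟩) _ _ fun d => ?_
        rw [hπ1 _ (hcomm b b.2 e he), ← ac_mul (hDV (hcomm b b.2 e he)) (hDV (hcomm b b.2 d d.2))]
        congr 3
        have := mul_comm_of_abelian hD (conj_mem_of_norm (hAD b.2) (inv_mem he)) (hcomm b b.2 d d.2)
        change _ = ⁅e * d, (b : X)⁆
        calc ⁅e, (b : X)⁆ * ⁅(d : X), (b : X)⁆ = e * ((b * e⁻¹ * (b : X)⁻¹) * ⁅(d : X), (b : X)⁆) := by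
              simp [commutatorElement_def, mul_assoc]
          _ = _ := by rw [this]; simp [commutatorElement_def, mul_assoc]
  simp only [map_prod] at h2
  rw [Finset.prod_comm, Finset.prod_congr rfl fun b _ => h3 b, Finset.prod_ite, Finset.prod_const, Finset.prod_const_one,
    mul_one, ← pow_mul] at h2
  have h4 : (Finset.univ.filter fun b : A => (b : X) ∈ cm D D₀).card ∣ Nat.card A := by
    have := ((cm D D₀).subgroupOf A).card_subgroup_dvd_card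
    rwa [Nat.card_eq_fintype_card, Fintype.card_of_subtype (Finset.univ.filter fun b : A => (b : X) ∈ cm D D₀)
      (by simp [Subgroup.mem_subgroupOf])] at this
  have h5 : orderOf v' = 1 := (Nat.coprime_self _).1 (Nat.Coprime.coprime_dvd_left (orderOf_dvd_of_pow_eq_one h2)
    (Nat.Coprime.coprime_dvd_right (orderOf_dvd_natCard v') (Nat.Coprime.mul_left (Nat.Coprime.mul_left
      (hcD.coprime_dvd_left (card_dvd h0)) hcD) (hcA.coprime_dvd_left h4))))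
  exact congrArg Subtype.val (orderOf_eq_one_iff.1 h5)

theorem lemS [Finite X] (hV : IsMulCommutative V) (hD : IsMulCommutative D) (hDV : D ≤ N_(V)) (hAV : A ≤ N_(V))
    (hAD : A ≤ N_(D)) (h0 : D₀ ≤ D) (hcD : (Nat.card D).Coprime (Nat.card V)) (hcA : (Nat.card A).Coprime (Nat.card V))
    (hfix : V ⊓ C_(A) = ⊥) (hmax : ∀ D', D₀ < D' → D' ≤ D → V ⊓ C_(D') = ⊥) :
    V ⊓ C_(D₀) ⊓ C_(A ⊓ cm D D₀) = ⊥ := by
  refine norm_lemma (E := ⊥) hV hD hDV hAV hAD h0 hcD hcA le_rfl hDV bot_le bot_le le_cent_bot (by rwa [sup_bot_eq]) ?_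
  intro a ha hb w hw h1 h2
  rw [mem_cm (le_norm_of_abelian hD h0) h0] at hb
  push Not at hb
  obtain ⟨d, hd, hb⟩ := hb
  refine Subgroup.mem_bot.1 ((hmax (D₀ ⊔ Subgroup.zpowers ⁅d, a⁆) ?_ (sup_le h0 ?_)).le ⟨hw, ?_⟩)
  · exact left_lt_sup.2 fun h => hb (h (Subgroup.mem_zpowers _))
  · exact Subgroup.zpowers_le.2 (comm_le_left hAD (Subgroup.commutator_mem_commutator hd ha))
  · rw [cent_sup, cent_zpowers]
    exact ⟨h1, h2 d hd⟩

theorem lemF [Finite X] (hV : IsMulCommutative V) (hD : IsMulCommutative D) (hD0 : D ≠ ⊥) (hDV : D ≤ N_(V)) (hAV : A ≤ N_(V))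
    (hAD : A ≤ N_(D)) (hcD : (Nat.card D).Coprime (Nat.card V)) (hcA : (Nat.card A).Coprime (Nat.card V))
    (hY : Y ≤ V) (hDY : D ≤ N_(Y)) (hE : E ≤ N_(A)) (hEV : E ≤ N_(V)) (hYE : Y ≤ C_(E)) (hfix : V ⊓ C_(A ⊔ E) = ⊥)
    (hreg : Semiregular D A) (hVD : V ⊓ C_(D) = ⊥) : Y = ⊥ := by
  have := norm_lemma (D₀ := ⊥) hV hD hDV hAV hAD bot_le hcD hcA hY hDY hE hEV hYE hfix (by
    intro a ha hb w hw _ h2
    refine Subgroup.mem_bot.1 (hVD.le ⟨hw, mem_cent.2 fun k hk => ?_⟩)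
    obtain ⟨c, hc, rfl⟩ := exists_eq_commutator_of_fpf (hAD ha) (hreg a ha fun e => hb (e ▸ one_mem _)) hk
    exact (mem_cent1.1 (h2 c hc)).symm)
  have h1 : A ⊓ cm D ⊥ = ⊥ := by
    by_contra h
    refine hD0 (eq_bot_mono (hreg.cent inf_le_left h) (le_inf le_rfl ?_))
    exact comm_eq_bot.1 (le_bot_iff.1 (comm_cm le_norm_bot inf_le_right))
  simpa [h1] using this

theorem exists_max_cent [Finite X] (hV : V ≠ ⊥) (D : Subgroup X) :
    ∃ D₀ ≤ D, V ⊓ C_(D₀) ≠ ⊥ ∧ ∀ D', D₀ < D' → D' ≤ D → V ⊓ C_(D') = ⊥ := by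
  obtain ⟨D₀, ⟨h1, h2⟩, h3⟩ := (wellFounded_gt (α := Subgroup X)).has_min {D₀ | D₀ ≤ D ∧ V ⊓ C_(D₀) ≠ ⊥}
    ⟨⊥, bot_le, by simpa using hV⟩
  exact ⟨D₀, h1, h2, fun D' h4 h5 => by_contra fun h6 => h3 D' ⟨h5, h6⟩ h4⟩

/-- class two groups with `Z(K) = Z ≥ K'` -/
structure Xsp (K Z : Subgroup X) : Prop where
  le : Z ≤ K
  cent : Z ≤ C_(K)
  der : ⁅K, K⁆ ≤ Z
  zc : K ⊓ C_(K) ≤ Z
  ne : K ≠ Z

variable [Finite X]

theorem exists_irr_faithful {t : ℕ} (ht : t.Prime) {G : Subgroup X} (hV : IsElementaryAbelian t V) (hV0 : V ≠ ⊥)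
    (hG : ¬ t ∣ Nat.card G) (hGV : G ≤ N_(V)) (hZ : Z ≤ G) (hreg : Semiregular V Z) :
    ∃ ψ, IrrOn G ψ ∧ (∀ z ∈ Z, ψ z = ψ 1 → z = 1) ∧ ∀ R ≤ G, V ⊓ C_(R) = ⊥ → fdim R ψ = 0 := by
  have := Fact.mk ht
  obtain ⟨χ, h1, h2, -⟩ := exists_charOn_of_elementary hV hG hGV
  have h3 : ∀ R ≤ G, V ⊓ C_(R) = ⊥ → fdim R χ = 0 := fun R hR h => by
    have := h2 R hR
    rw [h, Subgroup.card_bot] at this
    exact (Nat.pow_eq_one.1 this.symm).resolve_left ht.ne_one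
  obtain ⟨ψ, φ, h4, h5, e⟩ := h1.exists_irr (by
    rw [← h1.fdim_bot]
    intro h
    have := h2 ⊥ bot_le
    rw [Nat.cast_eq_zero.1 h, cent_bot, inf_top_eq, pow_zero, BG.card_eq_one] at this
    exact hV0 this)
  have h6 : ∀ R ≤ G, V ⊓ C_(R) = ⊥ → fdim R ψ = 0 := fun R hR h =>
    Nat.le_zero.1 ((fdim_le_of_add h4.charOn h5 e hR).trans (h3 R hR h).le)
  refine ⟨ψ, h4, fun z hz h => by_contra fun hne => ?_, h6⟩
  have h7 := h6 _ (Subgroup.zpowers_le.2 (hZ hz)) (by rw [cent_zpowers]; exact hreg z hz hne)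
  rw [fdim_eq_of_ker h4.charOn fun x hx => (h4.charOn.mem_kerOn.1
    (Subgroup.zpowers_le.2 (h4.charOn.mem_kerOn.2 ⟨hZ hz, h⟩) hx)).2] at h7
  exact h4.fdim_bot_pos.ne' h7

theorem Xsp.one_lt (h : Xsp K Z) {s : ℕ} (hs : Nat.card K = s ^ 2 * Nat.card Z) : 1 < s := by
  by_contra h4
  have := card_pos K
  have h5 : s = 1 := by
    rcases s with _ | _ | s
    · simp at hs; omega
    · rfl
    · omega
  rw [h5] at hs
  exact h.ne (eq_of_le_of_card_le h.le (by omega)).symm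

theorem exists_irr_faithful' (hZ : Z ≤ K) (hp : (Nat.card Z).Prime) : ∃ θ, IrrOn K θ ∧ ∀ z ∈ Z, θ z = θ 1 → z = 1 := by
  obtain ⟨z, hz, h1⟩ := exists_mem_ne_one (ne_bot_of_prime hp)
  obtain ⟨χ, hχ⟩ : ∃ χ : IrrCharacter K, (χ : K → ℂ) ⟨z, hZ hz⟩ ≠ (χ : K → ℂ) 1 := by
    by_contra h
    push Not at h
    exact h1 (congrArg Subtype.val (eq_one_of_forall_irr h))
  have h2 := irrOn_extend χ.2
  refine ⟨_, h2, fun y hy h => by_contra fun h3 => hχ ?_⟩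
  have h4 := (h2.charOn.mem_kerOn.1 (((BG.zpowers_eq_of_prime hp hy h3).ge.trans
    (Subgroup.zpowers_le.2 (h2.charOn.mem_kerOn.2 ⟨hZ hy, h⟩))) hz)).2
  rwa [extend_apply _ (hZ hz), extend_apply _ (one_mem _)] at h4

theorem Xsp.exists_sq (h : Xsp K Z) (hp : (Nat.card Z).Prime) : ∃ s, Nat.card K = s ^ 2 * Nat.card Z := by
  obtain ⟨θ, h1, h2⟩ := exists_irr_faithful' h.le hp
  exact ⟨_, h1.card_eq_sq h.le h.cent h.der h.zc h2⟩

theorem Xsp.norm_eq (hX : Xsp K Z) {ψ : X → ℂ} (h : IrrOn (K ⊔ R) ψ) (hR : R ≤ N_(K))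
    (hcop : (Nat.card R).Coprime (Nat.card K)) (hZR : Z ≤ C_(R)) (hcR : ∀ r ∈ R, r ≠ 1 → K ⊓ C_[r] ≤ Z)
    (hf : ∀ z ∈ Z, ψ z = ψ 1 → z = 1) {s : ℕ} (hs : Nat.card K = s ^ 2 * Nat.card Z) [Fintype R] [DecidableEq R] :
    (Nat.card R : ℝ) * s ^ 2 = (fdim ⊥ ψ : ℝ) ^ 2 + s ^ 2 * ∑ x ∈ Finset.univ.erase (1 : R), ‖ψ x‖ ^ 2 := by
  have hc' := h.charOn
  have hZ := hX.le
  have hZc : Z ≤ C_(K ⊔ R) := le_cent_sup hX.cent hZR
  have hZG : Z ≤ K ⊔ R := hZ.trans le_sup_left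
  have hL : K ⊔ R ≤ N_(Z) := le_norm_of_cent (cent_symm hZc)
  have hKL := le_sup_left.trans hL
  have hRL := le_sup_right.trans hL
  have hd : K ⊓ R = ⊥ := BG.inf_eq_bot_of_coprime hcop.symm
  have hfp := fpf_im (qm Z) hKL hRL hR (coprime_mono hcop le_rfl inf_le_left) (by
    intro r hr' h1
    rw [kr_qm]; exact hcR r hr' h1)
  set d := fdim ⊥ ψ with hddef
  have hZpos : 0 < Nat.card Z := Nat.card_pos
  have hF : ∀ r ∈ R, r ≠ 1 → ∀ k ∈ K, ψ (k * r) * conj (ψ (k * r)) = ψ r * conj (ψ r) := by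
    intro r hr' h1 k hk
    have h3 : qm Z ⟨r, hRL hr'⟩ ≠ 1 := fun h4 => by
      have : r ∈ K ⊓ R := ⟨hZ (kr_qm Z ▸ mem_kr.mpr ⟨_, h4⟩), hr'⟩
      rw [hd] at this
      exact h1 this
    obtain ⟨_, ⟨c, hcK, rfl⟩, h4⟩ := exists_eq_commutator_of_fpf
      (im_le_normalizer hR (mem_im_of hr' (hRL hr'))) (hfp _ (mem_im_of hr' _) h3)
      (mem_im_of (f := qm Z) hk (hKL hk))
    have h5 : k * (c * r * (c : X)⁻¹ * r⁻¹)⁻¹ ∈ Z := by
      refine (kr_qm Z).le ((coe_mem_kr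
        (x := ⟨k, hKL hk⟩ * (c * ⟨r, hRL hr'⟩ * c⁻¹ * ⟨r, hRL hr'⟩⁻¹)⁻¹)).mpr ?_)
      simp only [map_mul, map_inv]
      rw [← h4, mul_inv_cancel]
    have hcG : (c : X) ∈ K ⊔ R := Subgroup.mem_sup_left hcK
    have hrG : r ∈ K ⊔ R := Subgroup.mem_sup_right hr'
    have h6 : k * r = (k * (c * r * (c : X)⁻¹ * r⁻¹)⁻¹) * (c * r * (c : X)⁻¹ * r⁻¹ * r) := by
      group
    rw [inv_mul_cancel_right] at h6
    rw [h6, h.apply_mul_central (hZG h5) (hZc h5) (mul_mem (mul_mem hcG hrG) (inv_mem hcG)),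
      hc'.conj_eq hrG hcG, Complex.mul_conj', Complex.mul_conj', norm_mul, norm_div,
      h.norm_central (hZG h5) (hZc h5), ← hc'.fdim_bot, Complex.norm_natCast,
      div_self (by exact_mod_cast h.fdim_bot_pos.ne'), one_mul]
  have h3 := ssum_frobenius hR hd (f := fun x => ψ x * conj (ψ x)) hF
  rw [h.ssum_normSq, h.ssum_normSq_class2 le_sup_left hZ hZc hX.der hX.zc hf, card_sup_of_disj hR hd] at h3
  set S : ℝ := ∑ x ∈ Finset.univ.erase (1 : R), ‖ψ x‖ ^ 2 with hS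
  have h4 : ssum R (fun x => ψ x * conj (ψ x)) - ψ 1 * conj (ψ 1) = (S : ℂ) := by
    rw [ssum_eq, ← Finset.add_sum_erase _ _ (Finset.mem_univ (1 : R))]
    simp [hS, Complex.mul_conj']
  rw [h4, hs] at h3
  have h6 : (Nat.card Z : ℂ) ≠ 0 := by exact_mod_cast hZpos.ne'
  have h7 : (Nat.card R : ℂ) * s ^ 2 = d ^ 2 + s ^ 2 * S := by
    apply mul_left_cancel₀ h6
    push_cast at h3
    linear_combination h3
  exact_mod_cast h7

theorem Xsp.up (hX : Xsp K Z) {t : ℕ} (ht : t.Prime) (hV : IsElementaryAbelian t V) (hV0 : V ≠ ⊥)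
    (hK : ¬ t ∣ Nat.card K) (hKV : K ≤ N_(V)) (hreg : Semiregular V Z) (hR : R ≤ N_(K))
    (hcop : (Nat.card R).Coprime (Nat.card K)) (hZR : Z ≤ C_(R)) (hcR : ∀ r ∈ R, r ≠ 1 → K ⊓ C_[r] ≤ Z)
    (hRt : ¬ t ∣ Nat.card R) (hRV : R ≤ N_(V)) (hfix : V ⊓ C_(R) = ⊥) {s : ℕ} (hs : Nat.card K = s ^ 2 * Nat.card Z) :
    s + 1 ≤ Nat.card R := by
  classical
  obtain ⟨ψ, h, hf, h0⟩ := exists_irr_faithful ht hV hV0 (not_dvd_sup ht hK hRt hR) (sup_le hKV hRV)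
    (hX.le.trans le_sup_left) hreg
  replace h0 := h0 R le_sup_right hfix
  have := Fintype.ofFinite R
  have h5 := hX.norm_eq h hR hcop hZR hcR hf hs
  have hc' := h.charOn
  have hZ := hX.le
  have hZc : Z ≤ C_(K ⊔ R) := le_cent_sup hX.cent hZR
  have hZG : Z ≤ K ⊔ R := hZ.trans le_sup_left
  obtain ⟨θ, φ, hθ, hφ, e⟩ := (hc'.mono le_sup_left).exists_irr h.apply_one_ne_zero
  have hsd : fdim ⊥ ψ = fdim ⊥ θ + fdim ⊥ φ := by
    rw [← (hθ.charOn.mono bot_le).fdim_add (hφ.mono bot_le)]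
    exact fdim_congr fun x hx => e x (bot_le (a := K) hx)
  have hd0 : (fdim ⊥ ψ : ℂ) ≠ 0 := by exact_mod_cast h.fdim_bot_pos.ne'
  have hs' := hθ.card_eq_sq hZ hX.cent hX.der hX.zc (by
    intro z hz h1
    apply hf z hz
    have hl : ‖ψ z / ψ 1‖ = 1 := by
      rw [norm_div, h.norm_central (hZG hz) (hZc hz), ← hc'.fdim_bot, Complex.norm_natCast,
        div_self (by exact_mod_cast h.fdim_bot_pos.ne')]
    have h3 := eq_of_add_eq_of_norm_le (hθ.charOn.norm_le (hZ hz)) (hφ.norm_le (hZ hz)) hl (by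
      rw [← e z (hZ hz), ← hc'.fdim_bot]
      push_cast
      rw [← Nat.cast_add, ← hsd, div_mul_cancel₀ _ hd0])
    rw [h1, ← hθ.charOn.fdim_bot] at h3
    have h4 : ψ z / ψ 1 = 1 := by
      have h5 : (fdim ⊥ θ : ℂ) ≠ 0 := by exact_mod_cast hθ.fdim_bot_pos.ne'
      exact (mul_eq_right₀ h5).mp h3.symm
    exact (div_eq_one_iff_eq h.apply_one_ne_zero).mp h4)
  have hse : fdim ⊥ θ = s := by
    rw [hs] at hs'
    exact (Nat.pow_left_injective two_ne_zero (Nat.eq_of_mul_eq_mul_right (card_pos Z) hs')).symm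
  rw [hse] at hsd
  set d := fdim ⊥ ψ with hddef
  set S : ℝ := ∑ x ∈ Finset.univ.erase (1 : R), ‖ψ x‖ ^ 2 with hS
  have hs1 := hX.one_lt hs
  have h6 : (d : ℝ) ^ 2 ≤ (Nat.card R - 1 : ℝ) * S := by
    have h7 := (hc'.mono le_sup_right).ssum_eq
    rw [h0, Nat.cast_zero, mul_zero, ssum_eq, ← Finset.add_sum_erase _ _ (Finset.mem_univ (1 : R)),
      OneMemClass.coe_one, ← hc'.fdim_bot, add_eq_zero_iff_eq_neg] at h7
    have h8 : (d : ℝ) ≤ ∑ x ∈ Finset.univ.erase (1 : R), ‖ψ x‖ := by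
      refine le_trans ?_ (norm_sum_le _ _)
      rw [← norm_neg, ← h7, Complex.norm_natCast]
    refine (pow_le_pow_left₀ (by positivity) h8 2).trans (sq_sum_le_card_mul_sum_sq.trans ?_)
    rw [Finset.card_erase_of_mem (Finset.mem_univ _), Finset.card_univ, ← Nat.card_eq_fintype_card,
      Nat.cast_sub (card_pos R), Nat.cast_one]
  have h7 : (s : ℝ) ≤ d := by exact_mod_cast hsd ▸ Nat.le_add_right _ _
  have hr2 : (1 : ℝ) ≤ Nat.card R := by exact_mod_cast card_pos R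
  have hs2 : (1 : ℝ) < s := by exact_mod_cast hs1
  have h8 : (s : ℝ) ≤ Nat.card R - 1 := by
    have h9 : (s : ℝ) ^ 2 ≤ d ^ 2 := pow_le_pow_left₀ (by positivity) h7 2
    have hS0 : 0 ≤ S := Finset.sum_nonneg fun _ _ => by positivity
    have h10 : S ≤ Nat.card R - 1 := by
      have : (s : ℝ) ^ 2 * S ≤ s ^ 2 * (Nat.card R - 1) := by nlinarith
      exact le_of_mul_le_mul_left this (by positivity)
    have h11 : (s : ℝ) ^ 2 ≤ (Nat.card R - 1) ^ 2 := by nlinarith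
    exact (pow_le_pow_iff_left₀ (by positivity) (by linarith) two_ne_zero).mp h11
  have : (s : ℝ) + 1 ≤ Nat.card R := by linarith
  exact_mod_cast this

omit [Finite X] in
theorem deg_le_inner {G : Type*} [Group G] [Fintype G] [IsMulCommutative G] {χ : G → ℂ} (h : IsCharacter G χ) :
    (χ 1).re ≤ (classInner χ χ).re := by
  refine h.induction_on (P := fun χ => (χ 1).re ≤ (classInner χ χ).re) (by simp) (fun ψ hψ => ?_) ?_
  · rw [hψ.classInner_self, hψ.apply_one_of_comm]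
  · intro φ ψ h1 h2 h3 h4
    obtain ⟨m, hm⟩ := h1.exists_classInner_eq_nat h2
    obtain ⟨n, hn⟩ := h2.exists_classInner_eq_nat h1
    rw [classInner_add_left, classInner_add_right, classInner_add_right, hm, hn]
    simp only [Pi.add_apply, Complex.add_re, Complex.natCast_re]
    have : (0 : ℝ) ≤ m := by positivity
    have : (0 : ℝ) ≤ n := by positivity
    linarith

theorem Xsp.low (hX : Xsp K Z) (hp : (Nat.card Z).Prime) (hR : R ≤ N_(K)) (hcyc : IsCyclic R)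
    (hcop : (Nat.card R).Coprime (Nat.card K)) (hZR : Z ≤ C_(R)) (hcR : ∀ r ∈ R, r ≠ 1 → K ⊓ C_[r] ≤ Z)
    {s : ℕ} (hs : Nat.card K = s ^ 2 * Nat.card Z) : Nat.card R ≤ s + 1 := by
  classical
  obtain ⟨θ, hθ, hf⟩ := exists_irr_faithful' hX.le hp
  have hs' := hθ.card_eq_sq hX.le hX.cent hX.der hX.zc hf
  have hse : fdim ⊥ θ = s := by
    rw [hs] at hs'
    exact (Nat.pow_left_injective two_ne_zero (Nat.eq_of_mul_eq_mul_right (card_pos Z) hs')).symm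
  have hZc : Z ≤ C_(K ⊔ R) := le_cent_sup hX.cent hZR
  have hn : K ⊔ R ≤ N_(K) := sup_le_norm_left hR
  have := normal_subgroupOf hn
  obtain ⟨χ, h1, h2⟩ := H07.exists_ext_of_cyclic (K.subgroupOf (K ⊔ R)) (θ := fun n => θ n) (by
    refine isCyclic_of_surjective (quoEquivQuot hn).symm (MulEquiv.surjective _) (hH := ?_)
    rw [quo_sup_left hR]
    exact cyclic_quo K hcyc) (hθ.comp_mulEquiv (Subgroup.subgroupOfEquivOfLe le_sup_left)) ((H07.conjFun_eq_iff _).2 (by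
      intro g n
      change θ (g * n * (g : X)⁻¹) = θ n
      by_cases hz : ((n : ↥(K ⊔ R)) : X) ∈ Z
      · rw [mem_cent.1 (hZc hz) g g.2, mul_inv_cancel_right]
      · have hnK : ((n : ↥(K ⊔ R)) : X) ∈ K := n.2
        rw [hθ.vanish le_rfl hX.le hX.cent hX.der hX.zc hf hnK hz,
          hθ.vanish le_rfl hX.le hX.cent hX.der hX.zc hf (conj_mem_of_norm (hn g.2) hnK)]
        intro h3
        apply hz
        have := conj_mem_of_norm' (le_norm_of_cent (cent_symm hZc) g.2) h3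
        simpa [mul_assoc] using this))
  have h3 := irrOn_extend h1
  set ψ := extendByZero (K ⊔ R) χ with hψ
  have h4 : ∀ k ∈ K, ψ k = θ k := fun k hk => by
    rw [hψ, extend_apply _ (Subgroup.mem_sup_left hk)]
    exact h2 ⟨⟨k, _⟩, hk⟩
  have := Fintype.ofFinite R
  have h5 := hX.norm_eq h3 hR hcop hZR hcR (fun z hz h => hf z hz (by rwa [h4 z (hX.le hz), h4 1 (one_mem _)] at h)) hs
  rw [fdim_congr (H := ⊥) fun x hx => h4 x (bot_le (a := K) hx), hse] at h5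
  have := abelian_of_cyclic hcyc
  have h6 := deg_le_inner (h3.charOn.mono le_sup_right)
  have h7 : ψ 1 = s := by rw [h4 1 (one_mem _), ← hθ.charOn.fdim_bot, hse]
  rw [classInner_self_re, ← Finset.add_sum_erase _ _ (Finset.mem_univ (1 : R))] at h6
  simp only [OneMemClass.coe_one, h7, Complex.natCast_re, Complex.norm_natCast] at h6
  set S : ℝ := ∑ x ∈ Finset.univ.erase (1 : R), ‖ψ x‖ ^ 2 with hS
  have hs2 : (1 : ℝ) < s := by exact_mod_cast hX.one_lt hs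
  have hr2 : (0 : ℝ) < Nat.card R := by exact_mod_cast card_pos R
  rw [le_inv_mul_iff₀ hr2] at h6
  have h8 : S = Nat.card R - 1 := by
    have : (s : ℝ) ^ 2 * S = s ^ 2 * (Nat.card R - 1) := by linarith
    exact mul_left_cancel₀ (by positivity) this
  have h9 : (Nat.card R : ℝ) * (s - 1) ≤ (s + 1) * (s - 1) := by nlinarith
  have h10 := le_of_mul_le_mul_right h9 (by linarith)
  exact_mod_cast h10

end H03
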