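import Mathlib
import Cfsg.Agent.H03.FP1
import Cfsg.Agent.H04.Class2
import Cfsg.Agent.H02.Thompson

/-!
Fixed point free operator groups, components (namespace H03).
* `quo_cent_disj`, `inv_of_fpf`, `abelian_of_fpf`, `der_elem`, `exists_comp` (a component of an abelian group on a module),
  `Xsp.comm`, `Xsp.centr`, the situation `Sit` and `exists_sit`;
* `comp2`, `two_core` (cyclic operator `p`-group, `p` odd or of order 4), `comm_le_fit`, `shult_gross`, `four_der`.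
-/

set_option autoImplicit false
open Cfsg BG H24
open scoped IsMulCommutative commutatorElement

namespace H03

universe u
variable {X : Type u} [Group X] [Finite X] {V D A B H L N S T U K R Q Z : Subgroup X} {a g : X} {p q s t : ℕ}

theorem quo_cent_disj (hA : A ≤ N_(N)) (hK : K ≤ N_(N)) (hAK : A ≤ N_(K)) (hd : N ⊓ K = ⊥) :
    quo N K ⊓ C_(quo N A) = quo N (K ⊓ C_(A)) :=
  (quo_cent_coprime' hA hK hAK (by rw [hd]; simp) (Or.inr (by rw [hd]; infer_instance))).symm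

theorem quo_cent_disj_bot (hA : A ≤ N_(N)) (hK : K ≤ N_(N)) (hAK : A ≤ N_(K)) (hd : N ⊓ K = ⊥) (h : K ⊓ C_(A) = ⊥) :
    quo N K ⊓ C_(quo N A) = ⊥ := by rw [quo_cent_disj hA hK hAK hd, h, quo_bot]

theorem quo_cent_bot (hA : A ≤ N_(N)) (hK : K ≤ N_(N)) (hAK : A ≤ N_(K)) (hc : (Nat.card A).Coprime (Nat.card K))
    (hs : Group.IsSolvable K) (h : K ⊓ C_(A) ≤ N) : quo N K ⊓ C_(quo N A) = ⊥ := by
  rw [← quo_cent_coprime' hA hK hAK (coprime_mono hc le_rfl inf_le_right) (Or.inr (sol_of_le hs inf_le_right))]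
  exact quo_eq_bot_of_le h

theorem inv_of_fpf (ha : a ∈ N_(K)) (h2 : a * a ∈ C_(K)) (h : K ⊓ C_[a] = ⊥) : ∀ k ∈ K, a * k * a⁻¹ = k⁻¹ := by
  intro k hk
  obtain ⟨c, hc, rfl⟩ := exists_eq_commutator_of_fpf ha h hk
  have := mem_cent.1 h2 _ (inv_mem hc)
  calc a * (c * a * c⁻¹ * a⁻¹) * a⁻¹ = a * c * a⁻¹ * (a * a * c⁻¹) * a⁻¹ * a⁻¹ := by group
    _ = _ := by rw [← this]; group

omit [Finite X] in
theorem abelian_of_inv (h : ∀ k ∈ K, a * k * a⁻¹ = k⁻¹) : IsMulCommutative K :=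
  abelian_iff.2 (le_cent_iff.2 fun x hx y hy => by
    have h1 := h _ (mul_mem hx hy)
    rw [show a * (x * y) * a⁻¹ = (a * x * a⁻¹) * (a * y * a⁻¹) by group, h x hx, h y hy, ← mul_inv_rev] at h1
    exact (inv_injective h1).symm)

theorem abelian_of_fpf (ha : a ∈ N_(K)) (h2 : a * a ∈ C_(K)) (h : K ⊓ C_[a] = ⊥) : IsMulCommutative K :=
  abelian_of_inv (inv_of_fpf ha h2 h)

theorem le_zpowers_of_cyc (hp : p.Prime) (hA : IsCyclic A) (hAp : IsPGroup p A) (hU : U ≤ A) (hc : Nat.card U = p)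
    (ha : a ∈ A) (h1 : a ≠ 1) : U ≤ Subgroup.zpowers a :=
  le_of_card_dvd_of_cyclic hA hU (Subgroup.zpowers_le.2 ha)
    (hc ▸ pg_dvd hp (pg_le hAp (Subgroup.zpowers_le.2 ha)) (zpowers_ne_bot h1))

theorem cent1_le_of_cyc (hp : p.Prime) (hA : IsCyclic A) (hAp : IsPGroup p A) (hU : U ≤ A) (hc : Nat.card U = p)
    (ha : a ∈ A) (h1 : a ≠ 1) : C_[a] ≤ C_(U) := by
  rw [← cent_zpowers]; exact cent_anti (le_zpowers_of_cyc hp hA hAp hU hc ha h1)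

theorem der_elem (hs : s.Prime) (h : MinAct s H L S) : IsElementaryAbelian s ⁅S, S⁆ := by
  have := Fact.mk hs
  have h1 : IsMulCommutative ↥⁅S, S⁆ := abelian_iff.2 (h.der_le_cent.trans (cent_anti (der_le S)))
  refine (omega_elemAb s h1).of_le (Subgroup.commutator_le.2 fun x hx y hy => ?_)
  have h2 := Subgroup.commutator_mem_commutator hx hy
  refine mem_omega h2 ?_
  rw [← H04.commutatorElement_pow_left (mem_cent.1 (h.der_le_cent h2) x hx).symm, commutatorElement_eq_one_iff_mul_comm]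
  exact (mem_cent.1 (h.phi_le_cent (pow_mem_phi hs h.pg hx)) y hy).symm

theorem comm_inf_cent (hV : IsMulCommutative V) (hZV : Z ≤ N_(V)) (hc : (Nat.card Z).Coprime (Nat.card V)) :
    ⁅V, Z⁆ ⊓ C_(Z) = ⊥ :=
  eq_bot_mono (coprime_abelian_dprod hZV hc hV).disj
    (le_inf (inf_le_inf_right _ (comm_le_left hZV)) inf_le_left)

theorem exists_comp (hV : IsMulCommutative V) (hZ : IsMulCommutative Z) (hZV : Z ≤ N_(V)) (hAV : A ≤ N_(V))
    (hAZ : A ≤ N_(Z)) (hcZ : (Nat.card Z).Coprime (Nat.card V)) (hcA : (Nat.card A).Coprime (Nat.card V))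
    (hfix : V ⊓ C_(A) = ⊥) (hne : ¬ Z ≤ C_(V)) :
    ∃ Z₀ V₀, Z₀ < Z ∧ V₀ ≤ V ∧ V₀ ≠ ⊥ ∧ Z₀ ≤ C_(V₀) ∧ (∀ z ∈ Z, z ∉ Z₀ → V₀ ⊓ C_[z] = ⊥) ∧
      V₀ ⊓ C_(A ⊓ cm Z Z₀) = ⊥ ∧ (∀ Y, Y ≤ N_(V) → Y ≤ N_(Z) → Y ≤ N_(Z₀) → Y ≤ N_(V₀)) ∧
      ∀ x ∈ N_(V), x ∈ N_(Z) → A ⊓ cm Z (cj x Z₀) ≠ ⊥ := by
  have h1 : ⁅V, Z⁆ ≤ V := comm_le_left hZV
  have h2 := comm_inf_cent hV hZV hcZ
  have h3 : ⁅V, Z⁆ ≠ ⊥ := fun e => hne (cent_symm (comm_eq_bot.1 e))
  obtain ⟨Z₀, h4, h5, h6⟩ := exists_max_cent h3 Z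
  have key : ∀ x ∈ N_(V), x ∈ N_(Z) → ⁅V, Z⁆ ⊓ C_(cj x Z₀) ⊓ C_(A ⊓ cm Z (cj x Z₀)) = ⊥ := by
    intro x hx hx'
    refine lemS (abelian_of_le hV h1) hZ (right_le_norm_comm _ _) (norm_comm hAV hAZ) hAZ (cj_le_of_mem_norm h4 hx')
      (coprime_mono hcZ le_rfl h1) (coprime_mono hcA le_rfl h1) (eq_bot_mono hfix (inf_le_inf_right _ h1)) ?_
    intro D' h7 h8
    have h9 := h6 (cj x⁻¹ D') (by rwa [← cj_lt_cj_iff (g := x), cj_cj_inv]) (cj_le_of_mem_norm h8 (inv_mem hx'))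
    have h10 : x ∈ N_(⁅V, Z⁆) := norm_comm (A := N_(V) ⊓ N_(Z)) inf_le_left inf_le_right ⟨hx, hx'⟩
    rwa [← cj_eq_bot_iff (g := x), cj_inf, cj_cent, cj_cj_inv, cj_of_mem_norm h10] at h9
  refine ⟨Z₀, ⁅V, Z⁆ ⊓ C_(Z₀), lt_of_le_of_ne h4 fun e => h5 (e ▸ h2), inf_le_left.trans h1, h5, cent_symm inf_le_right,
    fun z hz hz0 => ?_, by simpa using key 1 (one_mem _) (one_mem _),
    fun Y a b c => norm_inf (norm_comm a b) (norm_cent c), fun x hx hx' e => ?_⟩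
  · rw [inf_assoc, ← cent_zpowers, ← cent_sup]
    exact h6 _ (left_lt_sup.2 fun h => hz0 (h (Subgroup.mem_zpowers _))) (sup_le h4 (Subgroup.zpowers_le.2 hz))
  · have h9 := key x hx hx'
    have h10 : x ∈ N_(⁅V, Z⁆) := norm_comm (A := N_(V) ⊓ N_(Z)) inf_le_left inf_le_right ⟨hx, hx'⟩
    rw [e, cent_bot, inf_top_eq, ← cj_cent, ← cj_of_mem_norm h10, ← cj_inf, cj_eq_bot_iff] at h9
    exact h5 h9

omit [Finite X] in
theorem Xsp.cent_comm (h : Xsp S Z) (hZ : Z ≤ C_(L)) : S ⊓ C_(L) ≤ C_(⁅S, L⁆ ⊔ Z) := by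
  refine le_cent_sup (cent_symm (comm_eq_bot.1 ?_)) (inf_le_left.trans (cent_symm h.cent))
  refine three_subgroup (H := L) (K := S ⊓ C_(L)) ?_ (comm_eq_bot.2 (((comm_mono inf_le_left le_rfl).trans h.der).trans hZ))
  rw [comm_eq_bot.2 (cent_symm inf_le_right), Subgroup.commutator_bot_left]

theorem Xsp.comm (h : Xsp S Z) (hL : L ≤ N_(S)) (hZ : Z ≤ C_(L)) (hc : (Nat.card L).Coprime (Nat.card S))
    (hs : Group.IsSolvable S) (hne : ¬ L ≤ C_(S)) : Xsp (⁅S, L⁆ ⊔ Z) Z ∧ (⁅S, L⁆ ⊔ Z) ⊓ C_(L) ≤ Z := by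
  have h1 : ⁅S, L⁆ ⊔ Z ≤ S := sup_le (comm_le_left hL) h.le
  have h2 : (⁅S, L⁆ ⊔ Z) ⊓ C_(⁅S, L⁆ ⊔ Z) ≤ Z := by
    refine le_trans (le_inf (inf_le_left.trans h1) ?_) h.zc
    conv_rhs => rw [← coprime_comm_sup_cent hL hc (Or.inr hs)]
    exact le_cent_sup (inf_le_right.trans (cent_anti le_sup_left)) (inf_le_left.trans (cent_symm (h.cent_comm hZ)))
  refine ⟨⟨le_sup_right, h.cent.trans (cent_anti h1), (der_mono h1).trans h.der, h2, fun e => hne ?_⟩,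
    le_trans (le_inf inf_le_left ((inf_le_inf_right _ h1).trans (h.cent_comm hZ))) h2⟩
  exact coprime_cent_of_comm hL hc (Or.inr hs) ((le_sup_left.trans e.le).trans hZ)

theorem Xsp.centr (h : Xsp S Z) (hL : L ≤ N_(S)) (hZ : Z ≤ C_(L)) (hc : (Nat.card L).Coprime (Nat.card S))
    (hs : Group.IsSolvable S) (hne : ¬ S ⊓ C_(L) ≤ Z) : Xsp (S ⊓ C_(L)) Z := by
  refine ⟨le_inf h.le hZ, h.cent.trans (cent_anti inf_le_left), (der_mono inf_le_left).trans h.der, ?_, fun e => hne e.le⟩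
  refine le_trans (le_inf (inf_le_left.trans inf_le_left) ?_) h.zc
  conv_rhs => rw [← coprime_comm_sup_cent hL hc (Or.inr hs)]
  exact le_cent_sup (inf_le_left.trans ((h.cent_comm hZ).trans (cent_anti le_sup_left))) inf_le_right

/-- a class two `s`-group with derived group of order `s` acting faithfully on `V`, and `B` without fixed points on `V` -/
structure Sit (t s : ℕ) (V S B : Subgroup X) : Prop where
  ht : t.Prime
  hs : s.Prime
  elem : IsElementaryAbelian t V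
  ne : V ≠ ⊥
  pg : IsPGroup s S
  cSV : (Nat.card S).Coprime (Nat.card V)
  cBV : (Nat.card B).Coprime (Nat.card V)
  cBS : (Nat.card B).Coprime (Nat.card S)
  SV : S ≤ N_(V)
  BV : B ≤ N_(V)
  BS : B ≤ N_(S)
  card : Nat.card ↥⁅S, S⁆ = s
  ZS : ⁅S, S⁆ ≤ C_(S)
  ZB : ⁅S, S⁆ ≤ C_(B)
  faith : S ⊓ C_(V) = ⊥
  fixZ : V ⊓ C_(⁅S, S⁆) = ⊥
  fixB : V ⊓ C_(B) = ⊥

theorem exists_sit (ht : t.Prime) (hs : s.Prime) (h : MinAct s H L S) (hA : A ≤ H) (hV : IsElementaryAbelian t V)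
    (hSV : S ≤ N_(V)) (hHV : H ≤ N_(V)) (cSV : (Nat.card S).Coprime (Nat.card V)) (cAV : (Nat.card A).Coprime (Nat.card V))
    (cAS : (Nat.card A).Coprime (Nat.card S)) (hfix : V ⊓ C_(A) = ⊥) (hne : ¬ ⁅S, S⁆ ≤ C_(V)) :
    ∃ Z₀ V₀, Z₀ < ⁅S, S⁆ ∧ V₀ ≤ V ∧ V₀ ≠ ⊥ ∧ S ≤ N_(V₀) ∧ ¬ S ≤ C_(V₀) ∧ (S ⊓ C_(V₀)) ⊓ ⁅S, S⁆ ≤ Z₀ ∧ Z₀ ≤ C_(V₀) ∧
      V₀ ⊓ C_(A ⊓ cm ⁅S, S⁆ Z₀) = ⊥ ∧ (∀ Y ≤ H, Y ≤ cm ⁅S, S⁆ Z₀ → Y ≤ N_(V₀)) ∧
      Sit t s (quo (S ⊓ C_(V₀)) V₀) (quo (S ⊓ C_(V₀)) S) (quo (S ⊓ C_(V₀)) (A ⊓ cm ⁅S, S⁆ Z₀)) := by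
  have := Fact.mk hs
  have hZ := der_elem hs h
  have hZS := der_le S
  obtain ⟨Z₀, V₀, h1, h2, h3, h4, h5, h6, h7, -⟩ := exists_comp hV.abelian hZ.abelian (hZS.trans hSV) (hA.trans hHV)
    (norm_der (hA.trans h.norm)) (coprime_mono cSV hZS le_rfl) cAV hfix hne
  set Z := ⁅S, S⁆ with hZd
  set B := A ⊓ cm Z Z₀ with hB
  set N := S ⊓ C_(V₀) with hN
  have hS0 : S ≤ N_(V₀) := h7 S hSV (le_norm_der S) (le_norm_of_cent (cent_symm (h1.le.trans h.der_le_cent)))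
  have hY : ∀ Y ≤ H, Y ≤ cm Z Z₀ → Y ≤ N_(V₀) := fun Y a b =>
    h7 Y (a.trans hHV) (norm_der (a.trans h.norm)) (b.trans cm_le_norm)
  have hB0 : B ≤ N_(V₀) := hY B (inf_le_left.trans hA) inf_le_right
  have hBS : B ≤ N_(S) := (inf_le_left.trans hA).trans h.norm
  have hNZ : N ⊓ Z ≤ Z₀ := fun z hz => by_contra fun h0 => h3 (eq_bot_mono (h5 z hz.2 h0)
    (le_inf le_rfl (le_cent1_iff.2 hz.1.2)))
  have nS : S ≤ N_(N) := le_norm_inf_cent hS0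
  have nV : V₀ ≤ N_(N) := le_norm_of_cent (cent_symm inf_le_right)
  have nB : B ≤ N_(N) := norm_inf hBS (norm_cent hB0)
  have nZ : Z ≤ N_(N) := hZS.trans nS
  have cS0 := coprime_mono cSV le_rfl h2
  have hd : N ⊓ V₀ = ⊥ := BG.inf_eq_bot_of_coprime (coprime_mono cS0 inf_le_left le_rfl)
  have hq0 : quo N V₀ ≠ ⊥ := quo_ne_bot nV fun e => h3 (eq_bot_mono hd (le_inf e le_rfl))
  have hZN : ¬ Z ≤ N := fun e => h1.not_ge ((le_inf e le_rfl).trans hNZ)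
  have hreg : Semiregular (quo N V₀) (quo N Z) := by
    intro z' hz' hz1
    obtain ⟨z, hz, hzN, rfl⟩ := mem_quo.1 hz'
    rw [← cent_zpowers, ← quo_zpowers]
    refine quo_cent_disj_bot (Subgroup.zpowers_le.2 hzN) nV (Subgroup.zpowers_le.2 (hS0 (hZS hz))) hd ?_
    rw [cent_zpowers]
    exact h5 z hz fun h0 => hz1 (qmk_eq_one.2 ⟨hZS hz, h4 h0⟩)
  have hZq := elem_quo N hZ
  have hVq := elem_quo N (hV.of_le h2)
  refine ⟨Z₀, V₀, h1, h2, h3, hS0, fun e => hZN (le_inf hZS (hZS.trans e)), hNZ, h4, h6, hY, ht, hs, hVq, hq0,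
    pgroup_quo N h.pg, coprime_quo N cS0, coprime_quo N (coprime_mono cAV inf_le_left h2),
    coprime_quo N (coprime_mono cAS inf_le_left le_rfl), quo_le_norm N hS0, quo_le_norm N hB0, quo_le_norm N hBS,
    ?_, ?_, ?_, ?_, ?_, quo_cent_disj_bot nB nV hB0 hd h6⟩
  · rw [← quo_comm nS nS]
    have := hZq.abelian
    have := nil_of_abelian hVq.abelian
    exact le_antisymm (hZq.card_le_of_cyclic hs (H01.isCyclic_of_semiregular hq0 (quo_le_norm N (hZS.trans hS0)) hreg))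
      (Nat.le_of_dvd (card_pos _) (pg_dvd hs hZq.pg (quo_ne_bot nZ hZN)))
  · rw [← quo_comm nS nS]
    exact quo_le_cent N h.der_le_cent
  · rw [← quo_comm nS nS, quo_le_cent_iff nZ nB]
    exact (comm_cm (le_norm_of_abelian hZ.abelian h1.le) inf_le_right).trans (le_inf (h1.le.trans hZS) h4)
  · rw [← quo_cent_coprime nV inf_le_left (coprime_mono cS0.symm le_rfl inf_le_left)
      (Or.inl (sol_of_abelian (hV.of_le h2).abelian)), quo_self]
  · rw [← quo_comm nS nS]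
    exact hreg.cent le_rfl (quo_ne_bot nZ hZN)

omit [Finite X] in
theorem Sit.zp (h : Sit t s V S B) : (Nat.card ↥⁅S, S⁆).Prime := h.card ▸ h.hs

theorem Sit.sol (h : Sit t s V S B) : Group.IsSolvable S := pg_sol h.hs h.pg

omit [Finite X] in
theorem Sit.xsp (h : Sit t s V S B) (h2 : S ⊓ C_(L) ≤ ⁅S, S⁆) (h3 : ⁅S ⊓ C_(S), L⁆ ≤ C_(V)) (hL : L ≤ N_(S)) :
    Xsp S ⁅S, S⁆ := by
  refine ⟨der_le S, h.ZS, le_rfl, le_trans (le_inf inf_le_left (comm_eq_bot.1 (eq_bot_mono h.faith (le_inf ?_ h3)))) h2,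
    fun e => ne_bot_of_prime h.zp (comm_eq_bot.2 (e.le.trans h.ZS))⟩
  exact (comm_le_left (norm_inf hL (norm_cent hL))).trans inf_le_left

theorem Sit.up (h : Sit t s V S B) (hT : Xsp T ⁅S, S⁆) (hTS : T ≤ S) (hR : R ≤ B) (hRT : R ≤ N_(T))
    (hreg : ∀ r ∈ R, r ≠ 1 → T ⊓ C_[r] ≤ ⁅S, S⁆) (hW : D ≤ V) (hW0 : D ≠ ⊥) (hTW : T ≤ N_(D)) (hRW : R ≤ N_(D))
    (hfix : D ⊓ C_(R) = ⊥) {m : ℕ} (hm : Nat.card T = m ^ 2 * Nat.card ↥⁅S, S⁆) : m + 1 ≤ Nat.card R := by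
  have h1 : t ∣ Nat.card D := pg_dvd h.ht (h.elem.of_le hW).pg hW0
  exact hT.up h.ht (h.elem.of_le hW) hW0 (BG.not_dvd_of_coprime h.ht (coprime_mono h.cSV.symm hW hTS) h1) hTW
    (semiregular_prime h.zp (eq_bot_mono h.fixZ (inf_le_inf_right _ hW))) hRT (coprime_mono h.cBS hR hTS)
    (h.ZB.trans (cent_anti hR)) hreg (BG.not_dvd_of_coprime h.ht (coprime_mono h.cBV.symm hW hR) h1) hRW hfix hm

theorem Sit.card_eq (h : Sit t s V S B) (hB : IsCyclic B) (hT : Xsp T ⁅S, S⁆) (hTS : T ≤ S) (hBT : B ≤ N_(T))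
    (hreg : ∀ r ∈ B, r ≠ 1 → T ⊓ C_[r] ≤ ⁅S, S⁆) :
    ∃ m, 1 < m ∧ Nat.card T = m ^ 2 * Nat.card ↥⁅S, S⁆ ∧ Nat.card B = m + 1 := by
  obtain ⟨m, hm⟩ := hT.exists_sq h.zp
  exact ⟨m, hT.one_lt hm, hm, le_antisymm (hT.low h.zp hBT hB (coprime_mono h.cBS le_rfl hTS) h.ZB hreg hm)
    (h.up hT hTS le_rfl hBT hreg le_rfl h.ne (hTS.trans h.SV) h.BV h.fixB hm)⟩

/-- an abelian subgroup invariant under a cyclic fixed point free `p`-group is centralised by the subgroup of order `p` -/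
theorem comm_le_cent_of_abelian (hp : p.Prime) (hA : IsCyclic A) (hAp : IsPGroup p A) (hU : U ≤ A) (hc : Nat.card U = p)
    (hV : IsMulCommutative V) (hD : IsMulCommutative D) (hAD : A ≤ N_(D)) (hDV : D ≤ N_(V)) (hAV : A ≤ N_(V))
    (cAD : (Nat.card A).Coprime (Nat.card D)) (cDV : (Nat.card D).Coprime (Nat.card V)) (hfix : V ⊓ C_(A) = ⊥) :
    ⁅D, U⁆ ≤ C_(V) := by
  have h1 := comm_le_left (hU.trans hAD)
  refine le_centralizer_of_frobenius (R := A) (norm_comm hAD (le_norm_of_abelian (abelian_of_cyclic hA) hU))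
    (fun a ha h => ?_) (h1.trans hDV) hAV (coprime_mono cDV h1 le_rfl) hfix
  exact eq_bot_mono (comm_inf_cent hD (hU.trans hAD) (coprime_mono cAD hU le_rfl))
    (inf_le_inf_left _ (cent1_le_of_cyc hp hA hAp hU hc ha h))

theorem comp2 (hp : p.Prime) (hA : IsCyclic A) (hAp : IsPGroup p A) (hc : Nat.card U = p) (ht : t.Prime) (hq : q.Prime)
    (h : MinAct q A U Q) (hV : IsElementaryAbelian t V) (hQV : Q ≤ N_(V)) (hAV : A ≤ N_(V))
    (cQV : (Nat.card Q).Coprime (Nat.card V)) (cAV : (Nat.card A).Coprime (Nat.card V)) (hfix : V ⊓ C_(A) = ⊥)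
    (hf : Q ⊓ C_(V) = ⊥) :
    ∃ (Z₀ V₀ : Subgroup X) (m : ℕ), Z₀ < ⁅Q, Q⁆ ∧ V₀ ≤ V ∧ Q ≤ N_(V₀) ∧ ¬ Q ≤ C_(V₀) ∧ (Q ⊓ C_(V₀)) ⊓ ⁅Q, Q⁆ ≤ Z₀ ∧
      V₀ ⊓ C_(A ⊓ cm ⁅Q, Q⁆ Z₀) = ⊥ ∧ A ⊓ cm ⁅Q, Q⁆ Z₀ ≤ N_(V₀) ∧ U ≤ A ⊓ cm ⁅Q, Q⁆ Z₀ ∧ 1 < m ∧
      Nat.card ↥(A ⊓ cm ⁅Q, Q⁆ Z₀) = m + 1 ∧ ((Q ⊓ C_(V₀)) ⊔ ⁅Q, Q⁆).relIndex Q = m ^ 2 ∧
      ∀ x ∈ Q, (∀ y ∈ Q, ⁅x, y⁆ ∈ Z₀) → x ∈ (Q ⊓ C_(V₀)) ⊔ ⁅Q, Q⁆ := by
  have := Fact.mk hq
  have hU := h.le
  have cAQ : (Nat.card A).Coprime (Nat.card Q) := pg_coprime hp hAp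
    (pg_not_dvd hp hq h.pg fun e => by
      have := h.cop
      rw [hc, e, Nat.coprime_self] at this
      exact hq.ne_one this)
  have hne : ¬ ⁅Q, Q⁆ ≤ C_(V) := fun e => h.ne (eq_bot_mono hf (le_inf (comm_le_left h.normA')
    (comm_le_cent_of_abelian hp hA hAp hU hc hV.abelian (abelian_iff_der.2 (eq_bot_mono hf (le_inf (der_le Q) e)))
      h.norm hQV hAV cAQ cQV hfix)))
  obtain ⟨Z₀, V₀, h1, h2, h3, h4, h5, h6, h6', h7, h8, hS⟩ := exists_sit ht hq h le_rfl hV hQV hAV cQV cAV cAQ hfix hne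
  set Z := ⁅Q, Q⁆ with hZd
  set B := A ⊓ cm Z Z₀ with hB
  set N := Q ⊓ C_(V₀) with hN
  have hZU : Z ≤ C_(U) := h.cent_eq_der.ge.trans inf_le_right
  have hZ0 : Z ≤ N_(Z₀) := le_norm_of_abelian (der_elem hq h).abelian h1.le
  have hUB : U ≤ B := le_inf hU (le_cm hZ0 h1.le ((comm_eq_bot.2 hZU).le.trans bot_le))
  have hB0 : B ≤ N_(V₀) := h8 B inf_le_left inf_le_right
  have hBQ : B ≤ N_(Q) := inf_le_left.trans h.norm
  have nQ : Q ≤ N_(N) := le_norm_inf_cent h4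
  have nB : B ≤ N_(N) := norm_inf hBQ (norm_cent hB0)
  have nU := hUB.trans nB
  have hd : N ⊓ B = ⊥ := BG.inf_eq_bot_of_coprime (coprime_mono cAQ.symm inf_le_left inf_le_left)
  have cB : Nat.card (quo N B) = Nat.card B := card_quo_of_disj nB hd
  have cU : Nat.card (quo N U) = p := by
    rw [card_quo_of_disj nU (eq_bot_mono hd (inf_le_inf_left _ hUB)), hc]
  have hBc := cyclic_quo N (cyclic_of_le hA (inf_le_left : B ≤ A))
  have hBp := pgroup_quo N (pg_le hAp (inf_le_left : B ≤ A))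
  have e1 : quo N Q ⊓ C_(quo N U) ≤ ⁅quo N Q, quo N Q⁆ := by
    rw [← quo_cent_coprime nU inf_le_left (coprime_mono cAQ hU inf_le_left) (Or.inl (sol_of_abelian
      (abelian_of_cyclic (cyclic_of_le hA hU)))), h.cent_eq_der, quo_comm nQ nQ]
  have hX := hS.xsp e1 (comm_le_cent_of_abelian hp hBc hBp (quo_mono N hUB) cU hS.elem.abelian (abelian_center _)
    (norm_inf hS.BS (norm_cent hS.BS)) (inf_le_left.trans hS.SV) hS.BV (coprime_mono hS.cBS le_rfl inf_le_left)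
    (coprime_mono hS.cSV inf_le_left le_rfl) hS.fixB) ((quo_mono N hUB).trans hS.BS)
  obtain ⟨m, hm1, hm2, hm3⟩ := hS.card_eq hBc hX le_rfl hS.BS fun r hr hr1 =>
    (inf_le_inf_left _ (cent1_le_of_cyc hp hBc hBp (quo_mono N hUB) cU hr hr1)).trans e1
  refine ⟨Z₀, V₀, m, h1, h2, h4, h5, h6, h7, hB0, hUB, hm1, cB ▸ hm3, ?_, fun x hx hy => ?_⟩
  · rw [← relIndex_quo ((der_le Q).trans nQ) nQ, quo_comm nQ nQ]
    have := card_mul_relIndex hX.le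
    rw [hm2, mul_comm (m ^ 2)] at this
    exact Nat.eq_of_mul_eq_mul_left (card_pos _) this
  · rw [← qmk_mem_quo_iff ((der_le Q).trans nQ) (nQ hx), quo_comm nQ nQ]
    refine hX.zc ⟨qmk_mem_quo hx _, (qmk_mem_cent_iff (nQ hx) nQ).2 fun y hy' => ?_⟩
    have h9 := hy y hy'
    exact ⟨der_le Q (h1.le h9), h6' h9⟩

omit [Finite X] in
theorem lte_bound (hp : p.Prime) (h2 : p ≠ 2) (hq : 1 < q) {d e k n : ℕ} (hm : p ^ k = q ^ d + 1) (hd : 0 < d) (he : 0 < e)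
    (hkn : k ≤ n) (h : p ^ n ∣ q ^ e - 1) : 2 * d * p ^ (n - k) ≤ e := by
  have := Fact.mk hp
  have h0 : ∀ j, 1 ≤ q ^ j := fun j => Nat.one_le_pow _ _ (by omega)
  have h1 : q ^ e ≡ 1 [MOD q ^ d + 1] := ((Nat.modEq_iff_dvd' (h0 e)).2 (hm ▸ (pow_dvd_pow p hkn).trans h)).symm
  have h3 : (q ^ d) ^ 2 - 1 = (q ^ d + 1) * (q ^ d - 1) := Nat.sq_sub_sq _ 1
  have h4 : q ^ (2 * d) ≡ 1 [MOD q ^ d + 1] := ((Nat.modEq_iff_dvd' (h0 _)).2 (by
    rw [mul_comm, pow_mul, h3]; exact Dvd.intro _ rfl)).symm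
  have h5 : q ^ (e % (2 * d)) ≡ 1 [MOD q ^ d + 1] := by
    conv at h1 => rw [← Nat.div_add_mod e (2 * d), pow_add, pow_mul]
    have := (h4.pow (e / (2 * d))).mul_right (q ^ (e % (2 * d)))
    rw [one_pow, one_mul] at this
    exact this.symm.trans h1
  have h6 : e % (2 * d) = 0 := by
    by_contra h6
    have h7 := Nat.mod_lt e (show 0 < 2 * d by omega)
    set j := e % (2 * d)
    rcases le_or_gt j d with h8 | h8
    · have h9 := Nat.le_of_dvd (by have := Nat.one_lt_pow h6 hq; omega) ((Nat.modEq_iff_dvd' (h0 j)).1 h5.symm)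
      have := Nat.pow_le_pow_right (show 0 < q by omega) h8
      omega
    · obtain ⟨i, hi⟩ := Nat.exists_eq_add_of_lt h8
      have h9 : q ^ d + 1 ∣ q ^ (i + 1) + 1 := by
        have h10 := (Nat.modEq_iff_dvd' (h0 j)).1 h5.symm
        have h11 : (q ^ d + 1) * q ^ (i + 1) = (q ^ j - 1) + (q ^ (i + 1) + 1) := by
          have := h0 j
          rw [hi] at this ⊢
          rw [add_assoc, pow_add q d] at this ⊢
          rw [add_mul, one_mul]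
          omega
        exact (Nat.dvd_add_right h10).1 (h11 ▸ Dvd.intro _ rfl)
      have := Nat.le_of_dvd (by omega) h9
      have := Nat.pow_lt_pow_right hq (show i + 1 < d by omega)
      omega
  obtain ⟨c, rfl⟩ := Nat.dvd_of_mod_eq_zero h6
  have hc : c ≠ 0 := by rintro rfl; simp at he
  have hk : k ≠ 0 := by rintro rfl; have := h0 d; simp at hm; omega
  have hpd : p ∣ q ^ d + 1 := hm ▸ dvd_pow_self p hk
  have hq1 := Nat.one_lt_pow hd.ne' hq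
  have h7 : ¬ p ∣ q ^ d - 1 := fun h7 => h2 ((Nat.prime_dvd_prime_iff_eq hp Nat.prime_two).1 (by
    have := Nat.dvd_sub hpd h7
    rwa [show q ^ d + 1 - (q ^ d - 1) = 2 by omega] at this))
  have h8 : ¬ p ∣ (q ^ d) ^ 2 := fun h8 => hp.ne_one (Nat.dvd_one.1 ((Nat.dvd_add_right (hp.dvd_of_dvd_pow h8)).1 hpd))
  have h9 := padicValNat.pow_sub_pow (hp.odd_of_ne_two h2) (x := (q ^ d) ^ 2) (y := 1) (by nlinarith)
    (h3 ▸ hpd.mul_right _) h8 hc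
  rw [h3, padicValNat.mul (by omega) (by omega), ← hm, padicValNat.prime_pow, padicValNat.eq_zero_of_not_dvd h7, one_pow,
    ← pow_mul, ← pow_mul, ← mul_assoc, mul_comm d 2] at h9
  have h10 := (padicValNat_dvd_iff_le (by have := Nat.one_lt_pow he.ne' hq; omega)).1 h
  exact Nat.mul_le_mul_left _ (Nat.le_of_dvd (by omega) ((padicValNat_dvd_iff_le hc).2 (by omega)))

theorem exists_small_inter (hA : IsMulCommutative A) (hBN : B ≤ N_(N)) (hAQ : A ≤ N_(Q)) :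
    ∃ T : Subgroup X, (∀ a ∈ A, a ∉ B → T ≤ cj a N) ∧ T.relIndex Q ≤ N.relIndex Q ^ (B.relIndex A - 1) := by
  classical
  have := Fintype.ofFinite (A ⧸ B.subgroupOf A)
  refine ⟨⨅ c : {c : A ⧸ B.subgroupOf A // c ≠ QuotientGroup.mk 1}, cj ((c.1.out : A) : X)⁻¹ N, fun a ha hb => ?_, ?_⟩
  · have h1 : (QuotientGroup.mk ⟨a, ha⟩⁻¹ : A ⧸ B.subgroupOf A) ≠ QuotientGroup.mk 1 := fun e =>
      hb (by simpa [Subgroup.mem_subgroupOf] using QuotientGroup.eq.1 e)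
    refine (iInf_le _ ⟨_, h1⟩).trans (le_of_eq ?_)
    obtain ⟨b, hb⟩ := QuotientGroup.mk_out_eq_mul (B.subgroupOf A) ⟨a, ha⟩⁻¹
    have e : (((QuotientGroup.mk ⟨a, ha⟩⁻¹ : A ⧸ B.subgroupOf A).out : A) : X)⁻¹ = a * ((b : A) : X)⁻¹ := by
      rw [hb, mul_comm_of_abelian hA ha (inv_mem b.1.2)]; simp
    exact (congrArg (cj · N) e).trans (cj_mul_of_mem_norm (inv_mem (hBN b.2)))
  · refine (Subgroup.relIndex_iInf_le _).trans (le_of_eq ?_)
    rw [Finset.prod_congr rfl (g := fun _ => N.relIndex Q) fun c _ => by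
      rw [← relIndex_cj ((c.1.out : A) : X)⁻¹ N Q, cj_of_mem_norm (inv_mem (hAQ (c.1.out).2))]]
    simp [Subgroup.relIndex, Subgroup.index]

theorem norm_mod {Z₀ : Subgroup X} (hZ : IsMulCommutative Z) (hA : A ≤ N_(Z)) (hfix : Z ⊓ C_(A) = ⊥) (h0 : Z₀ ≤ Z)
    (hc : (Nat.card A).Coprime (Nat.card Z)) {z : X} (hz : z ∈ Z) (h : ∀ a ∈ A, a ∉ cm Z Z₀ → a * z * a⁻¹ ∈ Z₀) : z ∈ Z₀ := by
  classical
  have := Fintype.ofFinite A
  have h1 : ∏ b : A, ac Z b ⟨z, hz⟩ = 1 := Subtype.ext (Subgroup.mem_bot.1 (hfix.le ⟨Subtype.prop _,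
    mem_cent.2 fun a ha => (mem_cent1.1 ((ac_eq_iff (hA ha) _).1 (ac_prod hA _ ha))).symm⟩))
  let π := QuotientGroup.mk' (Z₀.subgroupOf Z)
  have h2 : ∀ b : A, π (ac Z b ⟨z, hz⟩) = if (b : X) ∈ cm Z Z₀ then π ⟨z, hz⟩ else 1 := by
    intro b
    split_ifs with hb
    · refine QuotientGroup.eq.2 ?_
      have := (mem_cm (le_norm_of_abelian hZ h0) h0).1 hb _ (inv_mem hz)
      rw [Subgroup.mem_subgroupOf, mul_comm, Subgroup.coe_mul, Subgroup.coe_inv, coe_ac (hA b.2)]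
      have h3 := conj_mem_of_norm (le_norm_of_abelian hZ h0 hz) (inv_mem this)
      have h4 := mul_comm_of_abelian hZ hz (conj_mem_of_norm (hA b.2) (inv_mem hz))
      convert h3 using 1
      simp only [commutatorElement_def, mul_inv_rev, inv_inv, ← mul_assoc] at h4 ⊢
      simp [mul_assoc]
    · refine (QuotientGroup.eq_one_iff _).2 ?_
      rw [Subgroup.mem_subgroupOf, coe_ac (hA b.2)]
      exact h b b.2 hb
  have h3 := congrArg π h1
  rw [map_prod, map_one, Finset.prod_congr rfl fun b _ => h2 b, Finset.prod_ite, Finset.prod_const, Finset.prod_const_one,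
    mul_one] at h3
  have h4 : (Finset.univ.filter fun b : A => (b : X) ∈ cm Z Z₀).card ∣ Nat.card A := by
    have := ((cm Z Z₀).subgroupOf A).card_subgroup_dvd_card
    rwa [Nat.card_eq_fintype_card, Fintype.card_of_subtype (Finset.univ.filter fun b : A => (b : X) ∈ cm Z Z₀)
      (by simp [Subgroup.mem_subgroupOf])] at this
  have h5 : orderOf (π ⟨z, hz⟩) = 1 := (Nat.coprime_self _).1 (Nat.Coprime.coprime_dvd_left (orderOf_dvd_of_pow_eq_one h3)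
    (Nat.Coprime.coprime_dvd_right ((orderOf_map_dvd _ _).trans (orderOf_dvd_natCard _)) (hc.coprime_dvd_left h4)))
  exact Subgroup.mem_subgroupOf.1 ((QuotientGroup.eq_one_iff (⟨z, hz⟩ : Z)).1 (orderOf_eq_one_iff.1 h5))

theorem two_core_f (hp : p.Prime) (hA : IsCyclic A) (hAp : IsPGroup p A) (hU : U ≤ A) (hc : Nat.card U = p) (ht : t.Prime)
    (hq : q.Prime) (hQ : IsPGroup q Q) (hAQ : A ≤ N_(Q)) (hV : IsElementaryAbelian t V) (hQV : Q ≤ N_(V)) (hAV : A ≤ N_(V))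
    (cQV : (Nat.card Q).Coprime (Nat.card V)) (cAV : (Nat.card A).Coprime (Nat.card V))
    (cAQ : (Nat.card A).Coprime (Nat.card Q)) (hfix : V ⊓ C_(A) = ⊥) (hfixQ : Q ⊓ C_(A) = ⊥)
    (h2 : p ≠ 2 ∨ Nat.card A ∣ 4) (hf : Q ⊓ C_(V) = ⊥) : ⁅Q, U⁆ = ⊥ := by
  by_contra hne
  have := Fact.mk hq
  have hAa := abelian_of_cyclic hA
  obtain ⟨P, hPQ, h⟩ := exists_minAct hQ hAQ hU (le_norm_of_abelian hAa hU) ((coprime_mono cAQ hU le_rfl).coprime_dvd_right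
    (pg_dvd hq hQ fun e => hne (by rw [e, Subgroup.commutator_bot_left]))) hne
  have cAP := coprime_mono cAQ le_rfl hPQ
  obtain ⟨Z₀, V₀, m, h1, h3, h4, h5, h6, h7, h8, h9, hm1, hm2, hm3, h10⟩ := comp2 hp hA hAp hc ht hq h hV (hPQ.trans hQV) hAV
    (coprime_mono cQV hPQ le_rfl) cAV hfix (eq_bot_mono hf (inf_le_inf_right _ hPQ))
  set Z := ⁅P, P⁆ with hZd
  set B := A ⊓ cm Z Z₀ with hB
  set N := P ⊓ C_(V₀) ⊔ Z with hN
  have hZP : Z ≤ P := der_le P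
  have hZa := (der_elem hq h).abelian
  have hAZ : A ≤ N_(Z) := norm_der h.norm
  have cAZ := coprime_mono cAP le_rfl hZP
  have hZfix : Z ⊓ C_(A) = ⊥ := eq_bot_mono hfixQ (inf_le_inf_right _ (hZP.trans hPQ))
  have hBA : B < A := lt_of_le_of_ne inf_le_left fun e => h1.not_ge
    ((coprime_comm_eq_of_cent_bot hAZ cAZ (Or.inr (sol_of_abelian hZa)) hZfix).ge.trans
      (comm_cm (le_norm_of_abelian hZa h1.le) (e.ge.trans inf_le_right)))
  rcases h2 with h2 | h2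
  swap
  · have h11 := card_lt hBA
    have h12 := (card_dvd hBA.le).trans h2
    have h13 := Nat.le_of_dvd (by norm_num) h2
    rw [hm2] at h11 h12
    obtain rfl : m = 2 := by omega
    norm_num at h12
  have hBP : B ≤ N_(P) := hBA.le.trans h.norm
  have hNP : N ≤ P := sup_le inf_le_left hZP
  obtain ⟨T, hT1, hT2⟩ := exists_small_inter (N := N) (B := B) hAa (norm_sup (norm_inf hBP (norm_cent h8)) (norm_der hBP)) h.norm
  obtain ⟨n, hn⟩ := pg_card hp hAp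
  obtain ⟨k, hk⟩ := pg_card hp (pg_le hAp hBA.le)
  obtain ⟨c, hc'⟩ := pg_card hq h.pg
  obtain ⟨d, -, rfl⟩ := (Nat.dvd_prime_pow hq).1 ((dvd_pow_self m two_ne_zero).trans (hm3 ▸ hc' ▸ relIndex_dvd_card N P))
  obtain ⟨e, -, he⟩ := (Nat.dvd_prime_pow hq).1 (hc' ▸ relIndex_dvd_card Z P)
  have hNne : N ≠ P := fun e => by
    rw [e, Subgroup.relIndex_self] at hm3
    nlinarith
  have hkn : k ≤ n := (Nat.pow_dvd_pow_iff_le_right hp.one_lt).1 (hk ▸ hn ▸ card_dvd hBA.le)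
  have hidx : B.relIndex A = p ^ (n - k) := by
    have := card_mul_relIndex hBA.le
    rw [hk, hn, ← Nat.add_sub_cancel' hkn, pow_add] at this
    exact Nat.eq_of_mul_eq_mul_left (pow_pos hp.pos k) this
  have nP : P ≤ N_(Z) := le_norm_der P
  have hreg : Semiregular (quo Z P) (quo Z A) := by
    intro a' ha' ha1
    obtain ⟨a, ha, haN, rfl⟩ := mem_quo.1 ha'
    rw [← quo_cent1_coprime haN hZP (cAZ.coprime_dvd_left (orderOf_dvd_card ha))]
    refine quo_eq_bot_of_le ((inf_le_inf_left _ (cent1_le_of_cyc hp hA hAp hU hc ha ?_)).trans h.cent_eq_der.le)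
    rintro rfl
    exact ha1 (map_one _)
  have h11 := hreg.card_dvd (quo_le_norm Z h.norm)
  rw [card_quo_of_disj hAZ (BG.inf_eq_bot_of_coprime cAZ.symm), card_quo nP, hn, he] at h11
  have hd : 0 < d := Nat.pos_of_ne_zero (by rintro rfl; simp at hm1)
  have h12 := lte_bound hp h2 hq.one_lt (hk ▸ hm2) hd (Nat.pos_of_ne_zero (by
    rintro rfl
    exact hNne (le_antisymm hNP ((Subgroup.relIndex_eq_one.1 he).trans le_sup_right)))) hkn h11
  have h13 : ¬ P ⊓ T ≤ N := by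
    intro h13
    have h14 : P ⊓ T ≤ Z := by
      rcases h.irred (U := P ⊓ ⨅ a : A, cj (a : X) N) (le_inf (phi_le P) (le_iInf fun a => by
          rw [← h.cent_eq_phi, h.cent_eq_der, ← hZd, ← cj_of_mem_norm (hAZ a.2)]
          exact cj_mono _ le_sup_right)) inf_le_left (norm_inf h.norm (le_norm_of_cj_le fun a ha => le_iInf fun b => by
          refine (cj_mono a (iInf_le _ (⟨a, ha⟩⁻¹ * b))).trans (le_of_eq ?_)
          rw [cj_cj]; simp)) with e | e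
      · rw [← h.cent_eq_phi, h.cent_eq_der] at e
        refine le_trans (le_inf inf_le_left (le_iInf fun a => ?_)) e.le
        by_cases ha : (a : X) ∈ B
        · rwa [cj_of_mem_norm (norm_sup (norm_inf hBP (norm_cent h8)) (norm_der hBP) ha)]
        · exact inf_le_right.trans (hT1 a a.2 ha)
      · exact absurd (le_antisymm hNP (by simpa using (e.ge.trans inf_le_right).trans (iInf_le _ 1))) hNne
    have h15 := Nat.le_of_dvd (Nat.pos_of_ne_zero (relIndex_ne_zero _ _)) (relIndex_dvd_left P h14)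
    rw [Subgroup.inf_relIndex_left, he] at h15
    rw [hm3, hidx, ← pow_mul, ← pow_mul] at hT2
    have h16 := (Nat.pow_le_pow_iff_right hq.one_lt).1 (h15.trans hT2)
    have h17 := pow_pos hp.pos (n - k)
    obtain ⟨w, hw⟩ := Nat.exists_eq_add_of_le' h17
    rw [hw] at h12 h16
    simp at h16
    nlinarith
  obtain ⟨x, hx, hxN⟩ := SetLike.not_le_iff_exists.1 h13
  obtain ⟨y, hy, hxy⟩ : ∃ y ∈ P, ⁅x, y⁆ ∉ Z₀ := by
    by_contra h14
    push Not at h14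
    exact hxN (h10 x hx.1 h14)
  refine hxy (norm_mod hZa hAZ hZfix h1.le cAZ (Subgroup.commutator_mem_commutator hx.1 hy) fun a ha hb => ?_)
  have h14 : ⁅N, P⁆ ≤ Z₀ := by
    refine le_trans (le_inf ?_ (comm_mono hNP le_rfl)) h6
    have nN : P ≤ N_(P ⊓ C_(V₀)) := le_norm_inf_cent h4
    refine comm_sup_le (le_norm _) (hZP.trans nN) (comm_le_left nN) ?_
    rw [comm_eq_bot.2 h.der_le_cent]; exact bot_le
  rw [conjugate_commutatorElement]
  exact h14 (Subgroup.commutator_mem_commutator (mem_cj_inv.1 (hT1 a⁻¹ (inv_mem ha)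
    (fun e => hb (by simpa using inv_mem (Subgroup.mem_inf.1 e).2)) hx.2)) (conj_mem_of_norm (h.norm ha) hy))

/-- the kernel making `V` elementary and `Q` faithful -/
def rN (V Q : Subgroup X) : Subgroup X := frattiniOf V ⊔ (Q ⊓ C_(V))

omit [Finite X] in
theorem rN_norm (h1 : A ≤ N_(V)) (h2 : A ≤ N_(Q)) : A ≤ N_(rN V Q) := norm_sup (norm_phi h1) (norm_inf h2 (norm_cent h1))

omit [Finite X] in
theorem rN_normV : V ≤ N_(rN V Q) := norm_sup (norm_phi (le_norm V)) (le_norm_of_cent (cent_symm inf_le_right))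

omit [Finite X] in
theorem rN_disj (h1 : (Nat.card A).Coprime (Nat.card V)) (h2 : (Nat.card A).Coprime (Nat.card Q)) : rN V Q ⊓ A = ⊥ :=
  BG.inf_eq_bot_of_coprime (Nat.Coprime.coprime_dvd_left (card_sup_dvd (le_norm_of_cent (inf_le_right.trans
    (cent_anti (phi_le V))))) (Nat.Coprime.mul_left (coprime_mono h1.symm (phi_le V) le_rfl)
      (coprime_mono h2.symm inf_le_left le_rfl)))

omit [Finite X] in
theorem rN_inf (hc : (Nat.card Q).Coprime (Nat.card V)) : Q ⊓ rN V Q ≤ C_(V) := by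
  rw [rN, sup_comm, dedekind inf_le_left (Or.inr (le_norm_of_cent (inf_le_right.trans (cent_anti (phi_le V))))),
    BG.inf_eq_bot_of_coprime (coprime_mono hc le_rfl (phi_le V)), sup_bot_eq]
  exact inf_le_right

theorem rN_elem (ht : t.Prime) (hV : IsPGroup t V) : IsElementaryAbelian t (quo (rN V Q) V) :=
  (elem_quo_iff rN_normV).2 ⟨(der_le_phi ht hV).trans le_sup_left, fun _ hx => Subgroup.mem_sup_left (pow_mem_phi ht hV hx)⟩

theorem rN_faith (ht : t.Prime) (hV : IsPGroup t V) (hQV : Q ≤ N_(V)) (hc : (Nat.card Q).Coprime (Nat.card V)) :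
    quo (rN V Q) Q ⊓ C_(quo (rN V Q) V) = ⊥ := by
  have := Fact.mk ht
  have nQ : Q ≤ N_(rN V Q) := rN_norm hQV (le_norm Q)
  set Y := Q ⊓ coquo (rN V Q) (quo (rN V Q) Q ⊓ C_(quo (rN V Q) V)) with hY
  rw [← quo_inf_coquo_eq (X := Q) (Y := quo (rN V Q) Q ⊓ C_(quo (rN V Q) V)) inf_le_left]
  refine quo_eq_bot_of_le (le_trans (le_inf inf_le_left ?_) le_sup_right)
  refine H01.prfT1_8.phi (inf_le_left.trans hQV) (coprime_mono hc inf_le_left le_rfl) hV ?_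
  have h1 : ⁅V, Y⁆ ≤ rN V Q := comm_le_of_quo rN_normV (inf_le_left.trans nQ)
    (cent_symm ((quo_inf_coquo_eq inf_le_left).le.trans inf_le_right))
  refine (le_inf (comm_le_left (inf_le_left.trans hQV)) h1).trans ?_
  rw [rN, dedekind (phi_le V) (Or.inl (le_norm_of_cent (inf_le_right.trans (cent_anti (phi_le V))))),
    BG.inf_eq_bot_of_coprime (coprime_mono hc.symm le_rfl inf_le_left), sup_bot_eq]

theorem two_core (hp : p.Prime) (hA : IsCyclic A) (hAp : IsPGroup p A) (hU : U ≤ A) (hc : Nat.card U = p) (ht : t.Prime)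
    (hq : q.Prime) (hQ : IsPGroup q Q) (hAQ : A ≤ N_(Q)) (hV : IsPGroup t V) (hQV : Q ≤ N_(V)) (hAV : A ≤ N_(V))
    (cQV : (Nat.card Q).Coprime (Nat.card V)) (cAV : (Nat.card A).Coprime (Nat.card V))
    (cAQ : (Nat.card A).Coprime (Nat.card Q)) (hfix : V ⊓ C_(A) = ⊥) (hfixQ : Q ⊓ C_(A) = ⊥)
    (h2 : p ≠ 2 ∨ Nat.card A ∣ 4) : ⁅Q, U⁆ ≤ C_(V) := by
  set N := rN V Q with hN
  have nQ : Q ≤ N_(N) := rN_norm hQV (le_norm Q)
  have nA : A ≤ N_(N) := rN_norm hAV hAQ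
  have hd : N ⊓ A = ⊥ := rN_disj cAV cAQ
  have h1 := two_core_f hp (cyclic_quo N hA) (pgroup_quo N hAp) (quo_mono N hU)
    (by rw [card_quo_of_disj (hU.trans nA) (eq_bot_mono hd (inf_le_inf_left _ hU)), hc]) ht hq (pgroup_quo N hQ)
    (quo_le_norm N hAQ) (rN_elem ht hV) (quo_le_norm N hQV) (quo_le_norm N hAV) (coprime_quo N cQV) (coprime_quo N cAV)
    (coprime_quo N cAQ) (quo_cent_bot nA rN_normV hAV cAV (pg_sol ht hV) (hfix.le.trans bot_le))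
    (quo_cent_bot nA nQ hAQ cAQ (pg_sol hq hQ) (hfixQ.le.trans bot_le)) (by rwa [card_quo_of_disj nA hd])
    (rN_faith ht hV hQV cQV)
  exact (le_inf (comm_le_left (hU.trans hAQ)) ((quo_comm_eq_bot_iff nQ (hU.trans nA)).1 h1)).trans (rN_inf cQV)

theorem comm_le_fit (hp : p.Prime) (hA : IsCyclic A) (hAp : IsPGroup p A) (hU : U ≤ A) (hc : Nat.card U = p)
    (hs : Group.IsSolvable K) (hAK : A ≤ N_(K)) (cAK : (Nat.card A).Coprime (Nat.card K)) (hfix : K ⊓ C_(A) = ⊥)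
    (h2 : p ≠ 2 ∨ Nat.card A ∣ 4) : ⁅K, U⁆ ≤ fittingOf K :=
  two_layer hs hAK cAK hU fun _ _ hq hr hne _ hQK hQ hAQ =>
    two_core hp hA hAp hU hc hr hq hQ hAQ (pcore_pg hr K) (hQK.trans (le_norm_pcore _ K)) (norm_pcore _ hAK)
      (pg_coprime_ne hq hr hQ (pcore_pg hr K) hne.symm) (coprime_mono cAK le_rfl (pcore_le _ K))
      (coprime_mono cAK le_rfl hQK) (eq_bot_mono hfix (inf_le_inf_right _ (pcore_le _ K)))
      (eq_bot_mono hfix (inf_le_inf_right _ hQK)) h2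

/-- passing to the quotient by a normal invariant subgroup `N ≥ [K, U]` and by `U` -/
theorem exists_step (hA : IsCyclic A) (hU : U ≤ A) (hs : Group.IsSolvable K) (hAK : A ≤ N_(K))
    (cAK : (Nat.card A).Coprime (Nat.card K)) (hfix : K ⊓ C_(A) = ⊥) (hN : N ≤ K) (hKN : K ≤ N_(N)) (hAN : A ≤ N_(N))
    (h : ⁅K, U⁆ ≤ N) : ∃ (Y : Type u) (_ : Group Y) (_ : Finite Y) (K' A' : Subgroup Y), IsCyclic A' ∧
      Nat.card U * Nat.card A' = Nat.card A ∧ Group.IsSolvable K' ∧ A' ≤ N_(K') ∧ (Nat.card A').Coprime (Nat.card K') ∧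
      K' ⊓ C_(A') = ⊥ ∧ (∀ n, res^[n] K' = ⊥ → res^[n] K ≤ N) ∧ (IsMulCommutative K' → ⁅K, K⁆ ≤ N) := by
  have h1 : quo N K ≤ C_(quo N U) := (quo_le_cent_iff hKN (hU.trans hAN)).2 h
  have h2 : quo N K ≤ N_(quo N U) := le_norm_of_cent h1
  have h3 : quo N A ≤ N_(quo N U) := quo_le_norm N (le_norm_of_abelian (abelian_of_cyclic hA) hU)
  have h4 := coprime_quo N cAK
  have hd : quo N U ⊓ quo N K = ⊥ := BG.inf_eq_bot_of_coprime (coprime_mono h4 (quo_mono N hU) le_rfl)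
  have hd' : N ⊓ A = ⊥ := BG.inf_eq_bot_of_coprime (coprime_mono cAK.symm hN le_rfl)
  refine ⟨_, inferInstance, inferInstance, quo (quo N U) (quo N K), quo (quo N U) (quo N A), cyclic_quo _ (cyclic_quo _ hA),
    ?_, sol_quo _ (sol_quo _ hs), quo_le_norm _ (quo_le_norm _ hAK), coprime_quo _ h4,
    quo_cent_disj_bot h3 h2 (quo_le_norm _ hAK) hd (quo_cent_bot hAN hKN hAK cAK hs (hfix.le.trans bot_le)),
    fun n e => resn_le_of_quo hKN (eq_bot_mono hd (le_inf (resn_le_of_quo h2 e) (resn_le _ _))),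
    fun e => (abelian_quo_iff hKN).1 (abelian_of_quo_disj h2 hd e)⟩
  rw [← card_quo_of_disj hAN hd', ← card_quo_of_disj (hU.trans hAN) (eq_bot_mono hd' (inf_le_inf_left _ hU))]
  exact card_quo_mul h3 (quo_mono N hU)

theorem shult_gross (hp : p.Prime) (h2 : p ≠ 2) (n : ℕ) : ∀ {X : Type u} [Group X] [Finite X] {K A : Subgroup X},
    IsCyclic A → Nat.card A = p ^ n → Group.IsSolvable K → A ≤ N_(K) → (Nat.card A).Coprime (Nat.card K) →
    K ⊓ C_(A) = ⊥ → res^[n] K = ⊥ := by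
  induction n with
  | zero =>
    intro X _ _ K A _ hc _ _ _ h
    rw [pow_zero, BG.card_eq_one] at hc
    simpa [hc] using h
  | succ n ih =>
    intro X _ _ K A hA hc hs hAK cAK hfix
    obtain ⟨U, hU, hUc⟩ := exists_card_eq_prime hp (H := A) (hc ▸ dvd_pow_self p n.succ_ne_zero)
    obtain ⟨Y, _, _, K', A', a1, a2, a3, a4, a5, a6, a7, -⟩ := exists_step hA hU hs hAK cAK hfix (fit_le K) (le_norm_fit K)
      (norm_fit hAK) (comm_le_fit hp hA (pg_of_card hc) hU hUc hs hAK cAK hfix (Or.inl h2))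
    rw [hUc, hc, pow_succ'] at a2
    exact resn_succ_of_le (a7 n (ih a1 (Nat.eq_of_mul_eq_mul_left hp.pos a2) a3 a4 a5 a6)) (fit_nil K)

theorem abelian_of_card_dvd_two (hA : IsCyclic A) (hc : Nat.card A ∣ 2) (hAK : A ≤ N_(K)) (hfix : K ⊓ C_(A) = ⊥) :
    IsMulCommutative K := by
  obtain ⟨a, rfl⟩ := cyclic_iff.1 hA
  rw [cent_zpowers] at hfix
  refine abelian_of_fpf (hAK (Subgroup.mem_zpowers a)) ?_ hfix
  rw [← pow_two, orderOf_dvd_iff_pow_eq_one.1 (card_zpowers a ▸ hc)]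
  exact one_mem _

theorem four_der (hA : IsCyclic A) (hc : Nat.card A ∣ 4) (hs : Group.IsSolvable K) (hAK : A ≤ N_(K))
    (cAK : (Nat.card A).Coprime (Nat.card K)) (hfix : K ⊓ C_(A) = ⊥) : ⁅K, K⁆ ≤ fittingOf K := by
  obtain ⟨i, hi, e⟩ := (Nat.dvd_prime_pow Nat.prime_two (m := 2)).1 hc
  by_cases h0 : i = 0
  · rw [abelian_iff_der.1 (abelian_of_card_dvd_two hA (by simp [e, h0]) hAK hfix)]
    exact bot_le
  obtain ⟨U, hU, hUc⟩ := exists_card_eq_prime Nat.prime_two (H := A) (e ▸ dvd_pow_self 2 h0)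
  obtain ⟨Y, _, _, K', A', a1, a2, a3, a4, a5, a6, -, a7⟩ := exists_step hA hU hs hAK cAK hfix (fit_le K) (le_norm_fit K)
    (norm_fit hAK) (comm_le_fit Nat.prime_two hA (pg_of_card e) hU hUc hs hAK cAK hfix (Or.inr hc))
  refine a7 (abelian_of_card_dvd_two a1 ?_ a4 a6)
  rw [← a2, hUc] at hc
  exact Nat.dvd_of_mul_dvd_mul_left two_pos hc

omit [Finite X] in
/-- a fixed point free `p`-group of operators has order prime to the group -/
theorem coprime_of_fpf_pg {G B : Type*} [Group G] [Finite G] [Group B] [Finite B] (hp : p.Prime) (hB : IsPGroup p B)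
    (φ : B →* MulAut G) (h : ∀ g : G, (∀ b, φ b g = g) → g = 1) : (Nat.card B).Coprime (Nat.card G) := by
  have := Fact.mk hp
  let _ := MulAction.compHom G φ
  have h1 := hB.card_modEq_card_fixedPoints G
  have h2 : Nat.card (MulAction.fixedPoints B G) = 1 := by
    rw [Nat.card_eq_one_iff_exists]
    exact ⟨⟨1, fun b => map_one (φ b)⟩, fun x => Subtype.ext (h x.1 x.2)⟩
  obtain ⟨n, hn⟩ := hB.exists_card_eq
  rw [hn]
  refine Nat.Coprime.pow_left _ ((Nat.Prime.coprime_iff_not_dvd hp).2 fun h3 => hp.ne_one (Nat.dvd_one.1 ?_))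
  rw [h2] at h1
  exact (h1.dvd_iff dvd_rfl).1 h3

end H03
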