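import Mathlib
import Cfsg.Agent.H03.FP2
import Cfsg.Agent.H04.Symplectic
import Cfsg.Agent.H22.FStar
import Cfsg.Prelude.Def_MonsterType

/-!
Large extraspecial 2-subgroups, part 1 (namespace H03):
`relIndex_cent_eq`, `aes_card`, `aes_dc` (double centralisers), `aes_exists`, `LX Q z`, `LX.cj`, `LX.swap`, `LX.sym`,
`LX.two`, `ES Q z`.
-/

set_option autoImplicit false
open Cfsg BG H04 Subgroup
open scoped commutatorElement

namespace H03

variable {G : Type*} [Group G] [Finite G] {P A B Q R U : Subgroup G} {a b g s t x y z : G} {p : ℕ}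

theorem relIndex_cent_eq [Fact p.Prime] (hP : IsPGroup p P) (hA : A ≤ P) (hB : B ≤ P) (hAB : ⁅A, B⁆ ≤ A ⊓ B)
    (hc : Nat.card ↥⁅A, B⁆ ≤ p) : C_(B).relIndex A = C_(A).relIndex B := by
  have e : ⁅A.subgroupOf P, B.subgroupOf P⁆ = ⁅A, B⁆.subgroupOf P := by
    apply map_injective P.subtype_injective
    rw [map_commutator, map_subgroupOf_eq_of_le hA, map_subgroupOf_eq_of_le hB,
      map_subgroupOf_eq_of_le (comm_le_of_le hA hB)]
  have := relIndex_centralizer_eq hP (A := A.subgroupOf P) (B := B.subgroupOf P)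
    (e ▸ le_inf (comap_mono (hAB.trans inf_le_left)) (comap_mono (hAB.trans inf_le_right)))
    (by rwa [e, card_subgroupOf (comm_le_of_le hA hB)])
  rwa [centralizer_subgroupOf hA, centralizer_subgroupOf hB, relIndex_subgroupOf hA, relIndex_subgroupOf hB] at this

theorem aes_card [Fact p.Prime] (h : AES p Q z) (hA : A ≤ Q) (hZ : Q ⊓ C_(Q) ≤ A) :
    Nat.card A * Nat.card ↥(Q ⊓ C_(A)) = Nat.card Q * Nat.card ↥(Q ⊓ C_(Q)) := by
  have h1 : ⁅A, Q⁆ ≤ zpowers z := (comm_mono hA le_rfl).trans h.der_le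
  have h2 := relIndex_cent_eq h.isPGroup hA le_rfl (h1.trans (h.zpowers_le.trans (le_inf hZ inf_le_left)))
    ((card_le h1).trans_eq (by rw [Nat.card_zpowers, h.ord]))
  have h3 := BG.card_inf_mul_relIndex C_(Q) A
  have h4 := BG.card_inf_mul_relIndex C_(A) Q
  rw [show C_(Q) ⊓ A = Q ⊓ C_(Q) from le_antisymm (le_inf (inf_le_right.trans hA) inf_le_left) (le_inf inf_le_right hZ)] at h3
  rw [← h3, ← h4, h2, inf_comm C_(A)]
  ring

/-- double centralisers -/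
theorem aes_dc [Fact p.Prime] (h : AES p Q z) (hA : A ≤ Q) : Q ⊓ C_(Q ⊓ C_(A)) ≤ A ⊔ (Q ⊓ C_(Q)) := by
  have h1 : A ⊔ (Q ⊓ C_(Q)) ≤ Q := sup_le hA inf_le_left
  have h2 : Q ⊓ C_(A ⊔ (Q ⊓ C_(Q))) = Q ⊓ C_(A) :=
    le_antisymm (inf_le_inf_left _ (cent_anti le_sup_left))
      (le_inf inf_le_left (le_cent_sup inf_le_right (inf_le_left.trans (cent_symm inf_le_right))))
  have h3 := aes_card h h1 le_sup_right
  have h4 := aes_card h (A := Q ⊓ C_(A)) inf_le_left (inf_le_inf_left _ (cent_anti hA))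
  rw [h2, ← h4, mul_comm] at h3
  refine (eq_of_le_of_card_eq (sup_le (le_inf hA (cent_symm inf_le_right)) (inf_le_inf_left _ (cent_anti inf_le_left)))
    (Nat.eq_of_mul_eq_mul_left (card_pos _) h3)).ge

omit [Finite G] in
theorem aes_conj (h : AES 2 Q z) (hx : x ∈ Q) (hy : y ∈ Q) (hc : ¬ Commute x y) : x * y * x⁻¹ = y * z := by
  rw [(h.commute (mem_zpowers z) hy).eq, ← h.comm_eq hx hy hc, commutatorElement_def]
  group

theorem aes_exists (h : AES 2 Q z) (hA : A ≤ Q) (hx : x ∈ Q) (h1 : x ∉ A ⊔ (Q ⊓ C_(Q))) :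
    ∃ q ∈ Q, q ∈ C_(A) ∧ q * x * q⁻¹ = x * z := by
  by_contra! h2
  refine h1 (aes_dc h hA (mem_inf.2 ⟨hx, mem_cent.2 fun q hq => ?_⟩))
  by_contra h3
  exact h2 q hq.1 hq.2 (aes_conj h hq.1 hx h3)

omit [Finite G] in
theorem aes_perp (h : AES 2 Q z) (ha : a ∈ N_(Q)) (haz : a ∈ C_[z]) (hx : x ∈ Q) (hy : y ∈ Q) :
    ⁅x, a * y * a⁻¹ * y⁻¹⁆ = ⁅a⁻¹ * x * a * x⁻¹, y⁆ := by
  have h1 := conj_mem_of_norm' ha hx
  have h2 : ⁅x, a * y * a⁻¹⁆ = ⁅a⁻¹ * x * a, y⁆ := by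
    have h3 := mem_cent1.1 (cent1_le_of_mem_zpowers (h.comm _ h1 _ hy) haz)
    calc _ = a * ⁅a⁻¹ * x * a, y⁆ * a⁻¹ := by simp [commutatorElement_def, mul_assoc]
      _ = _ := by rw [h3]; group
  have h4 := h.comm_zpow_left hx hy (-1)
  have h5 := h.comm_zpow_right hx hy (-1)
  simp only [zpow_neg, zpow_one] at h4 h5
  rw [h.comm_mul_right hx (conj_mem_of_norm ha hy) (inv_mem hy), h.comm_mul_left h1 (inv_mem hx) hy, h2, h4, h5]
  exact mul_comm_of_abelian (abelian_of_cyclic (cyclic_zpowers z)) (h.comm _ h1 _ hy) (inv_mem (h.comm _ hx _ hy))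

/-- `Q` is extraspecial, or a central product of an extraspecial group with `Z₄`, and is normal and self-centralising in the
centraliser of its central involution `z` -/
structure LX (Q : Subgroup G) (z : G) : Prop where
  aes : AES 2 Q z
  cent : C_(Q) ≤ Q
  inv : ∀ x ∈ C_(Q), x * x = 1 → x ∈ zpowers z
  norm : C_[z] ≤ N_(Q)

omit [Finite G] in
theorem aes_cj (h : AES p Q z) (g : G) : AES p (cj g Q) (g * z * g⁻¹) :=
  cj_eq_map g Q ▸ h.map (MulAut.conj g).toMonoidHom (MulAut.conj g).injective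

omit [Finite G] in
theorem aes_le (h : AES p Q z) : Q ≤ C_[z] := le_cent1_iff.2 h.cent

namespace LX

omit [Finite G] in
theorem cj (h : LX Q z) (g : G) : LX (cj g Q) (g * z * g⁻¹) := by
  refine ⟨aes_cj h.aes g, by simpa [← cj_cent] using h.cent, fun x hx e => ?_, by simpa [← cj_cent1, ← cj_norm] using h.norm⟩
  rw [← cj_cent, mem_cj] at hx
  rw [← cj_zpowers, mem_cj]
  exact h.inv _ hx ((by group : _ = g⁻¹ * (x * x) * g).trans (by rw [e]; group))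

omit [Finite G] in
theorem cj_eq (h : LX Q z) (e : a * z * a⁻¹ = b * z * b⁻¹) : BG.cj a Q = BG.cj b Q :=
  cj_eq_cj_iff.2 (h.norm (mem_cent1.2 (by
    rw [← mul_inv_eq_iff_eq_mul]
    calc b⁻¹ * a * z * (b⁻¹ * a)⁻¹ = b⁻¹ * (a * z * a⁻¹) * b := by group
      _ = z := by rw [e]; group)))

theorem exists_conj (h : LX Q z) (hs : s ∈ Q) (h2 : s * s = 1) (hz : s ∉ zpowers z) : ∃ q ∈ Q, q * s * q⁻¹ = s * z := by
  obtain ⟨q, h1, -, h3⟩ := aes_exists h.aes bot_le hs (by rw [bot_sup_eq]; exact fun e => hz (h.inv s e.2 h2))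
  exact ⟨q, h1, h3⟩

omit [Finite G] in
theorem conj_sq (h : LX Q z) (g : G) : g * z * g⁻¹ * (g * z * g⁻¹) = 1 := (h.cj g).aes.mul_self

omit [Finite G] in
theorem notMem (h : LX Q z) (hne : g * z * g⁻¹ ≠ z) : g * z * g⁻¹ ∉ zpowers z := fun e =>
  (h.aes.eq_or e).elim (h.cj g).aes.ne_one hne

theorem swap (h : LX Q z) (hs : g * z * g⁻¹ ∈ Q) (hne : g * z * g⁻¹ ≠ z) (hy : y ∈ C_[g * z * g⁻¹])
    (e : y * z * y⁻¹ = z * (g * z * g⁻¹)) : z ∈ BG.cj g Q := by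
  obtain ⟨x, hx, e1⟩ := h.exists_conj hs (h.conj_sq g) (h.notMem hne)
  have e2 : x * z * x⁻¹ = z := by rw [mem_cent1.1 (aes_le h.aes hx)]; group
  have e3 := h.conj_sq g
  have e4 := mem_cent1.1 (aes_le h.aes hs)
  have e5 := h.aes.mul_self
  generalize hs' : g * z * g⁻¹ = s at *
  have e6 : y * s * y⁻¹ = s := by rw [mem_cent1.1 hy]; group
  have e7 : x * y * x * z * (x * y * x)⁻¹ = s := by
    calc _ = x * (y * (x * z * x⁻¹) * y⁻¹) * x⁻¹ := by group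
      _ = x * (z * s) * x⁻¹ := by rw [e2, e]
      _ = (x * z * x⁻¹) * (x * s * x⁻¹) := by group
      _ = s := by rw [e2, e1, e4, ← mul_assoc, e5, one_mul]
  have e8 : x * y * x * s * (x * y * x)⁻¹ = z := by
    calc _ = x * (y * (x * s * x⁻¹) * y⁻¹) * x⁻¹ := by group
      _ = x * ((y * s * y⁻¹) * (y * z * y⁻¹)) * x⁻¹ := by rw [e1]; group
      _ = z := by rw [e6, e, ← e4, ← mul_assoc s, e3, one_mul, e2]
  rw [← h.cj_eq (e7.trans hs'.symm), ← e8]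
  exact conj_mem_cj _ hs

/-- Timmesfeld: orthogonality is symmetric -/
theorem sym (h : LX Q z) (hs : g * z * g⁻¹ ∈ Q) (hne : g * z * g⁻¹ ≠ z)
    (hp : ∃ p ∈ Q, p ∈ C_[g * z * g⁻¹] ∧ p * p ≠ 1) : z ∈ BG.cj g Q := by
  by_contra hz
  have h' := h.cj g
  have k0 : ∀ x ∈ BG.cj g Q, z * x * z⁻¹ * x⁻¹ ∈ zpowers (g * z * g⁻¹) → x ∈ C_[z] := by
    intro x hx e
    rcases h'.aes.eq_or e with e | e
    · rw [mem_cent1, eq_comm, ← mul_inv_eq_iff_eq_mul, ← mul_inv_eq_one, e]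
    · refine absurd (h.swap hs hne (aes_le h'.aes hx) ?_) hz
      rw [← e, ← mul_assoc, ← mul_assoc, ← mul_assoc, h.aes.mul_self, one_mul, inv_eq_of_mul_eq_one_right h.aes.mul_self]
  have hsz := h.notMem hne
  generalize g * z * g⁻¹ = s at *
  generalize BG.cj g Q = Q' at *
  have zs : z ∈ C_[s] := mem_cent1_comm.1 (aes_le h.aes hs)
  have zQ : z ∈ N_(Q') := h'.norm zs
  have k1 : ∀ u ∈ zpowers z, u ∈ Q' → u = 1 := fun u h1 h2 => (h.aes.eq_or h1).resolve_right fun e => hz (e ▸ h2)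
  have hP : Q ⊓ C_[s] ≤ N_(Q') := inf_le_right.trans h'.norm
  have hR : Q' ⊓ C_[z] ≤ N_(Q) := inf_le_right.trans h.norm
  have k2 : Q ⊓ Q' ≤ zpowers s := by
    intro e he
    have h1 : e ∈ Q ⊓ C_(Q ⊓ C_(zpowers s)) := by
      refine mem_inf.2 ⟨he.1, mem_cent.2 fun q hq => commutatorElement_eq_one_iff_mul_comm.1 (k1 _ (h.aes.comm _ hq.1 _ he.1) ?_)⟩
      rw [cent_zpowers] at hq
      exact mul_mem (conj_mem_of_norm (hP hq) he.2) (inv_mem he.2)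
    obtain ⟨σ, hσ, c, hc, rfl⟩ := (mem_sup_norm (inf_le_right.trans ((cent_anti (zpowers_le.2 hs)).trans (cent_le_norm _)))).1
      (aes_dc h.aes (zpowers_le.2 hs) h1)
    have h2 : c ∈ Q' := (Q'.mul_mem_cancel_left (h'.aes.zpowers_le hσ).1).1 he.2
    rw [k1 c (h.inv c hc.2 (pow_two c ▸ k1 _ (h.aes.pow c hc.1) (pow_mem h2 2))) h2, mul_one]
    exact hσ
  have k3 : ⁅Q' ⊓ C_[z], Q ⊓ C_[s]⁆ ≤ zpowers s :=
    (le_inf ((comm_mono le_rfl inf_le_left).trans (comm_le_right hR)) ((comm_mono inf_le_left le_rfl).trans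
      (comm_le_left hP))).trans k2
  have k4 : ⁅Q ⊓ C_[s], Q'⁆ ≤ C_(Q' ⊓ C_[z]) := by
    refine comm_eq_bot.1 (three_subgroup (H := Q') (comm_eq_bot.2 ?_) (comm_eq_bot.2 (k3.trans (zpowers_le.2 h'.aes.cent))))
    exact ((comm_mono le_rfl inf_le_left).trans h'.aes.der_le).trans (cent_symm (by rw [cent_zpowers]; exact inf_le_right))
  have k5 : ∀ x ∈ Q', z * (z * x * z⁻¹ * x⁻¹) * z⁻¹ = (z * x * z⁻¹ * x⁻¹)⁻¹ := fun x _ =>
    (by group : _ = z * z * x * (z * z)⁻¹ * z * x⁻¹ * z⁻¹).trans (by rw [h.aes.mul_self]; group)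
  have k6 : ∀ x ∈ Q', z * x * z⁻¹ * x⁻¹ ∈ Q' ⊓ C_[z] := by
    intro x hx
    have h1 : z * x * z⁻¹ * x⁻¹ ∈ Q' := mul_mem (conj_mem_of_norm zQ hx) (inv_mem hx)
    refine mem_inf.2 ⟨h1, k0 _ h1 ?_⟩
    rw [k5 x hx, ← pow_two]
    exact h'.aes.pow _ (inv_mem h1)
  have k7 : Q' ⊓ C_(Q' ⊓ C_[z]) ≤ C_[z] := by
    set U := closure ((fun x => z * x * z⁻¹ * x⁻¹) '' Q') with hU
    have h1 : U ≤ Q' ⊓ C_[z] := (closure_le _).2 (by rintro _ ⟨x, hx, rfl⟩; exact k6 x hx)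
    have h2 : Q' ⊓ C_(U) ≤ Q' ⊓ C_[z] := by
      refine fun x hx => mem_inf.2 ⟨hx.1, k0 x hx.1 (h'.inv _ (mem_cent.2 fun q hq => ?_) ?_)⟩
      · have h3 := aes_perp h'.aes zQ zs hx.1 hq
        rw [commutatorElement_eq_one_iff_mul_comm.2 (mem_cent.1 hx.2 _ (subset_closure ⟨q, hq, rfl⟩)).symm, eq_comm,
          commutatorElement_eq_one_iff_mul_comm] at h3
        have h4 := inv_eq_of_mul_eq_one_right h.aes.mul_self
        rw [h4] at h3 ⊢
        exact h3.symm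
      · have h3 := k5 x hx.1
        rw [mem_cent1.1 (mem_cent1_comm.1 (k6 x hx.1).2), mul_inv_cancel_right] at h3
        exact mul_eq_one_iff_eq_inv.2 h3
    refine (inf_le_inf_left _ (cent_anti h2)).trans ((aes_dc h'.aes (h1.trans inf_le_left)).trans
      (sup_le (h1.trans inf_le_right) fun c hc => k0 c hc.1 (h'.inv _ ?_ ?_)))
    · exact mul_mem (conj_mem_of_norm (norm_le_norm_cent Q' zQ) hc.2) (inv_mem hc.2)
    · have h3 := mem_cent1.1 (cent1_le_of_mem_zpowers (h'.aes.pow c hc.1) zs)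
      have h4 := mem_cent.1 hc.2 _ (conj_mem_of_norm zQ hc.1)
      calc _ = z * c * z⁻¹ * c⁻¹ * (z * c * z⁻¹ * c) * c⁻¹ * c⁻¹ := by group
        _ = z * c ^ 2 * z⁻¹ * (c ^ 2)⁻¹ := by rw [h4, pow_two]; group
        _ = 1 := by rw [h3]; group
  obtain ⟨p, hp1, hp2, hp3⟩ := hp
  have hp4 : p * p = z := (h.aes.eq_or (pow_two p ▸ h.aes.pow p hp1)).resolve_left hp3
  have hp5 : p ∈ Q ⊓ C_[s] := ⟨hp1, hp2⟩
  refine hz (h'.cent (mem_cent.2 fun x hx => mem_cent1.1 (k0 x hx ?_)))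
  have h1 : ⁅p, x⁆ ∈ Q' := mul_mem (conj_mem_of_norm (hP hp5) hx) (inv_mem hx)
  have h2 : ⁅p, x⁆ ∈ Q' ⊓ C_[z] := ⟨h1, k7 ⟨h1, k4 (commutator_mem_commutator hp5 hx)⟩⟩
  have h3 := k3 (commutator_mem_commutator h2 hp5)
  rw [show z * x * z⁻¹ * x⁻¹ = ⁅⁅p, x⁆, p⁆⁻¹ * ⁅p, x⁆ ^ 2 by
    rw [← hp4]; simp [commutatorElement_def, pow_two, mul_assoc]]
  exact mul_mem (inv_mem h3) (h'.aes.pow _ h1)

theorem le_four (h : LX Q z) (hs : s ∈ Q) (hp : ∀ p ∈ Q, p ∈ C_[s] → p * p = 1) :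
    Q ⊓ C_[s] ≤ zpowers s ⊔ zpowers z := by
  have h1 : IsMulCommutative ↥(Q ⊓ C_[s]) := abelian_iff.2 (le_cent_iff.2 fun x hx y hy => by
    have h2 := hp _ (mul_mem hx hy).1 (mul_mem hx hy).2
    rw [← inv_eq_of_mul_eq_one_right h2, mul_inv_rev, inv_eq_of_mul_eq_one_right (hp _ hx.1 hx.2),
      inv_eq_of_mul_eq_one_right (hp _ hy.1 hy.2)])
  refine (le_inf inf_le_left (abelian_iff.1 h1)).trans ?_
  rw [← cent_zpowers]
  exact (aes_dc h.aes (zpowers_le.2 hs)).trans (sup_le_sup_left (fun c hc => h.inv c hc.2 (hp c hc.1 (cent_le_cent1 hs hc.2))) _)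

/-- the case `Q ≅ D₈` -/
theorem two (h : LX Q z) (hs : s ∈ Q) (h2 : s * s = 1) (hz : s ∉ zpowers z) (hp : ∀ p ∈ Q, p ∈ C_[s] → p * p = 1) :
    IsPGroup 2 C_[z] := by
  obtain ⟨x, hx, e⟩ := h.exists_conj hs h2 hz
  have nc : ∀ x ∈ Q, x * x ≠ 1 → ¬ Commute x s := fun x hx e e' => e (hp x hx (mem_cent1.2 e'.eq))
  have sq : ∀ x ∈ Q, x * x ≠ 1 → x * x = z := fun x hx e => (h.aes.eq_or (pow_two x ▸ h.aes.pow x hx)).resolve_left e
  have h3 : ¬ Commute x s := fun e' => h.aes.ne_one (by rw [e'.eq, mul_inv_cancel_right] at e; simpa using e)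
  obtain ⟨w, hw, hw2⟩ : ∃ w ∈ Q, w * w ≠ 1 := by
    by_contra! h4
    have h5 := h.aes.mul_sq hx hs h3
    rw [pow_two, pow_two, pow_two, h4 _ (mul_mem hx hs), h4 _ hx, h2, one_mul, one_mul] at h5
    exact h.aes.ne_one h5.symm
  have hzw : zpowers z ≤ zpowers w := zpowers_le.2 (sq w hw hw2 ▸ mul_mem (mem_zpowers w) (mem_zpowers w))
  have k1 : ∀ q ∈ Q, q ∈ C_[s] → q ∈ zpowers z ∨ q * s ∈ zpowers z := by
    intro q hq hq'
    obtain ⟨σ, hσ, c, hc, rfl⟩ := (mem_sup_norm (h.aes.zpowers_le.trans (inf_le_right.trans ((cent_anti (zpowers_le.2 hs)).trans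
      (cent_le_norm _))))).1 (h.le_four hs hp ⟨hq, hq'⟩)
    obtain ⟨k, rfl⟩ := mem_zpowers_iff.1 hσ
    have h5 := (h.aes.commute hc hs).eq
    rcases Int.even_or_odd' k with ⟨j, rfl | rfl⟩
    · left; rwa [zpow_mul, zpow_two, h2, one_zpow, one_mul]
    · right; rwa [zpow_add_one, zpow_mul, zpow_two, h2, one_zpow, one_mul, mul_assoc, ← h5, ← mul_assoc, h2, one_mul]
  have k2 : ∀ q ∈ Q, ¬ Commute q s → w⁻¹ * q ∈ C_[s] := fun q hq hq' => by
    rw [mem_cent1, ← mul_inv_eq_iff_eq_mul]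
    calc _ = w⁻¹ * (q * s * q⁻¹) * w := by group
      _ = s := by rw [aes_conj h.aes hq hs hq', ← aes_conj h.aes hw hs (nc w hw hw2)]; group
  have k3 : ∀ q ∈ Q, q ∈ zpowers w ∨ q * s ∈ zpowers w := by
    intro q hq
    by_cases hq' : Commute q s
    · exact (k1 q hq (mem_cent1.2 hq'.eq)).imp (fun e => hzw e) fun e => hzw e
    · refine (k1 _ (mul_mem (inv_mem hw) hq) (k2 q hq hq')).imp (fun e => ?_) fun e => ?_
      · simpa using mul_mem (mem_zpowers w) (hzw e)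
      · simpa [mul_assoc] using mul_mem (mem_zpowers w) (hzw e)
  have hw4 : w ^ 4 = 1 := by rw [show w ^ 4 = w * w * (w * w) by simp [pow_succ, mul_assoc], sq w hw hw2, h.aes.mul_self]
  rintro ⟨a, ha'⟩
  have ha := h.norm ha'
  have az : a * z * a⁻¹ = z := by rw [mem_cent1.1 ha']; group
  have k4 : a ^ 2 ∈ C_[w] := by
    have h5 := conj_mem_of_norm ha hw
    have h6 : a * w * a⁻¹ * (a * w * a⁻¹) = z := by rw [← az, ← sq w hw hw2]; group
    have h7 := nc _ h5 (h6 ▸ h.aes.ne_one)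
    have h8 : w⁻¹ * (a * w * a⁻¹) ∈ zpowers z := by
      refine (k1 _ (mul_mem (inv_mem hw) h5) (k2 _ h5 h7)).resolve_right fun e => ?_
      have h9 := h.aes.mul_sq h5 hs h7
      rw [pow_two (a * w * a⁻¹), h6, pow_two s, h2, mul_one, h.aes.mul_self,
        show a * w * a⁻¹ * s = w * (w⁻¹ * (a * w * a⁻¹) * s) by group, (h.aes.commute e hw).mul_pow, h.aes.pow_eq_one e,
        mul_one, pow_two] at h9
      exact hw2 h9
    rw [mem_cent1, ← mul_inv_eq_iff_eq_mul, show a ^ 2 * w * (a ^ 2)⁻¹ = a * (a * w * a⁻¹) * a⁻¹ by rw [pow_two]; group]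
    rcases h.aes.eq_or h8 with e | e <;> rw [inv_mul_eq_iff_eq_mul] at e
    · rw [e, mul_one, e, mul_one]
    · rw [e, show a * (w * z) * a⁻¹ = (a * w * a⁻¹) * (a * z * a⁻¹) by group, e, az, mul_assoc, h.aes.mul_self, mul_one]
  have hb := pow_mem ha 2
  suffices h5 : (a ^ 2) ^ 4 ∈ Q by
    obtain ⟨k, hk⟩ := h.aes.isPGroup ⟨_, h5⟩
    exact ⟨3 + k, Subtype.ext (by simpa [pow_add, pow_mul, ← pow_mul a 2 4] using congrArg Subtype.val hk)⟩
  generalize a ^ 2 = b at k4 hb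
  have k5 : ∀ u ∈ zpowers w, b * u * b⁻¹ = u := fun u hu => by rw [mem_cent1.1 (cent1_le_of_mem_zpowers hu k4)]; group
  have k6 : b * s * b⁻¹ * s ∈ zpowers w := by
    refine (k3 _ (conj_mem_of_norm hb hs)).resolve_left fun e => nc w hw hw2 ?_
    have h5 := k5 _ e
    rw [show b * s * b⁻¹ = s from (MulAut.conj b).injective h5] at e
    exact (mem_cent1.1 (cent1_le_of_mem_zpowers e (mem_cent1_self w)) :)
  have k7 : ∀ n : ℕ, b ^ n * s * (b ^ n)⁻¹ = (b * s * b⁻¹ * s) ^ n * s := by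
    intro n
    induction n with
    | zero => simp
    | succ n ih =>
      calc _ = b * (b ^ n * s * (b ^ n)⁻¹) * b⁻¹ := by rw [pow_succ']; group
        _ = b * (b * s * b⁻¹ * s) ^ n * b⁻¹ * (b * s * b⁻¹ * (s * s)) := by rw [ih, h2]; group
        _ = _ := by rw [k5 _ (pow_mem k6 n), pow_succ]; simp only [mul_assoc]
  have k8 : b ^ 4 ∈ C_[s] := by
    obtain ⟨k, hk⟩ := mem_zpowers_iff.1 k6
    rw [mem_cent1, ← mul_inv_eq_iff_eq_mul, k7, ← hk, ← zpow_natCast, ← zpow_mul, mul_comm, zpow_mul, zpow_natCast, hw4,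
      one_zpow, one_mul]
  refine h.cent (le_cent1_iff.1 fun q hq => ?_)
  have k9 : zpowers w ≤ C_[b ^ 4] := zpowers_le.2 (mem_cent1_comm.1 (pow_mem k4 4))
  rcases k3 q hq with e | e
  · exact k9 e
  · simpa using mul_mem (k9 e) (inv_mem (mem_cent1_comm.1 k8))

theorem card_le_eight (h : LX Q z) (hs : s ∈ Q) (hp : ∀ p ∈ Q, p ∈ C_[s] → p * p = 1) (h2 : s * s = 1) : Nat.card Q ≤ 8 := by
  have h0 : Q ⊓ C_(Q) ≤ zpowers z := fun c hc => h.inv c hc.2 (hp c hc.1 (cent_le_cent1 hs hc.2))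
  have h1 : Nat.card (zpowers z) = 2 := by rw [Nat.card_zpowers, h.aes.ord]
  have h3 : Nat.card ↥(zpowers s ⊔ zpowers z) ≤ 4 := by
    refine Nat.le_of_dvd (by norm_num) ((card_sup_dvd (h.aes.zpowers_le.trans (inf_le_right.trans
      ((cent_anti (zpowers_le.2 hs)).trans (cent_le_norm _))))).trans ?_)
    rw [h1, Nat.card_zpowers]
    exact mul_dvd_mul_right (orderOf_dvd_of_pow_eq_one (pow_two s ▸ h2)) 2
  have h4 := aes_card h.aes (sup_le (zpowers_le.2 hs) (zpowers_le.2 h.aes.mem)) (h0.trans le_sup_right)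
  have h5 := card_le ((inf_le_inf_left Q ((cent_anti (le_sup_left (b := zpowers z))).trans (cent_zpowers s).le)).trans
    (h.le_four hs hp))
  rw [le_antisymm h0 h.aes.zpowers_le, h1] at h4
  nlinarith

theorem sym' (h : LX Q z) (hs : g * z * g⁻¹ ∈ Q) (hc : 8 < Nat.card Q) : z ∈ BG.cj g Q := by
  by_cases hne : g * z * g⁻¹ = z
  · rw [cj_of_mem_norm (h.norm (mem_cent1.2 (mul_inv_eq_iff_eq_mul.1 hne)))]
    exact h.aes.mem
  refine h.sym hs hne ?_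
  by_contra! h1
  exact hc.not_ge (h.card_le_eight hs h1 (h.conj_sq g))

theorem sym'' (h : LX Q z) (hs : g * z * g⁻¹ ∈ Q) (hc : IsPGroup 2 C_[z] → C_[z] ≤ Q) : z ∈ BG.cj g Q := by
  by_cases hne : g * z * g⁻¹ = z
  · rw [cj_of_mem_norm (h.norm (mem_cent1.2 (mul_inv_eq_iff_eq_mul.1 hne)))]
    exact h.aes.mem
  by_cases h1 : ∃ p ∈ Q, p ∈ C_[g * z * g⁻¹] ∧ p * p ≠ 1
  · exact h.sym hs hne h1
  push Not at h1
  refine cj_mono g (hc (h.two hs (h.conj_sq g) (h.notMem hne) h1)) ?_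
  rw [cj_cent1]
  exact mem_cent1_comm.1 (aes_le h.aes hs)

end LX

omit [Finite G] in
theorem mem_four (hz : z * z = 1) (hs : s * s = 1) (hc : s * z = z * s) (hx : x ∈ closure ({z, s} : Set G)) :
    x = 1 ∨ x = z ∨ x = s ∨ x = z * s := by
  have e1 : ∀ a : G, z * (z * a) = a := fun a => by rw [← mul_assoc, hz, one_mul]
  have e2 : ∀ a : G, s * (z * a) = z * (s * a) := fun a => by rw [← mul_assoc, hc, mul_assoc]
  induction hx using closure_induction with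
  | mem x hx => rcases hx with rfl | rfl <;> simp
  | one => simp
  | mul x y _ _ h1 h2 =>
    rcases h1 with rfl | rfl | rfl | rfl <;> rcases h2 with h | h | h | h <;> simp [h, hz, hs, hc, e1, e2, mul_assoc]
  | inv x _ h1 =>
    rcases h1 with rfl | rfl | rfl | rfl <;> simp [inv_eq_of_mul_eq_one_right hz, inv_eq_of_mul_eq_one_right hs, hc]

/-- two perpendicular "singular" involutions: `S₃` is induced -/
theorem exists_trans {Q' : Subgroup G} (h : LX Q z) (h' : LX Q' s) (hs : s ∈ Q) (hz : z ∈ Q') (hne : s ≠ z) {u v : G}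
    (hu : u ∈ closure ({z, s} : Set G)) (hv : v ∈ closure ({z, s} : Set G)) (h1 : u ≠ 1) (h2 : v ≠ 1) (h3 : u ≠ v) :
    ∃ x ∈ Q ⊔ Q', x * z * x⁻¹ = u ∧ x * s * x⁻¹ = v := by
  obtain ⟨x, hx, e1⟩ := h.exists_conj hs h'.aes.mul_self fun e => (h.aes.eq_or e).elim h'.aes.ne_one hne
  obtain ⟨y, hy, e2⟩ := h'.exists_conj hz h.aes.mul_self fun e => (h'.aes.eq_or e).elim h.aes.ne_one hne.symm
  have e3 : x * z * x⁻¹ = z := by rw [mem_cent1.1 (aes_le h.aes hx)]; group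
  have e4 : y * s * y⁻¹ = s := by rw [mem_cent1.1 (aes_le h'.aes hy)]; group
  have c := mem_cent1.1 (aes_le h.aes hs)
  have zz := h.aes.mul_self
  have ss := h'.aes.mul_self
  have hx' : x ∈ Q ⊔ Q' := mem_sup_left hx
  have hy' : y ∈ Q ⊔ Q' := mem_sup_right hy
  have k : ∀ a b u : G, a * b * u * (a * b)⁻¹ = a * (b * u * b⁻¹) * a⁻¹ := fun a b u => by group
  have k' : ∀ a u v : G, a * (u * v) * a⁻¹ = (a * u * a⁻¹) * (a * v * a⁻¹) := fun a b u => by group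
  have e5 : x * (z * s) * x⁻¹ = s := by rw [k', e1, e3, c, ← mul_assoc, zz, one_mul]
  have e6 : y * (z * s) * y⁻¹ = z := by rw [k', e2, e4, mul_assoc, ss, mul_one]
  rw [c] at e1
  rcases mem_four zz ss c hu with rfl | rfl | rfl | rfl <;> rcases mem_four zz ss c hv with rfl | rfl | rfl | rfl <;>
    try contradiction
  · exact ⟨1, one_mem _, by simp⟩
  · exact ⟨x, hx', e3, e1⟩
  · exact ⟨x * y * x, mul_mem (mul_mem hx' hy') hx', by rw [k, k, e3, e2, e5], by rw [k, k, e1, e6, e3]⟩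
  · exact ⟨x * y, mul_mem hx' hy', by rw [k, e2, e5], by rw [k, e4, e1]⟩
  · exact ⟨y * x, mul_mem hy' hx', by rw [k, e3, e2], by rw [k, e1, e6]⟩
  · exact ⟨y, hy', e2, e4⟩

/-- `Q` is extraspecial with centre `⟨z⟩ = C(Q)` and normal in `C(z)` -/
structure ES (Q : Subgroup G) (z : G) : Prop where
  aes : AES 2 Q z
  cent : C_(Q) ≤ zpowers z
  norm : C_[z] ≤ N_(Q)

namespace ES

omit [Finite G] in
theorem lx (h : ES Q z) : LX Q z := ⟨h.aes, h.cent.trans (zpowers_le.2 h.aes.mem), fun _ hx _ => h.cent hx, h.norm⟩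

omit [Finite G] in
theorem zc (h : ES Q z) : Q ⊓ C_(Q) = zpowers z := le_antisymm (inf_le_right.trans h.cent) h.aes.zpowers_le

omit [Finite G] in
theorem cj (h : ES Q z) (g : G) : ES (cj g Q) (g * z * g⁻¹) :=
  ⟨aes_cj h.aes g, by simpa [← cj_cent, ← cj_zpowers] using h.cent, (h.lx.cj g).norm⟩

omit [Finite G] in
theorem card_z (h : ES Q z) : Nat.card (zpowers z) = 2 := by rw [Nat.card_zpowers, h.aes.ord]

theorem exists_conj (h : ES Q z) (hA : A ≤ Q) (hz : z ∈ A) (hx : x ∈ Q) (h1 : x ∉ A) :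
    ∃ q ∈ Q, q ∈ C_(A) ∧ q * x * q⁻¹ = x * z :=
  aes_exists h.aes hA hx (by rwa [h.zc, sup_eq_left.2 (zpowers_le.2 hz)])

/-- automorphisms which are trivial on `Q / Z(Q)` are inner -/
theorem inner (h : ES Q z) (hx : x ∈ C_[z]) (h1 : ∀ q ∈ Q, x * q * x⁻¹ * q⁻¹ ∈ zpowers z) : x ∈ Q := by
  by_cases h0 : Q ≤ C_[x]
  · exact h.lx.cent (le_cent1_iff.1 h0)
  have hz : z ∈ Q ⊓ C_[x] := ⟨h.aes.mem, mem_cent1_comm.1 hx⟩
  have h2 : ¬ Q ⊓ C_(Q ⊓ C_[x]) ≤ C_(Q) := fun e => h0 ((le_inf le_rfl (cent_symm e)).trans ((aes_dc h.aes inf_le_left).trans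
    (sup_le inf_le_right (h.zc.le.trans (zpowers_le.2 hz.2)))))
  obtain ⟨y, hy, hy'⟩ := SetLike.not_le_iff_exists.1 h2
  obtain ⟨q, hq, e⟩ : ∃ q ∈ Q, ¬ Commute y q := by
    by_contra! e
    exact hy' (mem_cent.2 fun q hq => (e q hq).eq.symm)
  have k1 : ∀ r ∈ Q, r ∉ C_[x] → x * r * x⁻¹ = z * r := fun r hr e' => mul_inv_eq_iff_eq_mul.1
    ((h.aes.eq_or (h1 r hr)).resolve_left fun e => e' (mem_cent1.2 (mul_inv_eq_iff_eq_mul.1 (mul_inv_eq_one.1 e)).symm))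
  have k2 : q ∉ C_[x] := fun e' => e (mem_cent.1 hy.2 q ⟨hq, e'⟩).symm
  have k3 : y⁻¹ * x ∈ C_(Q) := by
    refine mem_cent.2 fun r hr => ?_
    rw [eq_comm, ← mul_inv_eq_iff_eq_mul, show y⁻¹ * x * r * (y⁻¹ * x)⁻¹ = y⁻¹ * (x * r * x⁻¹) * y by group]
    by_cases hr' : r ∈ C_[x]
    · rw [← mem_cent1.1 hr', mul_inv_cancel_right, mul_assoc, mem_cent.1 hy.2 r ⟨hr, hr'⟩, inv_mul_cancel_left]
    · have h3 : q⁻¹ * r ∈ C_[x] := by
        rw [mem_cent1, eq_comm, ← mul_inv_eq_iff_eq_mul]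
        calc _ = (x * q * x⁻¹)⁻¹ * (x * r * x⁻¹) := by group
          _ = _ := by rw [k1 q hq k2, k1 r hr hr']; group
      have h4 := mem_cent.1 hy.2 _ (mem_inf.2 ⟨mul_mem (inv_mem hq) hr, h3⟩)
      rw [k1 r hr hr', mul_assoc, inv_mul_eq_iff_eq_mul, eq_comm, ← mul_inv_eq_iff_eq_mul]
      calc _ = y * q * y⁻¹ * (y * (q⁻¹ * r)) * y⁻¹ := by group
        _ = _ := by rw [← h4, aes_conj h.aes hy.1 hq e, (h.aes.commute (mem_zpowers z) hq).eq]; group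
  simpa using mul_mem hy.1 (h.lx.cent k3)

/-- the centraliser of `C_Q(s)` -/
theorem cent_cent1 (h : ES Q z) (hs : s ∈ Q) (h2 : s * s = 1) : C_(Q ⊓ C_[s]) ≤ zpowers s ⊔ zpowers z := by
  intro c hc
  have hz : z ∈ Q ⊓ C_[s] := ⟨h.aes.mem, mem_cent1_comm.1 (aes_le h.aes hs)⟩
  have k : Q ⊓ C_(Q ⊓ C_[s]) ≤ zpowers s ⊔ zpowers z := by
    rw [← cent_zpowers, ← h.zc]; exact aes_dc h.aes (zpowers_le.2 hs)
  have h1 : c ∈ C_[z] := cent_le_cent1 hz hc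
  have hn := h.norm h1
  refine k ⟨h.inner h1 fun q hq => ?_, hc⟩
  have h3 : c * q * c⁻¹ * q⁻¹ ∈ Q := mul_mem (conj_mem_of_norm hn hq) (inv_mem hq)
  have h4 : c * q * c⁻¹ * q⁻¹ ∈ C_(Q ⊓ C_[s]) := by
    refine comm_eq_bot.1 (three_subgroup (H := Q) (A := zpowers c) (comm_eq_bot.2 ?_) ?_)
      (commutator_mem_commutator (mem_zpowers c) hq)
    · exact ((comm_mono le_rfl inf_le_left).trans h.aes.der_le).trans (cent_symm (by rw [cent_zpowers]; exact zpowers_le.2 h1))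
    · rw [comm_eq_bot.2 (cent_symm (zpowers_le.2 hc)), commutator_bot_left]
  obtain ⟨σ, hσ, u, hu, e⟩ := (mem_sup_norm (h.aes.zpowers_le.trans (inf_le_right.trans ((cent_anti (zpowers_le.2 hs)).trans
      (cent_le_norm _))))).1 (k ⟨h3, h4⟩)
  by_cases hq' : Commute s q
  · rw [← mem_cent.1 hc q ⟨hq, mem_cent1.2 hq'.eq.symm⟩]
    simp
  obtain ⟨j, rfl⟩ := mem_zpowers_iff.1 hσ
  rcases Int.even_or_odd' j with ⟨j, rfl | rfl⟩
  · rwa [← e, zpow_mul, zpow_two, h2, one_zpow, one_mul]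
  · exfalso
    rw [zpow_add_one, zpow_mul, zpow_two, h2, one_zpow, one_mul, (h.aes.commute hu hs).eq, eq_mul_inv_iff_mul_eq] at e
    have h5 := h.aes.mul_sq hs hq hq'
    have h6 : (c * q * c⁻¹) ^ 2 = q ^ 2 := by
      rw [conj_pow, mem_cent1.1 (cent1_le_of_mem_zpowers (h.aes.pow q hq) h1), mul_inv_cancel_right]
    rw [← e, mul_assoc, (h.aes.commute hu (mul_mem hs hq)).symm.mul_pow, h.aes.pow_eq_one hu,
      one_mul, h5, pow_two s, h2, one_mul] at h6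
    exact h.aes.ne_one (by simpa using h6)

theorem odd_inf (h : ES Q z) (hA : Odd (Nat.card A)) (hQ : Q ≤ N_(A)) : A ⊓ C_[z] = ⊥ := by
  have h1 : ∀ B : Subgroup G, IsPGroup 2 B → B ⊓ A = ⊥ := fun B hB => pg_inf_eq_bot Nat.prime_two hB hA.not_two_dvd_nat
  have h2 : A ⊓ C_[z] ≤ C_(Q) := le_cent_of_disj (inf_le_right.trans h.norm) (norm_inf hQ (norm_cent1 (aes_le h.aes)))
    (eq_bot_mono (h1 Q h.aes.isPGroup) (le_inf inf_le_right (inf_le_left.trans inf_le_left)))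
  exact eq_bot_mono (h1 Q h.aes.isPGroup) (le_inf (h2.trans h.lx.cent) inf_le_left)

/-- Aschbacher's criterion for largeness -/
theorem large (h : ES Q z) (hb : b ∈ Q) (h2 : b * b = 1) (hz : b ∉ zpowers z) (hP : IsPGroup 2 P) (hzP : z ∈ P)
    (hn : C_[b] ≤ N_(P)) (hA : Odd (Nat.card A)) (hQ : Q ≤ N_(A)) : A = ⊥ := by
  have h1 := h.odd_inf hA hQ
  have h3 : A ⊓ C_[b] = ⊥ := by
    refine eq_bot_mono h1 (le_inf inf_le_left fun a ha => mem_cent1.2 (commutatorElement_eq_one_iff_mul_comm.1 ?_))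
    refine eq_one_of_mem_of_disj (pg_inf_eq_bot Nat.prime_two hP hA.not_two_dvd_nat)
      (mul_mem (conj_mem_of_norm (hn ha.2) hzP) (inv_mem hzP)) ?_
    rw [commutatorElement_def, mul_assoc, mul_assoc, ← mul_assoc z]
    exact mul_mem ha.1 (conj_mem_of_norm (hQ h.aes.mem) (inv_mem ha.1))
  have h4 := inv_of_fpf (hQ hb) (h2 ▸ one_mem _) h3
  have h5 := inv_of_fpf (hQ h.aes.mem) (h.aes.mul_self ▸ one_mem _) h1
  obtain ⟨q, hq, e⟩ := h.lx.exists_conj hb h2 hz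
  rw [← cj_eq_bot_iff (g := q), cj_inf, cj_of_mem_norm (hQ hq), cj_cent1, e] at h3
  refine eq_bot_mono h3 (le_inf le_rfl fun a ha => mem_cent1.2 ?_)
  rw [eq_comm, ← mul_inv_eq_iff_eq_mul, show b * z * a * (b * z)⁻¹ = b * (z * a * z⁻¹) * b⁻¹ by group, h5 a ha,
    h4 _ (inv_mem ha), inv_inv]

theorem large' (h : ES Q z) (hs : g * z * g⁻¹ ∈ Q) (hne : g * z * g⁻¹ ≠ z) (hc : 8 < Nat.card Q)
    (hA : Odd (Nat.card A)) (hQ : Q ≤ N_(A)) : A = ⊥ :=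
  h.large hs (h.lx.conj_sq g) (h.lx.notMem hne) (h.cj g).aes.isPGroup (h.lx.sym' hs hc) (h.cj g).norm hA hQ

theorem extraspecial (h : ES Q z) (hne : ¬ Q ≤ zpowers z) : IsExtraspecial 2 Q :=
  isExtraspecial_of_aes h.aes h.zc.le fun e => hne ((abelian_iff.1 e).trans h.cent)

theorem isLarge (h : ES Q z) (hne : ¬ Q ≤ zpowers z) (h4 : ∀ A : Subgroup G, Odd (Nat.card A) → Q ≤ N_(A) → A = ⊥) :
    IsLargeExtraspecial Q := by
  refine ⟨h.extraspecial hne, ?_, ?_, h4⟩ <;> rw [map_subtype_center, h.zc]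
  · exact le_antisymm h.cent (h.aes.zpowers_le.trans inf_le_right)
  · rw [cent_zpowers]; exact h.norm

end ES

theorem es_of (h1 : IsExtraspecial 2 Q) (h2 : C_(Q) = (center Q).map Q.subtype)
    (h3 : C_((center Q).map Q.subtype) ≤ N_(Q)) : ∃ z, ES Q z ∧ (center Q).map Q.subtype = zpowers z ∧ ¬ Q ≤ zpowers z := by
  obtain ⟨z, a1, a2, a3⟩ := exists_aes_of_isExtraspecial' h1
  rw [map_subtype_center, a2] at h2 h3 ⊢
  exact ⟨z, ⟨a1, h2.le, by rwa [cent_zpowers] at h3⟩, rfl, fun e => a3 (abelian_of_le (abelian_of_cyclic (cyclic_zpowers z)) e)⟩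

theorem es_of' (h1 : IsExtraspecial 2 Q) (hz : orderOf z = 2) (h2 : Q ≤ C_[z]) (h3 : C_[z] ≤ N_(Q))
    (h4 : C_[z] ⊓ C_(Q) ≤ Q) : ES Q z ∧ (center Q).map Q.subtype = zpowers z ∧ ¬ Q ≤ zpowers z := by
  obtain ⟨w, a1, a2, a3⟩ := exists_aes_of_isExtraspecial' h1
  have h5 : z ∈ C_(Q) := le_cent1_iff.1 h2
  have h6 : z ∈ zpowers w := a2 ▸ mem_inf.2 ⟨h4 ⟨mem_cent1_self z, h5⟩, h5⟩
  obtain rfl : z = w := (a1.eq_or h6).resolve_left fun e => by simp [e] at hz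
  exact ⟨⟨a1, (le_inf ((le_inf (cent_le_cent1 a1.mem) le_rfl).trans h4) le_rfl).trans a2.le, h3⟩,
    by rw [map_subtype_center, a2], fun e => a3 (abelian_of_le (abelian_of_cyclic (cyclic_zpowers z)) e)⟩

theorem es_of_fstar (h1 : IsExtraspecial 2 Q) (hz : orderOf z = 2) (hF : H22.fstarOf C_[z] = Q) :
    ES Q z ∧ (center Q).map Q.subtype = zpowers z ∧ ¬ Q ≤ zpowers z :=
  es_of' h1 hz (hF ▸ H22.fstarOf_le _) (hF ▸ (le_norm _).trans (H22.normalizer_le_normalizer_fstarOf _))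
    (hF ▸ (H22.inf_centralizer_fstarOf_le _).trans ((H22.fstarOf_eq _).ge.trans' le_sup_right))

theorem es_of_large (h : IsLargeExtraspecial Q) (hz : (center Q).map Q.subtype = zpowers z) : ES Q z ∧ ¬ Q ≤ zpowers z := by
  obtain ⟨w, a1, a2, a3⟩ := es_of h.1 h.2.1 h.2.2.1
  have e : zpowers z = zpowers w := hz.symm.trans a2
  obtain rfl : z = w := (a1.aes.eq_or (e ▸ mem_zpowers z)).resolve_left fun e' => a1.aes.ne_one (by
    rw [e', zpowers_one_eq_bot, eq_comm, zpowers_eq_bot] at e; exact e)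
  exact ⟨a1, a3⟩

end H03
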