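import Mathlib
import Cfsg.Agent.H03.LX1
import Cfsg.Agent.H01.KS122a
import Cfsg.Agent.H29.Coxeter

/-!
Large extraspecial 2-subgroups, part 2 (namespace H03): two perpendicular conjugate involutions, `PP Q z Q' s`
(Aschbacher, Sporadic groups 8.15).
-/

set_option autoImplicit false
open Cfsg BG H04 Subgroup
open scoped commutatorElement

namespace H03

variable {G : Type*} [Group G] [Finite G] {H N P A B Q Q' R U : Subgroup G} {a b g s t u x y z : G} {p : ℕ}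

omit [Finite G] in
theorem dvd_relIndex_of_pow (hp : p.Prime) (hH : H ≤ N_(N)) (hx : x ∈ H) (h1 : x ^ p ∈ N) (h2 : x ∉ N) :
    p ∣ N.relIndex H := by
  have := Fact.mk hp
  rw [← card_quo hH, ← orderOf_eq_prime (p := p) (x := qmk N ⟨x, hH hx⟩) (by rw [← qmk_pow, qmk_eq_one]; exact h1)
    (fun e => h2 (qmk_eq_one.1 e))]
  exact BG.orderOf_dvd_card (qmk_mem_quo hx _)

omit [Finite G] in
theorem mem_cent1c : y ∈ C_[x] ↔ y * x * y⁻¹ = x := by rw [mem_cent1, mul_inv_eq_iff_eq_mul]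

omit [Finite G] in
theorem cent_pair (a b : G) : C_(closure ({a, b} : Set G)) = C_[a] ⊓ C_[b] := by
  rw [show ({a, b} : Set G) = {a} ∪ {b} from rfl, Subgroup.closure_union, cent_sup, ← zpowers_eq_closure, ← zpowers_eq_closure,
    cent_zpowers, cent_zpowers]

structure PP (Q : Subgroup G) (z : G) (Q' : Subgroup G) (s : G) : Prop where
  h : ES Q z
  h' : ES Q' s
  hs : s ∈ Q
  hz : z ∈ Q'
  ne : s ≠ z
  link : ∀ a : G, a * z * a⁻¹ = s → cj a Q = Q'

theorem ES.pp (h : ES Q z) (hs : g * z * g⁻¹ ∈ Q) (hne : g * z * g⁻¹ ≠ z) (hc : 8 < Nat.card Q) :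
    PP Q z (BG.cj g Q) (g * z * g⁻¹) :=
  ⟨h, h.cj g, hs, h.lx.sym' hs hc, hne, fun _ e => h.lx.cj_eq e⟩

namespace PP

variable (h : PP Q z Q' s)
include h

omit [Finite G] in
theorem symm : PP Q' s Q z :=
  ⟨h.h', h.h, h.hz, h.hs, h.ne.symm, fun a e => by rw [← h.link a⁻¹ (by rw [← e]; group), cj_cj_inv]⟩

omit [Finite G] in
theorem notMem : s ∉ zpowers z := fun e => (h.h.aes.eq_or e).elim h.h'.aes.ne_one h.ne

omit [Finite G] in
theorem comm : s * z = z * s := mem_cent1.1 (aes_le h.h.aes h.hs)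

omit [Finite G] in
theorem disj : zpowers z ⊓ zpowers s = ⊥ :=
  inf_eq_bot_of_prime (h.h.card_z ▸ Nat.prime_two) fun e => h.symm.notMem (e (mem_zpowers z))

omit [Finite G] in
theorem V_le : closure {z, s} ≤ Q := (closure_le _).2 (Set.pair_subset h.h.aes.mem h.hs)

omit [Finite G] in
theorem V_le' : closure {z, s} ≤ Q' := Set.pair_comm s z ▸ h.symm.V_le

omit [Finite G] in
theorem norm_V : Q ≤ N_(closure {z, s}) := h.h.aes.le_norm h.V_le (subset_closure (by simp))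

omit [Finite G] in
theorem X_norm_V : Q ⊔ Q' ≤ N_(closure {z, s}) := sup_le h.norm_V (Set.pair_comm s z ▸ h.symm.norm_V)

omit [Finite G] h in
theorem V_eq : closure ({z, s} : Set G) = zpowers z ⊔ zpowers s := by
  rw [show ({z, s} : Set G) = {z} ∪ {s} from rfl, Subgroup.closure_union, ← zpowers_eq_closure, ← zpowers_eq_closure]

omit [Finite G] in
theorem card_V : Nat.card (closure ({z, s} : Set G)) = 4 := by
  rw [V_eq, card_sup_of_disj (zpowers_le.2 (cent_le_norm _ (by rw [cent_zpowers]; exact aes_le h.h.aes h.hs))) h.disj,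
    h.h.card_z, h.h'.card_z]

omit [Finite G] in
theorem elem_V : IsElementaryAbelian 2 (closure ({z, s} : Set G)) := by
  refine ⟨abelian_iff.2 (by rw [cent_pair]; exact le_inf (h.V_le.trans (aes_le h.h.aes)) (h.V_le'.trans (aes_le h.h'.aes))),
    fun a ha => ?_⟩
  rcases mem_four h.h.aes.mul_self h.h'.aes.mul_self h.comm ha with rfl | rfl | rfl | rfl
  · simp
  · exact pow_two a ▸ h.h.aes.mul_self
  · exact pow_two a ▸ h.h'.aes.mul_self
  · rw [Commute.mul_pow h.comm.symm, pow_two, pow_two, h.h.aes.mul_self, h.h'.aes.mul_self, one_mul]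

theorem trans {u v : G} (hu : u ∈ closure ({z, s} : Set G)) (hv : v ∈ closure ({z, s} : Set G)) (h1 : u ≠ 1) (h2 : v ≠ 1)
    (h3 : u ≠ v) : ∃ x ∈ Q ⊔ Q', x * z * x⁻¹ = u ∧ x * s * x⁻¹ = v :=
  exists_trans h.h.lx h.h'.lx h.hs h.hz h.ne hu hv h1 h2 h3

theorem trans1 (hu : u ∈ closure ({z, s} : Set G)) (h1 : u ≠ 1) : ∃ x ∈ Q ⊔ Q', x * z * x⁻¹ = u := by
  by_cases e : u = z
  · exact ⟨1, one_mem _, by simp [e]⟩
  · obtain ⟨x, hx, e, -⟩ := h.trans hu (subset_closure (by simp)) h1 h.h.aes.ne_one e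
    exact ⟨x, hx, e⟩

theorem six (h1 : Q ⊔ Q' ≤ H) (h2 : H ≤ N_(closure {z, s})) : C_(closure ({z, s} : Set G)).relIndex H = 6 := by
  have mz : z ∈ closure ({z, s} : Set G) := subset_closure (by simp)
  have ms : s ∈ closure ({z, s} : Set G) := subset_closure (by simp)
  have zz := h.h.aes.mul_self
  have ss := h.h'.aes.mul_self
  have n1 : z * s ≠ 1 := fun e => h.ne (by rw [← mul_one z, ← e, ← mul_assoc, zz, one_mul])
  have k : ∀ a b u : G, a * b * u * (a * b)⁻¹ = a * (b * u * b⁻¹) * a⁻¹ := fun a b u => by group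
  have k' : ∀ a u v : G, a * (u * v) * a⁻¹ = (a * u * a⁻¹) * (a * v * a⁻¹) := fun a b u => by group
  have hn := h2.trans (norm_le_norm_cent _)
  refine Nat.dvd_antisymm (H01.idx_four h.elem_V h.card_V h2) ((show Nat.Coprime 2 3 by norm_num).mul_dvd_of_dvd_of_dvd ?_ ?_)
  · obtain ⟨x, hx, e1, e2⟩ := h.trans mz (mul_mem mz ms) h.h.aes.ne_one n1 (by simpa using h.h'.aes.ne_one)
    refine dvd_relIndex_of_pow Nat.prime_two hn (h1 hx) ?_ fun e => h.h.aes.ne_one ?_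
    · rw [cent_pair, mem_inf, mem_cent1c, mem_cent1c, pow_two, k, k,
        e1, e1, e2, k', e1, e2, ← mul_assoc, zz, one_mul]
      exact ⟨rfl, rfl⟩
    · simpa [← mem_cent.1 e s ms] using e2
  · obtain ⟨x, hx, e1, e2⟩ := h.trans ms (mul_mem mz ms) h.h'.aes.ne_one n1 (by simpa using h.h.aes.ne_one)
    have e3 : x * (z * s) * x⁻¹ = z := by rw [k', e1, e2, ← h.comm, ← mul_assoc, ss, one_mul]
    refine dvd_relIndex_of_pow Nat.prime_three hn (h1 hx) ?_ fun e => h.ne ?_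
    · rw [cent_pair, mem_inf, mem_cent1c, mem_cent1c, pow_three', k, k,
        k, k, e1, e2, e3, e1]
      exact ⟨rfl, rfl⟩
    · simpa [← mem_cent.1 e z mz] using e1.symm

omit [Finite G] in
theorem comm_cent : ⁅Q, C_(closure ({z, s} : Set G))⁆ ≤ Q ⊓ C_[s] := by
  refine le_inf (comm_le_left ?_) ((comm_le_right (norm_cent h.norm_V)).trans ?_) <;> rw [cent_pair]
  · exact inf_le_left.trans h.h.norm
  · exact inf_le_right

omit [Finite G] in
theorem comm_cent' : ⁅Q', C_(closure ({z, s} : Set G))⁆ ≤ Q' ⊓ C_[z] := Set.pair_comm s z ▸ h.symm.comm_cent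

omit [Finite G] in
theorem R_le : Q' ⊓ C_[z] ⊔ Q ⊓ C_[s] ≤ C_(closure ({z, s} : Set G)) := by
  rw [cent_pair]
  exact sup_le (le_inf inf_le_right (inf_le_left.trans (aes_le h.h'.aes))) (le_inf (inf_le_left.trans (aes_le h.h.aes)) inf_le_right)

omit [Finite G] in
theorem X_norm_R : Q ⊔ Q' ≤ N_(Q' ⊓ C_[z] ⊔ Q ⊓ C_[s]) := by
  refine sup_le (le_norm_of_comm_le ?_) (le_norm_of_comm_le ?_) <;> rw [comm_comm]
  · exact (comm_mono le_rfl h.R_le).trans (h.comm_cent.trans le_sup_right)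
  · exact (comm_mono le_rfl h.R_le).trans (h.comm_cent'.trans le_sup_left)

omit [Finite G] in
theorem comm_X : ⁅Q ⊔ Q', C_(closure ({z, s} : Set G))⁆ ≤ Q' ⊓ C_[z] ⊔ Q ⊓ C_[s] :=
  comm_sup_le (le_sup_left.trans h.X_norm_R) (le_sup_right.trans h.X_norm_R) (h.comm_cent.trans le_sup_right)
    (h.comm_cent'.trans le_sup_left)

omit [Finite G] h in
theorem R_le_X : Q' ⊓ C_[z] ⊔ Q ⊓ C_[s] ≤ Q ⊔ Q' := sup_le (inf_le_left.trans le_sup_right) (inf_le_left.trans le_sup_left)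

omit [Finite G] in
theorem pg_R : IsPGroup 2 ↥(Q' ⊓ C_[z] ⊔ Q ⊓ C_[s]) :=
  pg_sup (pg_le h.h'.aes.isPGroup inf_le_left) (pg_le h.h.aes.isPGroup inf_le_left)
    (norm_inf (inf_le_right.trans h.h'.norm) (norm_cent1 (inf_le_left.trans (aes_le h.h.aes))))

omit [Finite G] in
theorem coset (hx : x ∈ Q) (hy : y ∈ Q) (h1 : x ∉ C_[s]) (h2 : y ∉ C_[s]) : x⁻¹ * y ∈ Q ⊓ C_[s] := by
  refine mem_inf.2 ⟨mul_mem (inv_mem hx) hy, ?_⟩
  rw [mem_cent1, ← mul_inv_eq_iff_eq_mul]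
  calc _ = x⁻¹ * (y * s * y⁻¹) * x := by group
    _ = s := by rw [aes_conj h.h.aes hy h.hs (fun e => h2 (mem_cent1.2 e.eq)),
      ← aes_conj h.h.aes hx h.hs (fun e => h1 (mem_cent1.2 e.eq))]; group

theorem quot [hn : ((Q' ⊓ C_[z] ⊔ Q ⊓ C_[s]).subgroupOf (Q ⊔ Q')).Normal] :
    Nonempty (↥(Q ⊔ Q') ⧸ (Q' ⊓ C_[z] ⊔ Q ⊓ C_[s]).subgroupOf (Q ⊔ Q') ≃* Equiv.Perm (Fin 3)) := by
  obtain ⟨x, hx, e1⟩ := h.h.lx.exists_conj h.hs h.h'.aes.mul_self h.notMem
  obtain ⟨y, hy, e2⟩ := h.h'.lx.exists_conj h.hz h.h.aes.mul_self h.symm.notMem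
  have e3 : x * z * x⁻¹ = z := by rw [mem_cent1.1 (aes_le h.h.aes hx)]; group
  have e4 : y * s * y⁻¹ = s := by rw [mem_cent1.1 (aes_le h.h'.aes hy)]; group
  have k : ∀ a b u : G, a * b * u * (a * b)⁻¹ = a * (b * u * b⁻¹) * a⁻¹ := fun a b u => by group
  have k' : ∀ a u v : G, a * (u * v) * a⁻¹ = (a * u * a⁻¹) * (a * v * a⁻¹) := fun a b u => by group
  have e5 : x * y * x * z * (x * y * x)⁻¹ = s := by
    rw [k, k, e3, e2, k', e1, e3, h.comm, ← mul_assoc, h.h.aes.mul_self, one_mul]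
  have e6 : x * y * x * s * (x * y * x)⁻¹ = z := by
    rw [k, k, e1, k' y, e2, e4, ← h.comm, ← mul_assoc s, h.h'.aes.mul_self, one_mul, e3]
  have n1 : x ∉ C_[s] := fun e => h.h.aes.ne_one (by simpa [mem_cent1.1 e] using e1)
  have n2 : y ∉ C_[z] := fun e => h.h'.aes.ne_one (by simpa [mem_cent1.1 e] using e2)
  set R := Q' ⊓ C_[z] ⊔ Q ⊓ C_[s] with hR
  let π := QuotientGroup.mk' (R.subgroupOf (Q ⊔ Q'))
  have hπ : ∀ a b : ↥(Q ⊔ Q'), (a : G)⁻¹ * b ∈ R → π a = π b := fun a b e => QuotientGroup.eq.2 e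
  let x' : ↥(Q ⊔ Q') := ⟨x, mem_sup_left hx⟩
  let y' : ↥(Q ⊔ Q') := ⟨y, mem_sup_right hy⟩
  have zR : zpowers z ≤ R := zpowers_le.2 (mem_sup_left ⟨h.hz, mem_cent1_self z⟩)
  have sR : zpowers s ≤ R := zpowers_le.2 (mem_sup_right ⟨h.hs, mem_cent1_self s⟩)
  have xx : π x' * π x' = 1 := by
    rw [← map_mul, ← map_one π, eq_comm]; exact hπ _ _ (by simpa [← pow_two] using zR (h.h.aes.pow x hx))
  have yy : π y' * π y' = 1 := by
    rw [← map_mul, ← map_one π, eq_comm]; exact hπ _ _ (by simpa [← pow_two] using sR (h.h'.aes.pow y hy))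
  have br : π y' = π (x' * y' * x' * x' * (x' * y' * x')⁻¹) := by
    have m : x * y * x * x * (x * y * x)⁻¹ ∈ Q' := by rw [← h.link _ e5]; exact conj_mem_cj _ hx
    refine hπ _ _ (mem_sup_left (h.symm.coset hy m n2 fun e => n1 ?_))
    rw [← e6, ← cj_cent1] at e
    exact conj_mem_cj_iff.1 e
  obtain ⟨φ, hφ⟩ := H29.exists_hom_perm_of_coxeter (n := 2) (s := ![π x', π y'])
    (by intro i; fin_cases i; exacts [xx, yy])
    (by
      intro i j hij; fin_cases i <;> fin_cases j <;> simp at hij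
      simp only [map_mul, map_inv] at br
      generalize π x' = a at *
      generalize π y' = b at *
      show a * b * a = b * a * b
      rw [mul_assoc _ a a, xx, mul_one, mul_inv_rev, mul_inv_rev, inv_eq_of_mul_eq_one_right xx,
        inv_eq_of_mul_eq_one_right yy] at br
      calc a * b * a = (b * (a * a) * b) * (a * b * a) := by rw [xx, mul_one, yy, one_mul]
        _ = b * a * (a * b * (a * (b * a))) := by simp only [mul_assoc]
        _ = b * a * b := by rw [← br])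
    (by intro i j hij; fin_cases i <;> fin_cases j <;> simp at hij)
  have f0 : φ (Equiv.swap 0 1) = π x' := hφ 0
  have f1 : φ (Equiv.swap 1 2) = π y' := hφ 1
  refine ⟨(MulEquiv.ofBijective φ ⟨H29.perm3_inj φ fun e => n2 ?_, MonoidHom.range_eq_top.1 ?_⟩).symm⟩
  · rw [f0, f1] at e
    have e7 : x⁻¹ * y ∈ _ := h.R_le (QuotientGroup.eq (a := x') (b := y').1 e)
    rw [cent_pair] at e7
    simpa using mul_mem (aes_le h.h.aes hx) e7.1
  · rw [eq_top_iff, ← MonoidHom.range_eq_top.2 (QuotientGroup.mk'_surjective (R.subgroupOf (Q ⊔ Q'))), MonoidHom.range_eq_map,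
      map_le_iff_le_comap, ← map_le_map_iff_of_injective (subtype_injective _), ← MonoidHom.range_eq_map, range_subtype]
    refine sup_le (fun q hq => ⟨⟨q, mem_sup_left hq⟩, ?_, rfl⟩) fun q hq => ⟨⟨q, mem_sup_right hq⟩, ?_, rfl⟩
    · by_cases e : q ∈ C_[s]
      · exact ⟨1, (map_one _).trans ((map_one π).symm.trans (hπ _ _ (by simpa using mem_sup_right (mem_inf.2 ⟨hq, e⟩))))⟩
      · exact ⟨_, f0.trans (hπ _ _ (mem_sup_right (h.coset hx hq n1 e)))⟩
    · by_cases e : q ∈ C_[z]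
      · exact ⟨1, (map_one _).trans ((map_one π).symm.trans (hπ _ _ (by simpa using mem_sup_left (mem_inf.2 ⟨hq, e⟩))))⟩
      · exact ⟨_, f1.trans (hπ _ _ (mem_sup_left (h.symm.coset hy hq n2 e)))⟩

theorem R_eq : Q' ⊓ C_[z] ⊔ Q ⊓ C_[s] = (Q ⊔ Q') ⊓ C_(closure ({z, s} : Set G)) := by
  have := (normal_subgroupOf_iff_le_normalizer R_le_X).2 h.X_norm_R
  obtain ⟨e⟩ := h.quot
  have h1 : (Q' ⊓ C_[z] ⊔ Q ⊓ C_[s]).relIndex (Q ⊔ Q') = 6 := by
    rw [relIndex, index, Nat.card_congr e.toEquiv, Nat.card_perm, Nat.card_fin]; rfl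
  have h2 := relIndex_mul (le_inf R_le_X h.R_le) (inf_le_left (a := Q ⊔ Q'))
  rw [h1, inf_comm (Q ⊔ Q'), inf_relIndex_right, h.six le_rfl h.X_norm_V] at h2
  exact le_antisymm (le_inf R_le_X h.R_le) (inf_comm (Q ⊔ Q') _ ▸ relIndex_eq_one.1 (by omega))

theorem R_eq_core : Q' ⊓ C_[z] ⊔ Q ⊓ C_[s] = pCoreOf 2 (Q ⊔ Q') := by
  refine le_antisymm (H02.le_pCoreOf R_le_X h.X_norm_R h.pg_R) (h.R_eq ▸ le_inf (H02.pCoreOf_le _) ?_)
  obtain ⟨v, hv, h1⟩ := exists_mem_ne_one (pg_fix_ne_bot Nat.prime_two (H02.pCoreOf_isPGroup (Q ⊔ Q'))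
    (pg_of_card (n := 2) h.card_V) ((H02.pCoreOf_le _).trans h.X_norm_V) (ne_bot_of_card Nat.prime_two two_ne_zero h.card_V))
  have h2 := norm_cent (H02.le_normalizer_pCoreOf (p := 2) (Q ⊔ Q'))
  obtain ⟨x, hx, rfl⟩ := h.trans1 hv.1 h1
  have h3 : z ∈ C_(pCoreOf 2 (Q ⊔ Q')) := by simpa [mul_assoc] using conj_mem_of_norm' (h2 hx) hv.2
  obtain ⟨y, hy, e⟩ := h.trans1 (u := s) (subset_closure (by simp)) h.h'.aes.ne_one
  exact cent_symm ((closure_le _).2 (Set.pair_subset h3 (e ▸ conj_mem_of_norm (h2 hy) h3)))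

theorem norm_V_eq : N_(closure ({z, s} : Set G)) = (Q ⊔ Q') ⊔ C_(closure ({z, s} : Set G)) := by
  refine le_antisymm (fun n hn => ?_) (sup_le h.X_norm_V (cent_le_norm _))
  obtain ⟨x, hx, e1, e2⟩ := h.trans (conj_mem_of_norm hn (subset_closure (by simp : z ∈ _)))
    (conj_mem_of_norm hn (subset_closure (by simp : s ∈ _))) (by simpa using h.h.aes.ne_one) (by simpa using h.h'.aes.ne_one)
    (by simpa using h.ne.symm)
  have : x⁻¹ * n ∈ C_(closure ({z, s} : Set G)) := by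
    rw [cent_pair, mem_inf, mem_cent1c, mem_cent1c]
    constructor
    · calc _ = x⁻¹ * (n * z * n⁻¹) * x := by group
        _ = _ := by rw [← e1]; group
    · calc _ = x⁻¹ * (n * s * n⁻¹) * x := by group
        _ = _ := by rw [← e2]; group
  simpa using mul_mem (mem_sup_left hx) (mem_sup_right this)

theorem norm_X : N_(closure ({z, s} : Set G)) ≤ N_(Q ⊔ Q') := by
  rw [h.norm_V_eq, cent_pair]
  exact sup_le (le_norm _) (norm_sup (inf_le_left.trans h.h.norm) (inf_le_right.trans h.h'.norm))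

end PP

end H03
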