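import Mathlib
import Cfsg.Agent.BG.Quo3
import Cfsg.Agent.H09.SL2Syl
import Cfsg.Agent.H04.ElemAb
import Cfsg.Agent.H10.Perm
import Cfsg.Agent.L.Small
import Cfsg.Agent.S0256

/-! Overgroups of `SL₂(q)` in `GL(V)`, `V` the natural module, whose Sylow `p`-subgroup normalises `SL₂(q)`. -/

namespace H03
open Cfsg BG Subgroup Matrix H09 H17
open scoped MatrixGroups Pointwise

theorem artin_le {F : Type*} [Field F] [Fintype F] (A : Subgroup (RingAut F)) (S : Set F)
    (h : ∀ a ∈ A, ∀ x ∈ S, a x = x) : S.ncard ^ Nat.card A ≤ Fintype.card F := by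
  have : Finite (RingAut F) := Finite.of_injective (fun a : RingAut F => (a : F → F)) DFunLike.coe_injective
  have : Fintype A := Fintype.ofFinite A
  have : Fintype (FixedPoints.subfield A F) := Fintype.ofFinite _
  rw [Module.card_eq_pow_finrank (K := FixedPoints.subfield A F), FixedPoints.finrank_eq_card,
    Nat.card_eq_fintype_card]
  refine Nat.pow_le_pow_left ?_ _
  rw [← Nat.card_eq_fintype_card]
  exact Set.ncard_le_ncard (t := (FixedPoints.subfield A F : Set F)) fun x hx a => h a a.2 x hx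

theorem alt_of_index {K : Type*} [Group K] [Finite K] (H : Subgroup K) {n : ℕ} (hn : 2 ≤ n) (hi : H.index = n + 1)
    (hc : H.normalCore = ⊥) (hH : 2 * Nat.card H = n.factorial) : Nonempty (H ≃* alternatingGroup (Fin n)) := by
  classical
  have : Fintype (K ⧸ H) := Fintype.ofFinite _
  have hq : Fintype.card {y : K ⧸ H // y ≠ (1 : K)} = n := by
    rw [Fintype.card_subtype_compl, Fintype.card_subtype_eq, ← Nat.card_eq_fintype_card, ← index_eq_card, hi]; rfl
  let e := Fintype.equivFinOfCardEq hq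
  have fx : ∀ h : H, (h : K) • ((1 : K) : K ⧸ H) = (1 : K) := fun h =>
    MulAction.mem_stabilizer_iff.1 (by rw [MulAction.stabilizer_quotient]; exact h.2)
  let f : H →* Equiv.Perm {y : K ⧸ H // y ≠ (1 : K)} :=
    { toFun := fun h => (MulAction.toPerm (h : K)).subtypePerm fun y => by
        rw [MulAction.toPerm_apply]; nth_rewrite 1 [← fx h]; exact (smul_left_cancel_iff _).not
      map_one' := by ext; simp
      map_mul' := fun a b => by ext x; exact mul_smul (a : K) b x.1 }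
  have hf : Function.Injective f := by
    rw [injective_iff_map_eq_one]
    intro a ha
    have : (a : K) ∈ H.normalCore := by
      rw [normalCore_eq_ker, MonoidHom.mem_ker]
      ext y
      by_cases hy : y = (1 : K)
      · rw [hy]; exact fx a
      · exact congrArg Subtype.val (Equiv.congr_fun ha ⟨y, hy⟩)
    exact Subtype.ext (mem_bot.1 (hc ▸ this))
  let g : H →* Equiv.Perm (Fin n) := e.permCongrHom.toMonoidHom.comp f
  have hg : Function.Injective g := e.permCongrHom.injective.comp hf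
  have h2 := g.range.card_mul_index
  rw [← Nat.card_congr (MonoidHom.ofInjective hg).toEquiv, Nat.card_perm, Nat.card_fin, ← hH, mul_comm 2] at h2
  have : Nontrivial (Fin n) := Fin.nontrivial_iff_two_le.2 hn
  exact ⟨(MonoidHom.ofInjective hg).trans (MulEquiv.subgroupCongr (Equiv.Perm.eq_alternatingGroup_of_index_eq_two
    (Nat.eq_of_mul_eq_mul_left Nat.card_pos h2)))⟩

theorem exists_gl4_alt8 : Nonempty (GL (Fin 4) (ZMod 2) ≃* alternatingGroup (Fin 8)) := by
  obtain ⟨e⟩ := Cfsg.Agent.S0256.result (F := ZMod 2) rfl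
  have h1 : center SL(4, ZMod 2) = ⊥ := Subgroup.card_eq_one.1 (by rw [card_center_SL]; simp)
  have h2 : (GeneralLinearGroup.det : GL (Fin 4) (ZMod 2) →* _).ker = ⊤ :=
    eq_top_iff.2 fun g _ => Subsingleton.elim _ _
  exact ⟨(((topEquiv.symm.trans (MulEquiv.subgroupCongr h2.symm)).trans slEquivKerDet.symm).trans
    ((QuotientGroup.quotientMulEquivOfEq h1).trans QuotientGroup.quotientBot).symm).trans e⟩

variable {F : Type*} [Field F] {G : Type*} [Group G] [DistribMulAction G (Fin 2 → F)]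

/-- the first basis vector -/
def e0 : Fin 2 → F := ![1, 0]

theorem e0_ne : (e0 : Fin 2 → F) ≠ 0 := fun e => by simpa [e0] using congrFun e 0

variable (F) in
/-- the fixed line of the upper unitriangular group -/
def WW : AddSubgroup (Fin 2 → F) where
  carrier := {v | v 1 = 0}
  zero_mem' := rfl
  add_mem' := fun {a b} ha hb => by simp only [Set.mem_ofPred_eq, Pi.add_apply] at *; rw [ha, hb, add_zero]
  neg_mem' := fun {a} ha => by simp only [Set.mem_ofPred_eq, Pi.neg_apply] at *; rw [ha, neg_zero]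

theorem mem_WW {v : Fin 2 → F} : v ∈ WW F ↔ v 1 = 0 := Iff.rfl
theorem smul_e0_mem (c : F) : c • e0 ∈ WW F := by simp [mem_WW, e0]
theorem eq_of_mem {v : Fin 2 → F} (h : v ∈ WW F) : v = v 0 • e0 := by
  ext i; fin_cases i <;> simp [e0, mem_WW.1 h]
theorem smul_mem_WW (c : F) {v : Fin 2 → F} (h : v ∈ WW F) : c • v ∈ WW F := by simp [mem_WW, mem_WW.1 h]
theorem card_WW : Nat.card (WW F) = Nat.card F :=
  Nat.card_congr ⟨fun v => v.1 0, fun c => ⟨c • e0, smul_e0_mem c⟩, fun v => Subtype.ext (eq_of_mem v.2).symm,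
    fun c => by simp [e0]⟩

theorem up_mv (t : F) (v : Fin 2 → F) : (up t).1 *ᵥ v = v + (t * v 1) • e0 := by
  ext i; fin_cases i <;> simp [up, e0, mulVec, dotProduct, Fin.sum_univ_two]

theorem exists_mv' {x : Fin 2 → F} (hx : x ≠ 0) : ∃ s : SL(2, F), s.1 *ᵥ e0 = x := by
  by_cases h : x 0 = 0
  · have h1 : x 1 ≠ 0 := fun e => hx (by ext i; fin_cases i <;> simp [h, e])
    exact ⟨sl2 0 (-(x 1)⁻¹) (x 1) 0 (by simp [h1]), by
      ext i; fin_cases i <;> simp [e0, mulVec, dotProduct, Fin.sum_univ_two, h]⟩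
  · exact ⟨sl2 (x 0) 0 (x 1) (x 0)⁻¹ (by simp [h]), by
      ext i; fin_cases i <;> simp [e0, mulVec, dotProduct, Fin.sum_univ_two]⟩

theorem smul_inf' (g : G) (A B : AddSubgroup (Fin 2 → F)) : g • (A ⊓ B) = g • A ⊓ g • B := by
  ext; simp [AddSubgroup.mem_pointwise_smul_iff_inv_smul_mem]

theorem card_smul' (g : G) (A : AddSubgroup (Fin 2 → F)) : Nat.card ↥(g • A) = Nat.card A :=
  AddSubgroup.card_map_of_injective (f := DistribMulAction.toAddMonoidEnd _ _ g) (MulAction.injective g)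

/-- `ι` is the natural action of `SL₂(F)` inside the faithful action of `G`. -/
structure NA (ι : SL(2, F) →* G) : Prop where
  act : ∀ s (v : Fin 2 → F), ι s • v = s.1 *ᵥ v
  faith : ∀ g : G, (∀ v : Fin 2 → F, g • v = v) → g = 1

/-- the unitriangular subgroup -/
def UU (ι : SL(2, F) →* G) : Subgroup G where
  carrier := {g | ∃ t, g = ι (up t)}
  one_mem' := ⟨0, by rw [up_zero, map_one]⟩
  mul_mem' := by rintro _ _ ⟨a, rfl⟩ ⟨b, rfl⟩; exact ⟨a + b, by rw [← map_mul, up_mul]⟩
  inv_mem' := by rintro _ ⟨a, rfl⟩; exact ⟨-a, by rw [← map_inv, up_inv]⟩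

variable (F G) in
/-- the elements acting trivially on `W` and `V/W` -/
def EE : Subgroup G where
  carrier := {g | (∀ v ∈ WW F, g • v = v) ∧ ∀ v, g • v - v ∈ WW F}
  one_mem' := ⟨fun v _ => one_smul _ v, fun v => by simp [zero_mem]⟩
  mul_mem' := fun {a b} ha hb => ⟨fun v hv => by rw [mul_smul, hb.1 v hv, ha.1 v hv], fun v => by
    simpa [mul_smul] using add_mem (ha.2 (b • v)) (hb.2 v)⟩
  inv_mem' := fun {a} ha => ⟨fun v hv => by rw [inv_smul_eq_iff, ha.1 v hv], fun v => by
    simpa using neg_mem (ha.2 (a⁻¹ • v))⟩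

/-- the field automorphism induced by an element normalising `SL₂` -/
def sg (n : G) (c : F) : F := (n • (c • (n⁻¹ • (e0 : Fin 2 → F)))) 0

namespace NA
variable {ι : SL(2, F) →* G} (h : NA ι)
include h

theorem ext {a b : G} (e : ∀ v : Fin 2 → F, a • v = b • v) : a = b :=
  inv_mul_eq_one.1 (h.faith _ fun v => by rw [mul_smul, ← e, inv_smul_smul])

theorem inj : Function.Injective ι := by
  rw [injective_iff_map_eq_one]
  intro s hs
  refine Subtype.ext (Matrix.toLin'.injective (LinearMap.ext fun v => ?_))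
  rw [toLin'_apply, ← h.act, hs]; simp

theorem up_act (t : F) (v : Fin 2 → F) : ι (up t) • v = v + (t * v 1) • e0 := by rw [h.act, up_mv]

theorem fix_up {t : F} (ht : t ≠ 0) {v : Fin 2 → F} : ι (up t) • v = v ↔ v ∈ WW F := by
  rw [h.up_act, add_eq_left, smul_eq_zero, mem_WW]; simp [ht, e0_ne]

theorem semi {n : G} (hn : n ∈ N_(ι.range)) (c : F) (v : Fin 2 → F) : n • (c • v) = sg n c • (n • v) := by
  have key : ∀ s : SL(2, F), ∀ w : Fin 2 → F, n • (c • (n⁻¹ • (s.1 *ᵥ w))) = s.1 *ᵥ (n • (c • (n⁻¹ • w))) := by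
    intro s w
    obtain ⟨s', hs'⟩ := conj_mem_of_norm' hn (⟨s, rfl⟩ : ι s ∈ ι.range)
    have e1 : n⁻¹ • (s.1 *ᵥ w) = s'.1 *ᵥ (n⁻¹ • w) := by rw [← h.act, ← h.act, hs']; simp [mul_smul]
    rw [e1, ← mulVec_smul, ← h.act, ← h.act, hs']; simp [mul_smul]
  have h0 : n • (c • (n⁻¹ • (e0 : Fin 2 → F))) ∈ WW F := by
    rw [← h.fix_up one_ne_zero, h.act, ← key, up_mv]; simp [e0]
  obtain ⟨w, rfl⟩ : ∃ w, v = n⁻¹ • w := ⟨n • v, by simp⟩
  by_cases hw : w = 0
  · simp [hw]
  obtain ⟨s, rfl⟩ := exists_mv' hw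
  rw [key, eq_of_mem h0, smul_inv_smul, mulVec_smul, sg]

omit h in
theorem cancel {a b : F} {n : G} (e : a • (n • (e0 : Fin 2 → F)) = b • (n • e0)) : a = b :=
  smul_left_injective F (fun e1 => e0_ne ((smul_eq_zero_iff_eq n).1 e1)) e

/-- the semilinear part -/
def sig : N_(ι.range) →* RingAut F :=
  letI : MulSemiringAction N_(ι.range) F :=
    { smul := fun n c => sg (n : G) c
      one_smul := fun c => by change sg (1 : G) c = c; simp [sg, e0]
      mul_smul := fun a b c => cancel (n := (a : G) * b) (by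
        change sg ((a : G) * b) c • _ = sg (a : G) (sg (b : G) c) • _
        rw [← h.semi (mul_mem a.2 b.2), mul_smul, mul_smul, h.semi b.2, h.semi a.2])
      smul_zero := fun a => by change sg (a : G) 0 = 0; simp [sg]
      smul_add := fun a c d => by change sg (a : G) _ = sg (a : G) _ + sg (a : G) _; simp [sg, add_smul]
      smul_one := fun a => by change sg (a : G) 1 = 1; simp [sg, e0]
      smul_mul := fun a c d => cancel (n := (a : G)) (by
        change sg (a : G) _ • _ = (sg (a : G) c * sg (a : G) d) • _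
        rw [← h.semi a.2, mul_smul, mul_smul, h.semi a.2, h.semi a.2]) }
  MulSemiringAction.toRingAut _ _

theorem sig_apply (n : N_(ι.range)) (c : F) (v : Fin 2 → F) : (n : G) • (c • v) = h.sig n c • ((n : G) • v) :=
  h.semi n.2 c v

theorem card_U : Nat.card (UU ι) = Nat.card F :=
  (Nat.card_congr (Equiv.ofBijective (fun t => (⟨ι (up t), t, rfl⟩ : UU ι))
    ⟨fun _ _ e => up_injective (h.inj (congrArg Subtype.val e)), by rintro ⟨_, t, rfl⟩; exact ⟨t, rfl⟩⟩)).symm

theorem U_le_E : UU ι ≤ EE F G := by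
  rintro _ ⟨t, rfl⟩
  exact ⟨fun v hv => by simp [h.up_act, mem_WW.1 hv], fun v => by simpa [h.up_act] using smul_e0_mem _⟩

omit h in
theorem norm_E {g : G} (hg : g • WW F = WW F) {x : G} (hx : x ∈ EE F G) : g * x * g⁻¹ ∈ EE F G := by
  have m : ∀ v, g • v ∈ WW F ↔ v ∈ WW F := fun v => by
    nth_rewrite 1 [← hg]; exact AddSubgroup.smul_mem_pointwise_smul_iff
  refine ⟨fun v hv => ?_, fun v => ?_⟩
  · rw [mul_smul, mul_smul, hx.1 _ ((m _).1 (by simpa using hv)), smul_inv_smul]
  · simpa [smul_sub, mul_smul] using (m _).2 (hx.2 (g⁻¹ • v))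

theorem normal_of_spread (hE : EE F G ≤ UU ι) (hs : ∀ g : G, g • WW F = WW F ∨ g • WW F ⊓ WW F = ⊥) :
    ι.range.Normal := by
  have key : ∀ g t, g * ι (up t) * g⁻¹ ∈ ι.range := by
    intro g t
    obtain ⟨s, hs'⟩ := exists_mv' (x := g • (e0 : Fin 2 → F)) fun e => e0_ne ((smul_eq_zero_iff_eq g).1 e)
    have h1 : ((ι s)⁻¹ * g) • (e0 : Fin 2 → F) = e0 := by rw [mul_smul, ← hs', ← h.act, inv_smul_smul]
    have h0 : (e0 : Fin 2 → F) ∈ WW F := by simp [mem_WW, e0]
    have h2 := (hs ((ι s)⁻¹ * g)).resolve_right fun e => e0_ne (AddSubgroup.mem_bot.1 (e.le ⟨by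
      rw [← h1]; exact AddSubgroup.smul_mem_pointwise_smul _ _ _ h0, h0⟩))
    obtain ⟨t', ht'⟩ := hE (norm_E h2 (h.U_le_E ⟨t, rfl⟩))
    exact ⟨s * up t' * s⁻¹, by rw [map_mul, map_mul, map_inv, ← ht']; group⟩
  refine ⟨?_⟩
  rintro _ ⟨s, rfl⟩ g
  have := eq_top_of_up_lo (ι.range.comap ((MulAut.conj g).toMonoidHom.comp ι)) (key g) fun a => by
    have e : lo a = sl2 0 (-1) 1 0 (by simp) * up (-a) * (sl2 0 (-1) 1 0 (by simp))⁻¹ := by
      simp [lo, up, sl2_inv, sl2_mul]
    have := key (g * ι (sl2 0 (-1) 1 0 (by simp))) (-a)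
    change g * _ * g⁻¹ ∈ ι.range
    rw [e]; simpa [mul_assoc] using this
  exact this.ge (mem_top s)

variable [Fintype F] [Finite G] {p : ℕ} [hp : Fact p.Prime] [CharP F p]

omit [Fintype F] [Finite G] hp in
theorem pg_E : IsPGroup p (EE F G) := pg_of_pow fun x hx => h.faith _ fun v => by
  have : ∀ k : ℕ, x ^ k • v = v + k • (x • v - v) := fun k => by
    induction k with
    | zero => simp
    | succ k ih => rw [pow_succ', mul_smul, ih, smul_add, hx.1 _ (nsmul_mem (hx.2 v) k), succ_nsmul]; abel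
  rw [this, ← Nat.cast_smul_eq_nsmul F, CharP.cast_eq_zero, zero_smul, add_zero]

variable {T : Subgroup G} (hT : IsSylowIn p T ⊤) (hTN : T ≤ N_(ι.range)) (hU : UU ι ≤ T)
include hT hTN

omit [Fintype F] in
theorem mem_U {x : G} (hx : x ∈ T) (hW : ∀ v ∈ WW F, x • v = v) : x ∈ UU ι := by
  have h0 : (e0 : Fin 2 → F) ∈ WW F := by simp [mem_WW, e0]
  have lin : ∀ (c : F) v, x • (c • v) = c • (x • (v : Fin 2 → F)) := fun c v => by
    have : sg x c = c := cancel (n := x) (by rw [← h.semi (hTN hx), hW _ (smul_e0_mem c), hW _ h0])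
    rw [h.semi (hTN hx), this]
  have dec : ∀ v : Fin 2 → F, v = v 0 • e0 + v 1 • ![0, 1] := fun v => by
    ext i; fin_cases i <;> simp [e0]
  have act : ∀ v : Fin 2 → F, x • v = v 0 • e0 + v 1 • (x • ![0, 1]) := fun v => by
    nth_rewrite 1 [dec v]; rw [smul_add, lin, lin, hW _ h0]
  have pw : ∀ k : ℕ, (x ^ k • (![0, 1] : Fin 2 → F)) 1 = (x • (![0, 1] : Fin 2 → F)) 1 ^ k := fun k => by
    induction k with
    | zero => simp
    | succ k ih => rw [pow_succ', mul_smul, act, pow_succ, ← ih]; simp [e0]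
  obtain ⟨k, hk⟩ := hT.pg hp.out ⟨x, hx⟩
  have h1 := pw (p ^ k)
  rw [show x ^ p ^ k = 1 from congrArg Subtype.val hk, one_smul] at h1
  have h2 : (x • (![0, 1] : Fin 2 → F)) 1 = 1 := by
    have : ((x • (![0, 1] : Fin 2 → F)) 1 - 1) ^ p ^ k = 0 := by rw [sub_pow_char_pow, ← h1]; simp
    exact sub_eq_zero.1 (pow_eq_zero_iff (pow_ne_zero _ hp.out.ne_zero) |>.1 this)
  refine ⟨(x • (![0, 1] : Fin 2 → F)) 0, h.ext fun v => ?_⟩
  rw [act, h.up_act]
  ext i; fin_cases i <;> simp [e0, h2, mul_comm]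

include hU

theorem T_stab {x : G} (hx : x ∈ T) : x • WW F = WW F := by
  have hi : T ⊓ ι.range = UU ι := by
    have hS : IsSylowIn p (UU ι) ι.range := by
      refine isSylowIn_mk hp.out (by rintro _ ⟨t, rfl⟩; exact ⟨_, rfl⟩) (pg_le (hT.pg hp.out) hU) ?_
      have := card_mul_relIndex (A := UU ι) (B := ι.range) (by rintro _ ⟨t, rfl⟩; exact ⟨_, rfl⟩)
      rw [h.card_U, ← Nat.card_congr (MonoidHom.ofInjective h.inj).toEquiv, card_SL_two, Nat.card_eq_fintype_card] at this
      rw [Nat.eq_of_mul_eq_mul_left Fintype.card_pos this]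
      exact not_dvd_pow_sub_one p 2 two_ne_zero
    exact hS.eq_of_pg hp.out (pg_le (hT.pg hp.out) inf_le_left) (le_inf hU hS.le) inf_le_right
  have hn : T ≤ N_(UU ι) := hi ▸ norm_inf (le_norm T) hTN
  have key : ∀ y ∈ T, ∀ v ∈ WW F, y • v ∈ WW F := fun y hy v hv => by
    have := (h.U_le_E (conj_mem_of_norm' (hn hy) ⟨1, rfl⟩)).1 v hv
    rw [mul_smul, mul_smul, inv_smul_eq_iff] at this
    exact (h.fix_up one_ne_zero).1 this
  ext v
  rw [AddSubgroup.mem_pointwise_smul_iff_inv_smul_mem]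
  exact ⟨fun e => by simpa using key x hx _ e, key _ (inv_mem hx) v⟩

theorem E_le : EE F G ≤ UU ι := fun _ hx =>
  h.mem_U hT hTN (hT.le_of_norm_pg hp.out h.pg_E le_top
    (le_norm_iff.2 fun _ ha _ hk => norm_E (h.T_stab hT hTN hU ha) hk) hx) hx.1

theorem exists_fix : ∃ a : F, a ≠ 0 ∧ ∀ x ∈ T, x • (a • (e0 : Fin 2 → F)) = a • e0 := by
  let : MulAction T (WW F) :=
    { smul := fun x v => ⟨(x : G) • v.1, (h.T_stab hT hTN hU x.2).le (AddSubgroup.smul_mem_pointwise_smul _ _ _ v.2)⟩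
      one_smul := fun v => Subtype.ext (one_smul G v.1)
      mul_smul := fun a b v => Subtype.ext (mul_smul (a : G) b v.1) }
  obtain ⟨b, hb, hne⟩ := (hT.pg hp.out).exists_fixed_point_of_prime_dvd_card_of_fixed_point (WW F) (by
    obtain ⟨n, -, hn⟩ := FiniteField.card F p
    rw [card_WW, Nat.card_eq_fintype_card, hn]; exact dvd_pow_self p n.ne_zero) (a := 0)
    fun x => Subtype.ext (smul_zero (x : G))
  refine ⟨b.1 0, fun e => hne (Subtype.ext ?_), fun x hx => ?_⟩
  · rw [eq_of_mem b.2, e, zero_smul]; rfl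
  · rw [← eq_of_mem b.2]; exact congrArg Subtype.val (hb ⟨x, hx⟩)

theorem artin {E : Subgroup G} (hE : E ≤ T) (D : AddSubgroup (Fin 2 → F)) (hD : D ≤ WW F)
    (hf : ∀ x ∈ E, ∀ v ∈ D, x • v = v) : Nat.card D ^ (UU ι).relIndex E ≤ Fintype.card F := by
  obtain ⟨a, a0, ha⟩ := h.exists_fix hT hTN hU
  let f : E →* RingAut F := h.sig.comp (inclusion (hE.trans hTN))
  have act : ∀ x : E, ∀ c : F, (x : G) • (c • a • (e0 : Fin 2 → F)) = f x c • a • e0 := fun x c => by
    rw [h.semi (hTN (hE x.2)), ha _ (hE x.2)]; rfl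
  have hk : f.ker = (UU ι).subgroupOf E := by
    ext x
    refine ⟨fun e => h.mem_U (x := (x : G)) hT hTN (hE x.2) fun v hv => ?_, fun e => RingEquiv.ext fun c => ?_⟩
    · have : v = (v 0 / a) • a • e0 := by rw [smul_smul, div_mul_cancel₀ _ a0, ← eq_of_mem hv]
      rw [this, act, MonoidHom.mem_ker.1 e]; rfl
    · have := act x c
      rw [(h.U_le_E (show (x : G) ∈ UU ι from e)).1 _ (smul_mem_WW _ (smul_e0_mem a))] at this
      exact (smul_left_injective F (smul_ne_zero a0 e0_ne) this).symm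
  have := artin_le f.range ((fun v : Fin 2 → F => v 0 / a) '' D) (by
    rintro _ ⟨x, rfl⟩ _ ⟨v, hv, rfl⟩
    have h1 := act x (v 0 / a)
    have : v = (v 0 / a) • a • e0 := by rw [smul_smul, div_mul_cancel₀ _ a0, ← eq_of_mem (hD hv)]
    nth_rewrite 1 [← this] at h1
    rw [hf x x.2 v hv] at h1
    exact smul_left_injective F (smul_ne_zero a0 e0_ne) (h1.symm.trans this))
  rwa [Set.InjOn.ncard_image fun v hv w hw e => by
    rw [eq_of_mem (hD hv), eq_of_mem (hD hw), (div_left_inj' a0).1 e], ← index_ker, hk] at this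

theorem card_T (h4 : Fintype.card F = 4) : Nat.card T ≤ 8 := by
  obtain ⟨a, a0, ha⟩ := h.exists_fix hT hTN hU
  have h1 := h.artin hT hTN hU le_rfl (AddSubgroup.zmultiples (a • e0))
    (AddSubgroup.zmultiples_le.2 (smul_e0_mem a)) (by
      rintro x hx _ ⟨k, rfl⟩; simp only; rw [smul_comm x k, ha x hx])
  have h2 : 1 < Nat.card (AddSubgroup.zmultiples (a • (e0 : Fin 2 → F))) :=
    (AddSubgroup.one_lt_card_iff_ne_bot _).2 (by simpa using ⟨a0, e0_ne⟩)
  have h3 := card_mul_relIndex hU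
  rw [h.card_U, Nat.card_eq_fintype_card, h4] at h3
  have : (UU ι).relIndex T ≤ 2 := (Nat.pow_le_pow_iff_right one_lt_two).1
    ((Nat.pow_le_pow_left h2 _).trans (h1.trans_eq h4))
  omega

theorem four (hn : ¬ ι.range.Normal) : Fintype.card F = 4 ∧ Nat.card T = 8 := by
  obtain ⟨g₀, hg₀, hmax⟩ := Set.Finite.exists_maximalFor (fun g : G => Nat.card ↥(g • WW F ⊓ WW F))
    {g | g • WW F ≠ WW F ∧ g • WW F ⊓ WW F ≠ ⊥} (Set.toFinite _) (by
      by_contra e
      refine hn (h.normal_of_spread (h.E_le hT hTN hU) fun g => ?_)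
      by_contra e1
      exact e ⟨g, not_or.1 e1⟩)
  have hm : ∀ a b : G, a • WW F ≠ b • WW F → Nat.card ↥(a • WW F ⊓ b • WW F) ≤ Nat.card ↥(g₀ • WW F ⊓ WW F) := by
    intro a b hab
    have e : a • WW F ⊓ b • WW F = b • ((b⁻¹ * a) • WW F ⊓ WW F) := by
      rw [smul_inf', ← mul_smul]; simp
    rw [e, card_smul']
    by_cases h0 : (b⁻¹ * a) • WW F ⊓ WW F = ⊥
    · rw [h0, AddSubgroup.card_bot]; exact Nat.card_pos
    · by_contra e1
      exact e1 (hmax ⟨fun e2 => hab (by rwa [mul_smul, inv_smul_eq_iff] at e2), h0⟩ (not_le.1 e1).le)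
  have cW : ∀ g : G, Nat.card ↥(g • WW F) = Nat.card (WW F) := fun g =>
    card_smul' _ _
  obtain ⟨w, hw, hw'⟩ : ∃ w ∈ g₀ • WW F, w ∉ WW F := by
    by_contra e
    push Not at e
    exact hg₀.1 (AddSubgroup.eq_of_le_of_card_ge e (cW g₀).ge)
  set D := g₀ • WW F ⊓ WW F with hD
  let E₀ : Subgroup G :=
    { carrier := {x | x ∈ UU ι ∧ x • w - w ∈ D}
      one_mem' := ⟨one_mem _, by simp [zero_mem]⟩
      mul_mem' := fun {a b} ha hb => ⟨mul_mem ha.1 hb.1, by
        have := add_mem ha.2 hb.2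
        rw [← (h.U_le_E ha.1).1 _ hb.2.2] at this
        simpa [mul_smul, smul_sub] using this⟩
      inv_mem' := fun {a} ha => ⟨inv_mem ha.1, by
        have := neg_mem ha.2
        rw [← (h.U_le_E (inv_mem ha.1)).1 _ this.2] at this
        simpa [smul_sub] using this⟩ }
  have cE : Nat.card D ≤ Nat.card E₀ := Nat.card_le_card_of_injective
    (fun d => ⟨ι (up (d.1 0 / w 1)), ⟨_, rfl⟩, by
      rw [h.up_act, div_mul_cancel₀ _ hw', add_sub_cancel_left, ← eq_of_mem d.2.2]; exact d.2⟩) fun d d' e => by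
      have := up_injective (h.inj (congrArg Subtype.val e))
      exact Subtype.ext (by rw [eq_of_mem d.2.2, eq_of_mem d'.2.2, (div_left_inj' hw').1 this])
  have st : ∀ x ∈ E₀, x • g₀ • WW F = g₀ • WW F := fun x hx => by
    by_contra e
    refine (hm (x * g₀) g₀ (by rwa [mul_smul])).not_gt (Set.ncard_lt_ncard (s := (D : Set (Fin 2 → F)))
      (t := (((x * g₀) • WW F ⊓ g₀ • WW F : AddSubgroup _) : Set (Fin 2 → F))) ⟨fun d hd => ⟨?_, hd.1⟩, fun e1 => ?_⟩)
    · rw [mul_smul, ← (h.U_le_E hx.1).1 d hd.2]; exact AddSubgroup.smul_mem_pointwise_smul _ _ _ hd.1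
    · have h1 : x • w ∈ D := e1 ⟨by rw [mul_smul]; exact AddSubgroup.smul_mem_pointwise_smul _ _ _ hw, by
        have := (g₀ • WW F).add_mem hx.2.1 hw
        rwa [sub_add_cancel] at this⟩
      have := (WW F).sub_mem h1.2 hx.2.2
      rw [sub_sub_cancel] at this
      exact hw' this
  have hE₀ : IsPGroup p E₀ := pg_le (hT.pg hp.out) fun x hx => hU hx.1
  obtain ⟨k, hk, hkT⟩ := sylow_Jsub hp.out (hT.sub (L := MulAction.stabilizer G (WW F))
    (fun x hx => h.T_stab hT hTN hU hx) le_top) (isPGroup_cj.2 hE₀ : IsPGroup p (cj g₀⁻¹ E₀)) fun x hx => by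
      have := st _ (mem_cj_inv.1 hx)
      rwa [← mul_smul, inv_mul_cancel_right, mul_smul, smul_left_cancel_iff] at this
  rw [cj_cj] at hkT
  have hg : (k * g₀⁻¹) • g₀ • WW F = WW F := by rw [← mul_smul, inv_mul_cancel_right]; exact hk
  have hdis : UU ι ⊓ cj (k * g₀⁻¹) E₀ = ⊥ := by
    refine eq_bot_iff.2 fun x hx => ?_
    obtain ⟨y, hy, rfl⟩ := mem_cj'.1 hx.2
    have := (h.U_le_E hx.1).1 ((k * g₀⁻¹) • w) (hg ▸ AddSubgroup.smul_mem_pointwise_smul _ _ _ hw)
    rw [← mul_smul, inv_mul_cancel_right, mul_smul, smul_left_cancel_iff] at this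
    obtain ⟨t, rfl⟩ := hy.1
    by_cases t0 : t = 0
    · simp [t0, up_zero]
    · exact absurd ((h.fix_up t0).1 this) hw'
  have h1 := h.artin hT hTN hU hkT ((k * g₀⁻¹) • D) (by
    rw [← hg]; exact AddSubgroup.pointwise_smul_le_pointwise_smul_iff.2 inf_le_left) (by
      intro x hx v hv
      obtain ⟨y, hy, rfl⟩ := mem_cj'.1 hx
      rw [AddSubgroup.mem_pointwise_smul_iff_inv_smul_mem] at hv
      rw [mul_smul, mul_smul, (h.U_le_E hy.1).1 _ hv.2, smul_inv_smul])
  have h2 := card_inf_mul_relIndex (UU ι) (cj (k * g₀⁻¹) E₀)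
  rw [hdis, Subgroup.card_bot, one_mul, card_cj] at h2
  rw [h2, card_smul'] at h1
  have h3 : 1 < Nat.card D := (AddSubgroup.one_lt_card_iff_ne_bot _).2 hg₀.2
  have h4 : Fintype.card F ≤ Nat.card D * Nat.card D := by
    obtain ⟨x, hx, x1⟩ := exists_mem_ne_one ((Subgroup.one_lt_card_iff_ne_bot E₀).1 (h3.trans_le cE))
    let f : ↥(g₀ • WW F) →+ (Fin 2 → F) := AddMonoidHom.comp (DistribSMul.toAddMonoidHom _ x - AddMonoidHom.id _) (g₀ • WW F).subtype
    have fa : ∀ v, f v = x • v.1 - v.1 := fun v => rfl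
    have e1 := f.ker.card_mul_index
    rw [AddSubgroup.index_ker, cW, card_WW] at e1
    rw [← Nat.card_eq_fintype_card, ← e1]
    obtain ⟨t, rfl⟩ := hx.1
    have t0 : t ≠ 0 := by rintro rfl; exact x1 (by rw [up_zero, map_one])
    refine Nat.mul_le_mul (Nat.card_le_card_of_injective (fun v => ⟨v.1.1, v.1.2, (h.fix_up t0).1
      (sub_eq_zero.1 ((fa _).symm.trans v.2))⟩) fun v v' e => Subtype.ext (Subtype.ext (congrArg Subtype.val e :)))
      (AddSubgroup.card_le_of_le ?_)
    rintro _ ⟨v, rfl⟩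
    exact ⟨(g₀ • WW F).sub_mem ((st _ hx).le (AddSubgroup.smul_mem_pointwise_smul _ _ _ v.2)) v.2, (h.U_le_E hx.1).2 _⟩
  have h5 : Nat.card D ≤ 2 := (Nat.pow_le_pow_iff_right h3).1
    ((Nat.pow_le_pow_right (by omega) cE).trans (h1.trans (h4.trans_eq (sq _).symm)))
  have h6 : Nat.card D = 2 := by omega
  rw [h6] at h1 h4 cE
  have h7 : Fintype.card F = 4 := le_antisymm h4 ((Nat.pow_le_pow_right two_pos cE).trans h1)
  refine ⟨h7, le_antisymm (h.card_T hT hTN hU h7) ?_⟩
  have h8 : UU ι < T := lt_of_le_of_ne hU fun e => by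
    rw [inf_eq_right.2 (e ▸ hkT), cj_eq_bot_iff] at hdis
    rw [hdis] at cE; simp at cE
  have h9 := card_mul_relIndex hU
  have := card_lt h8
  rw [h.card_U, Nat.card_eq_fintype_card, h7] at h9 this
  have := h.card_T hT hTN hU h7
  omega

theorem alt7 (hn : ¬ ι.range.Normal) : Nonempty (G ≃* alternatingGroup (Fin 7)) := by
  obtain ⟨h4, h8⟩ := h.four hT hTN hU hn
  have p2 : p = 2 := by
    obtain ⟨n, -, hn⟩ := FiniteField.card F p
    exact (Nat.prime_dvd_prime_iff_eq hp.out Nat.prime_two).1 (hp.out.dvd_of_dvd_pow (n := 2)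
      (by rw [show 2 ^ 2 = 4 from rfl, ← h4, hn]; exact dvd_pow_self p n.ne_zero))
  subst p2
  obtain ⟨-, φ, -⟩ := H04.exists_mulAut_equiv_GL (G := Multiplicative (Fin 2 → F)) (p := 2) inferInstance
    (fun x => by ext i; simp [CharTwo.two_eq_zero]) (n := 4) (by simp [h4])
  obtain ⟨e8⟩ := exists_gl4_alt8
  let : MulDistribMulAction G (Multiplicative (Fin 2 → F)) :=
    { smul := fun g v => Multiplicative.ofAdd (g • v.toAdd)
      one_smul := fun v => one_smul G v.toAdd
      mul_smul := fun a b v => mul_smul a b v.toAdd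
      smul_mul := fun a v w => smul_add a v.toAdd w.toAdd
      smul_one := fun a => smul_zero (A := Fin 2 → F) a }
  let f : G →* alternatingGroup (Fin 8) :=
    (φ.trans e8).toMonoidHom.comp (MulDistribMulAction.toMulAut G (Multiplicative (Fin 2 → F)))
  have hf : Function.Injective f := by
    rw [injective_iff_map_eq_one]
    intro g hg
    have : MulDistribMulAction.toMulAut G (Multiplicative (Fin 2 → F)) g = 1 := (φ.trans e8).map_eq_one_iff.1 hg
    exact h.faith g fun v => MulEquiv.congr_fun this (Multiplicative.ofAdd v)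
  have c8 : Nat.card (alternatingGroup (Fin 8)) = 20160 := by
    rw [nat_card_alternatingGroup]; simp [Nat.factorial]
  have cL : Nat.card ι.range = 60 := by
    rw [← Nat.card_congr (MonoidHom.ofInjective h.inj).toEquiv, card_SL_two, h4]; rfl
  have d1 : Nat.card G ∣ 20160 := c8 ▸ card_dvd_of_injective f hf
  have d2 : 120 ∣ Nat.card N_(ι.range) :=
    Nat.Coprime.mul_dvd_of_dvd_of_dvd (m := 8) (n := 15) (by norm_num) (h8 ▸ card_dvd hTN)
      ((by norm_num : 15 ∣ 60).trans (cL ▸ card_dvd (le_norm _)))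
  have d3 : ¬ 16 ∣ Nat.card G := fun e => by
    have := hT.pow_dvd Nat.prime_two (n := 4) (by rwa [card_top])
    rw [h8] at this; norm_num at this
  have d4 := N_(ι.range).card_mul_index
  have d5 : N_(ι.range).index ≠ 1 := fun e => hn (normalizer_eq_top_iff.1 (index_eq_one.1 e))
  -- the core of the normaliser
  have simple : IsSimpleGroup ι.range := by
    have h1 : center SL(2, F) = ⊥ := Subgroup.card_eq_one.1 (by rw [card_center_SL, h4]; simp)
    have := PSL_simple_fin (F := F) 2 le_rfl fun _ => h4.ge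
    exact (((QuotientGroup.quotientMulEquivOfEq h1).trans QuotientGroup.quotientBot).trans
      (MonoidHom.ofInjective h.inj)).symm.isSimpleGroup
  have core : Nat.card N_(ι.range) = 120 → N_(ι.range).normalCore = ⊥ := fun e => by
    have hK := N_(ι.range).normalCore_le
    set K := N_(ι.range).normalCore
    have nK : ∀ X : Subgroup G, X ≤ N_(K) := fun X => le_normalizer_of_normal
    rcases simple.eq_bot_or_eq_top_of_normal (K.subgroupOf ι.range) inferInstance with e1 | e1
    · have e2 : K ⊓ ι.range = ⊥ := disjoint_iff.1 (subgroupOf_eq_bot.1 e1)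
      have e3 := le_cent_of_disj hK (nK _) e2
      have e4 := card_le (sup_le hK (le_norm _))
      rw [card_sup_of_disj (nK _) e2, cL, e] at e4
      by_contra e5
      have e6 : Nat.card K = 2 := by have := one_lt_card e5; omega
      obtain ⟨b, hb, hne⟩ := (pg_of_card_eq e6).exists_fixed_point_of_prime_dvd_card_of_fixed_point (Fin 2 → F)
        (by simp [h4]) (a := 0) fun x => smul_zero (x : G)
      obtain ⟨s, hs⟩ := exists_mv' hne.symm
      refine e5 (eq_bot_iff.2 fun x hx => h.faith x fun v => ?_)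
      by_cases v0 : v = 0
      · simp [v0]
      obtain ⟨s', rfl⟩ := exists_mv' v0
      have e7 : s'.1 *ᵥ e0 = ι (s' * s⁻¹) • b := by rw [← hs, ← h.act s, ← mul_smul, ← map_mul, h.act]; simp
      rw [e7, ← mul_smul, ← mem_cent.1 (e3 hx) _ ⟨_, rfl⟩, mul_smul]
      exact congrArg _ (hb ⟨x, hx⟩)
    · have e2 : ι.range ≤ K := subgroupOf_eq_top.1 e1
      have e3 : ⁅K, K⁆ = ι.range := by
        refine le_antisymm ((der_mono hK).trans ((abelian_quo_iff le_rfl).1 (abelian_of_cyclic (cyclic_of_prime ?_)))) ?_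
        · have := card_quo_mul (le_refl N_(ι.range)) (le_norm _)
          rw [cL, e] at this
          rw [show Nat.card (quo ι.range N_(ι.range)) = 2 by omega]; exact Nat.prime_two
        · have := (SL_perfect_fin (F := F) 2 fun _ => h4.ge).commutator_eq_top
          refine le_trans ?_ (der_mono e2)
          rw [MonoidHom.range_eq_map, ← map_commutator, ← _root_.commutator_def, this]
      exact absurd (e3 ▸ inferInstance) hn
  obtain ⟨m, hm⟩ := d2
  have hG : Nat.card G = 120 * (m * N_(ι.range).index) := by rw [← d4, hm, mul_assoc]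
  have d6 : m * N_(ι.range).index ∣ 21 := by
    rw [hG] at d1 d3
    have : m * N_(ι.range).index ∣ 8 * 21 := Nat.dvd_of_mul_dvd_mul_left (k := 120) (by norm_num) d1
    exact Nat.Coprime.dvd_of_dvd_mul_left (Nat.Coprime.pow_right 3 (Nat.coprime_two_right.2
      (Nat.not_even_iff_odd.1 fun ⟨k, hk⟩ => d3 ⟨15 * k, by rw [hk]; ring⟩))) this
  have d7 : ∀ r, r.Prime → m * N_(ι.range).index = r → m = 1 ∧ N_(ι.range).index = r := fun r hr e => by
    have := ((Nat.dvd_prime hr).1 (Dvd.intro_left m e)).resolve_left d5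
    exact ⟨Nat.eq_of_mul_eq_mul_right hr.pos (by rw [one_mul]; rwa [this] at e), this⟩
  have := Nat.le_of_dvd (by norm_num) d6
  generalize hj : m * N_(ι.range).index = j at *
  interval_cases j <;> simp at d6
  · exact absurd (Nat.eq_one_of_mul_eq_one_left hj) d5
  · obtain ⟨rfl, e⟩ := d7 3 Nat.prime_three rfl
    obtain ⟨f, hf⟩ := L.exists_embed_of_core _ e (by norm_num) (core hm)
    have := card_dvd_of_injective f hf
    rw [hG, Nat.card_perm, Nat.card_fin] at this
    norm_num [Nat.factorial] at this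
  · obtain ⟨rfl, e⟩ := d7 7 (by norm_num) rfl
    obtain ⟨f, hf⟩ := L.exists_embed_of_core _ e (by norm_num) (core hm)
    have h1 := f.range.card_mul_index
    rw [← Nat.card_congr (MonoidHom.ofInjective hf).toEquiv, hG, Nat.card_perm, Nat.card_fin] at h1
    have h2 : f.range.index = 6 := by norm_num [Nat.factorial] at h1; omega
    obtain ⟨f', hf'⟩ := L.exists_embed_of_core _ h2 (by norm_num) (H10.normalCore_eq_bot_of_index (by simp) _
      (fun e => by rw [e, index_top] at h2; omega) fun e => by rw [e, alternatingGroup.index_eq_two] at h2; omega)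
    have := card_dvd_of_injective f' hf'
    rw [Nat.card_perm, Nat.card_perm, Nat.card_fin, Nat.card_fin] at this
    norm_num [Nat.factorial] at this
  · have h1 := f.range.card_mul_index
    have h0 := Nat.card_congr (MonoidHom.ofInjective hf).toEquiv
    rw [← h0, hG, c8] at h1
    have : IsSimpleGroup (alternatingGroup (Fin 8)) := alternatingGroup.isSimpleGroup (by simp)
    obtain ⟨e⟩ := alt_of_index f.range (n := 7) (by norm_num) (by omega)
      ((this.eq_bot_or_eq_top_of_normal _ inferInstance).resolve_right fun e => by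
        rw [top_le_iff.1 (e.ge.trans f.range.normalCore_le), index_top] at h1; omega)
      (by rw [← h0, hG]; rfl)
    exact ⟨(MonoidHom.ofInjective hf).trans e⟩

end NA
end H03
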