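import Mathlib
import Cfsg.Agent.H03.NatSL2
import Cfsg.Agent.S0496
import Cfsg.Agent.S0998
import Cfsg.Agent.S1016
import Cfsg.Agent.S1017
import Cfsg.Agent.S0495
import Cfsg.Agent.S0497
import Cfsg.Agent.S0494
import Cfsg.Agent.S0984
import Cfsg.Agent.S0255
import Cfsg.Agent.S2119
import Cfsg.Agent.H22.FStar
import Cfsg.Agent.H08.Simp

/-! Subgroups of `A₈` with trivial Fitting subgroup. -/

namespace H03
namespace A8
open Subgroup Cfsg

abbrev A := alternatingGroup (Fin 8)

theorem cardA : Nat.card A = 20160 := by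
  rw [nat_card_alternatingGroup]; simp [Nat.factorial]

theorem card_dvd_fact {G : Type*} [Group G] [Finite G] (H : Subgroup G) (h : H.normalCore = ⊥) :
    Nat.card G ∣ H.index.factorial := by
  rw [normalCore_eq_ker, MonoidHom.ker_eq_bot_iff] at h
  have := Subgroup.card_dvd_of_injective _ h
  rwa [Nat.card_perm] at this

theorem card_dvd_fact_simple {G : Type*} [Group G] [Finite G] [IsSimpleGroup G] (H : Subgroup G)
    (h : H ≠ ⊤) : Nat.card G ∣ H.index.factorial :=
  card_dvd_fact H ((H.normalCore_normal.eq_bot_or_eq_top).resolve_right fun e =>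
    h (top_le_iff.1 (e ▸ H.normalCore_le)))

instance : IsSimpleGroup A := alternatingGroup.isSimpleGroup (by simp)

variable {X : Type*} [Group X] [Finite X] {φ : X →* A}

omit [Finite X] in
theorem dvd (hφ : Function.Injective φ) : Nat.card X ∣ 20160 :=
  cardA ▸ Subgroup.card_dvd_of_injective φ hφ

omit [Finite X] in
theorem top_or (hφ : Function.Injective φ) : Nonempty (X ≃* A) ∨ Nat.card X ≤ 2520 := by
  by_cases h : φ.range = ⊤
  · exact Or.inl ⟨MulEquiv.ofBijective φ ⟨hφ, MonoidHom.range_eq_top.1 h⟩⟩
  · right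
    have h1 := card_dvd_fact_simple _ h
    have h2 := φ.range.card_mul_index
    rw [← Nat.card_congr (MonoidHom.ofInjective hφ).toEquiv, cardA] at h2
    rw [cardA] at h1
    have : 8 ≤ φ.range.index := by
      by_contra hlt
      have := h1.trans (Nat.factorial_dvd_factorial (show φ.range.index ≤ 7 by omega))
      revert this; decide
    nlinarith

theorem ord7 (g : Equiv.Perm (Fin 8)) (h : 7 ∣ orderOf g) : orderOf g = 7 := by
  rw [← Equiv.Perm.lcm_cycleType] at h ⊢
  obtain ⟨a, ha, h7⟩ : ∃ a ∈ g.cycleType, 7 ∣ a := by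
    by_contra hno
    push Not at hno
    have : (g.cycleType.lcm).Coprime 7 := by
      refine Nat.Coprime.coprime_dvd_left (m := g.cycleType.lcm) (k := g.cycleType.prod)
        (Multiset.lcm_dvd.2 fun b hb => Multiset.dvd_prod hb) ?_
      exact Nat.coprime_multiset_prod_left_iff.2 fun b hb =>
        ((Nat.Prime.coprime_iff_not_dvd (by norm_num)).2 (hno b hb)).symm
    exact absurd (Nat.Coprime.eq_one_of_dvd this.symm h) (by norm_num)
  have hs := g.sum_cycleType_le
  obtain ⟨s, hs'⟩ := Multiset.exists_cons_of_mem ha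
  have h2 := fun b (hb : b ∈ g.cycleType) => Equiv.Perm.two_le_of_mem_cycleType hb
  rw [hs'] at hs h2 ⊢
  rw [Multiset.sum_cons, Fintype.card_fin] at hs
  have a2 := h2 a (Multiset.mem_cons_self _ _)
  have : s = 0 := by
    by_contra hne
    obtain ⟨b, hb⟩ := Multiset.exists_mem_of_ne_zero hne
    have := h2 b (Multiset.mem_cons_of_mem hb)
    have := Multiset.single_le_sum (fun _ _ => Nat.zero_le _) b hb
    omega
  subst this
  simp only [Multiset.cons_zero, Multiset.lcm_singleton, normalize_eq]
  omega

theorem normA (P : Sylow 7 A) : Nat.card (normalizer (P : Set A)) = 21 := by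
  have : Fact (Nat.Prime 7) := ⟨by norm_num⟩
  have hP : Nat.card P = 7 := by
    rw [Sylow.card_eq_multiplicity, cardA, show 20160 = 7 * 2880 from rfl,
      Nat.factorization_mul (by norm_num) (by norm_num)]
    simp [Nat.Prime.factorization (show Nat.Prime 7 by norm_num),
      Nat.factorization_eq_zero_of_not_dvd (show ¬ 7 ∣ 2880 by norm_num)]
  have hcyc : IsCyclic P := isCyclic_of_prime_card hP
  have o7 : ∀ g : A, 7 ∣ orderOf g → orderOf g = 7 := fun g h => by
    rw [← Subgroup.orderOf_coe] at h ⊢; exact ord7 _ h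
  have hC : centralizer ((P : Subgroup A) : Set A) = P := by
    have hle : (P : Subgroup A) ≤ centralizer (P : Set A) := Subgroup.le_centralizer _
    refine P.is_maximal' ?_ hle
    intro c
    obtain ⟨g, hg⟩ := exists_prime_orderOf_dvd_card' (G := P) 7 (by rw [hP])
    by_cases h7 : 7 ∣ orderOf c
    · refine ⟨1, orderOf_dvd_iff_pow_eq_one.1 ?_⟩
      rw [← Subgroup.orderOf_coe, o7 c (by simpa using h7)]; norm_num
    · refine ⟨0, ?_⟩
      have hcm : Commute (g : A) (c : A) := c.2 g g.2
      have hg' : orderOf (g : A) = 7 := by simpa using hg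
      have := hcm.orderOf_mul_eq_mul_orderOf_of_coprime (by
        rw [hg']; exact (Nat.Prime.coprime_iff_not_dvd (by norm_num)).2 (by simpa using h7))
      rw [o7 _ (by rw [this, hg']; exact Dvd.intro _ rfl), hg'] at this
      have h1 : orderOf (c : A) = 1 := by omega
      simpa using h1
  have key := card_dvd_of_injective _ (QuotientGroup.kerLift_injective (P : Subgroup A).normalizerMonoidHom)
  rw [normalizerMonoidHom_ker, ← index, hcyc.card_mulAut, hP, hC] at key
  rw [P.coe_coe] at key
  have h3 := ((P : Subgroup A).subgroupOf (normalizer (P : Set A))).card_mul_index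
  rw [Nat.card_congr (subgroupOfEquivOfLe (H := (P : Subgroup A)) (K := normalizer (P : Set A))
    le_normalizer).toEquiv, hP] at h3
  have h4 := card_sylow_modEq_one 7 A
  rw [Sylow.card_eq_index_normalizer P] at h4
  have h5 := (normalizer (P : Set A)).card_mul_index
  rw [cardA, ← h3] at h5
  rw [← h3]
  rw [show Nat.totient 7 = 6 by decide] at key
  have h6 := Nat.le_of_dvd (by norm_num) key
  generalize ((P : Subgroup A).subgroupOf (normalizer (P : Set A))).index = d at *
  unfold Nat.ModEq at h4
  interval_cases d <;> omega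

theorem norm7 (hφ : Function.Injective φ) (h7 : 7 ∣ Nat.card X) :
    ∃ k, k % 7 = 1 ∧ (Nat.card X = 7 * k ∨ Nat.card X = 21 * k) ∧ k = Nat.card (Sylow 7 X) := by
  have : Fact (Nat.Prime 7) := ⟨by norm_num⟩
  obtain ⟨P⟩ : Nonempty (Sylow 7 X) := inferInstance
  obtain ⟨Q, hQ⟩ := (P.isPGroup'.map φ).exists_le_sylow
  have h7P : 7 ∣ Nat.card P := P.dvd_card_of_dvd_card h7
  have hQc : Nat.card Q = 7 := by
    rw [Sylow.card_eq_multiplicity, cardA, show 20160 = 7 * 2880 from rfl,
      Nat.factorization_mul (by norm_num) (by norm_num)]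
    simp [Nat.Prime.factorization (show Nat.Prime 7 by norm_num),
      Nat.factorization_eq_zero_of_not_dvd (show ¬ 7 ∣ 2880 by norm_num)]
  have hPQ : (P : Subgroup X).map φ = Q := by
    apply Subgroup.eq_of_le_of_card_ge hQ
    rw [card_map_of_injective hφ, hQc]
    exact Nat.le_of_dvd Nat.card_pos h7P
  have h1 : Nat.card (normalizer (P : Set X)) ∣ 21 := by
    rw [← normA Q, ← card_map_of_injective hφ]
    apply card_dvd_of_le
    have := le_normalizer_map (H := (P : Subgroup X)) φ
    rwa [hPQ] at this
  have h2 : 7 ∣ Nat.card (normalizer (P : Set X)) :=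
    h7P.trans (card_dvd_of_le (H := (P : Subgroup X)) le_normalizer)
  refine ⟨_, card_sylow_modEq_one 7 X, ?_, rfl⟩
  rw [Sylow.card_eq_index_normalizer P, ← (normalizer (P : Set X)).card_mul_index]
  have h6 := Nat.le_of_dvd (by norm_num) h1
  have h8 : 0 < Nat.card (normalizer (P : Set X)) := Nat.card_pos
  generalize Nat.card (normalizer (P : Set X)) = d at *
  interval_cases d <;> omega

theorem simple_card [IsSimpleGroup X] (hX : ¬ IsMulCommutative X) (hφ : Function.Injective φ) :
    Nat.card X = 60 ∨ Nat.card X = 168 ∨ Nat.card X = 360 ∨ Nat.card X = 2520 ∨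
      Nat.card X = 20160 := by
  have h7 := norm7 hφ
  obtain ⟨k, hk⟩ := dvd hφ
  rcases top_or hφ with ⟨⟨e⟩⟩ | hle
  · rw [Nat.card_congr e.toEquiv, cardA]; simp
  by_cases h : Nat.card X ≤ 1092
  · rcases Cfsg.Agent.S0496.result hX h with h | h | h | h | h | h <;> rw [h] at h7 hk ⊢ <;> omega
  have h16 := Cfsg.Agent.S1016.result (G := X)
  have h17 := Cfsg.Agent.S1017.result (G := X)
  have h18 : Nat.card X ≠ 1344 := fun e => by
    rcases Cfsg.Agent.S0998.result (G := X) (fun hc => hX hc.isMulCommutative) 3 2 7 6 (by norm_num)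
      (by norm_num) (by norm_num) (by norm_num) (by norm_num) (by norm_num) e with
      ⟨F, _, _, hF, ⟨e2⟩⟩ | ⟨F, _, _, hF, ⟨e2⟩⟩
    all_goals
      have := H08.card_psl2 (F := F) (by rw [hF]; decide)
      rw [← Nat.card_congr e2.toEquiv, e, hF] at this
      omega
  have k1 : 8 ≤ k := by by_contra; nlinarith
  have k2 : k ≤ 18 := by by_contra; nlinarith
  interval_cases k <;> omega

theorem sym_of_inj {n : ℕ} (hn : 2 ≤ n) (f : X →* Equiv.Perm (Fin n)) (hf : Function.Injective f)
    (h : n.factorial ≤ 2 * Nat.card X) :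
    Nonempty (X ≃* alternatingGroup (Fin n)) ∨ Nonempty (X ≃* Equiv.Perm (Fin n)) := by
  have h2 := f.range.card_mul_index
  rw [← Nat.card_congr (MonoidHom.ofInjective hf).toEquiv, Nat.card_perm, Nat.card_fin] at h2
  have hp : 0 < Nat.card X := Nat.card_pos
  have h3 : f.range.index ≤ 2 := by nlinarith
  have h4 : f.range.index ≠ 0 := index_ne_zero_of_finite
  have : Nontrivial (Fin n) := Fin.nontrivial_iff_two_le.2 hn
  rcases (by omega : f.range.index = 1 ∨ f.range.index = 2) with h5 | h5
  · exact Or.inr ⟨MulEquiv.ofBijective f ⟨hf, MonoidHom.range_eq_top.1 (index_eq_one.1 h5)⟩⟩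
  · exact Or.inl ⟨(MonoidHom.ofInjective hf).trans (MulEquiv.subgroupCongr
      (Equiv.Perm.eq_alternatingGroup_of_index_eq_two h5))⟩

theorem gl3_of_simple [IsSimpleGroup X] (h : Nat.card X = 168) :
    Nonempty (X ≃* GL (Fin 3) (ZMod 2)) := by
  have : Fact (Nat.Prime 7) := ⟨by norm_num⟩
  obtain ⟨e1⟩ := Cfsg.Agent.S0495.result h (F := ZMod 7) (ZMod.card 7)
  obtain ⟨e⟩ := Cfsg.Agent.S0255.result (F := ZMod 7) (K := ZMod 2) (ZMod.card 7) (ZMod.card 2)
  have h1 : center (Matrix.SpecialLinearGroup (Fin 3) (ZMod 2)) = ⊥ :=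
    Subgroup.card_eq_one.1 (by rw [H09.card_center_SL]; simp)
  have h2 : (Matrix.GeneralLinearGroup.det : GL (Fin 3) (ZMod 2) →* _).ker = ⊤ :=
    eq_top_iff.2 fun g _ => Subsingleton.elim _ _
  exact ⟨(e1.trans e).trans ((((topEquiv.symm.trans (MulEquiv.subgroupCongr h2.symm)).trans
    H09.slEquivKerDet.symm).trans
    ((QuotientGroup.quotientMulEquivOfEq h1).trans QuotientGroup.quotientBot).symm).symm)⟩

theorem six {N : Subgroup X} [N.Normal] [IsSimpleGroup N] (hφ : Function.Injective φ)
    (hN : Nat.card N = 360) (hC : centralizer (N : Set X) = ⊥) :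
    ∃ f : X →* Equiv.Perm (Fin 6), Function.Injective f := by
  classical
  let _ : MulAction X (Fin 8) := MulAction.compHom _ ((alternatingGroup (Fin 8)).subtype.comp φ)
  obtain ⟨eN⟩ := Cfsg.Agent.S0497.result hN
  -- a point moved by N has N-orbit of size 6
  have orb : ∀ x : Fin 8, MulAction.stabilizer N x ≠ ⊤ → (MulAction.orbit N x).ncard = 6 := by
    intro x hx
    have h1 := card_dvd_fact_simple _ hx
    have h2 := (MulAction.stabilizer N x).card_mul_index
    rw [MulAction.index_stabilizer] at h1 h2
    have h3 : (MulAction.orbit N x).ncard ≤ 8 := by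
      simpa using Set.ncard_le_card (MulAction.orbit N x)
    rw [hN] at h1 h2
    have h8 : (MulAction.orbit N x).ncard ≠ 8 := by
      intro h8
      rw [h8] at h2
      have h45 : Nat.card (MulAction.stabilizer N x) = 45 := by omega
      set S := MulAction.stabilizer N x
      have : Fact (Nat.Prime 5) := ⟨by norm_num⟩
      have : Fact (Nat.Prime 3) := ⟨by norm_num⟩
      obtain ⟨P⟩ : Nonempty (Sylow 5 S) := inferInstance
      have hP : Nat.card P = 5 := by
        rw [Sylow.card_eq_multiplicity, h45, show 45 = 5 * 9 from rfl,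
          Nat.factorization_mul (by norm_num) (by norm_num)]
        simp [Nat.Prime.factorization (show Nat.Prime 5 by norm_num),
          Nat.factorization_eq_zero_of_not_dvd (show ¬ 5 ∣ 9 by norm_num)]
      have n1 := card_sylow_modEq_one 5 S
      have n2 := P.card_dvd_index
      have n3 := (P : Subgroup S).card_mul_index
      rw [hP, h45] at n3
      rw [show (P : Subgroup S).index = 9 by omega] at n2
      have n4 : Nat.card (Sylow 5 S) = 1 := by
        have := Nat.le_of_dvd (by norm_num) n2
        unfold Nat.ModEq at n1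
        generalize Nat.card (Sylow 5 S) = d at *
        interval_cases d <;> omega
      have : Subsingleton (Sylow 5 S) := (Nat.card_eq_one_iff_unique.1 n4).1
      have hPn : (P : Subgroup S).Normal := Sylow.normal_of_subsingleton P
      have hcyc : IsCyclic P := isCyclic_of_prime_card hP
      obtain ⟨g, hg⟩ := exists_prime_orderOf_dvd_card' (G := P) 5 (by rw [hP])
      obtain ⟨c, hc⟩ := exists_prime_orderOf_dvd_card' (G := S) 3 (by rw [h45]; norm_num)
      have hk : MulAut.conjNormal (H := (P : Subgroup S)) c = 1 := by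
        have d1 := orderOf_map_dvd (MulAut.conjNormal (H := (P : Subgroup S))) c
        have d2 := orderOf_dvd_natCard (MulAut.conjNormal (H := (P : Subgroup S)) c)
        rw [hcyc.card_mulAut, hP, show Nat.totient 5 = 4 by decide] at d2
        rw [hc] at d1
        exact orderOf_eq_one_iff.1 (Nat.eq_one_of_dvd_coprimes (by norm_num) d1 d2)
      have hcm : Commute c (g : S) := by
        have := congrArg Subtype.val (DFunLike.congr_fun hk g)
        rw [MulAut.conjNormal_apply] at this
        exact mul_inv_eq_iff_eq_mul.1 this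
      have hg' : orderOf (g : S) = 5 := by simpa using hg
      have o15 := hcm.orderOf_mul_eq_mul_orderOf_of_coprime (by rw [hc, hg']; norm_num)
      rw [hc, hg', ← Subgroup.orderOf_coe, ← eN.orderOf_eq, ← Subgroup.orderOf_coe] at o15
      generalize ((eN ((c * g : S) : N) : alternatingGroup (Fin 6)) : Equiv.Perm (Fin 6)) = σ at o15
      rw [← Equiv.Perm.lcm_cycleType] at o15
      have hs := σ.sum_cycleType_le
      have prime_part : ∀ p : ℕ, p.Prime → p ∣ 15 → ∃ a ∈ σ.cycleType, p ∣ a := by
        intro p hp hd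
        by_contra hno
        push Not at hno
        have : (σ.cycleType.lcm).Coprime p := by
          refine Nat.Coprime.coprime_dvd_left (m := σ.cycleType.lcm) (k := σ.cycleType.prod)
            (Multiset.lcm_dvd.2 fun b hb => Multiset.dvd_prod hb) ?_
          exact Nat.coprime_multiset_prod_left_iff.2 fun b hb =>
            ((Nat.Prime.coprime_iff_not_dvd hp).2 (hno b hb)).symm
        rw [o15] at this
        exact hp.one_lt.ne' (Nat.Coprime.eq_one_of_dvd this.symm hd)
      obtain ⟨a, ha, ha'⟩ := prime_part 3 (by norm_num) (by norm_num)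
      obtain ⟨b, hb, hb'⟩ := prime_part 5 (by norm_num) (by norm_num)
      have a2 := Equiv.Perm.two_le_of_mem_cycleType ha
      have b2 := Equiv.Perm.two_le_of_mem_cycleType hb
      rw [Fintype.card_fin] at hs
      obtain ⟨s, hs'⟩ := Multiset.exists_cons_of_mem ha
      rw [hs'] at hb hs
      rw [Multiset.sum_cons] at hs
      rcases Multiset.mem_cons.1 hb with e | hb
      · omega
      · have := Multiset.single_le_sum (fun _ _ => Nat.zero_le _) b hb
        omega
    generalize (MulAction.orbit N x).ncard = d at *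
    interval_cases d <;> simp [Nat.factorial] at h1 h8 ⊢ <;> omega
  obtain ⟨x, hx⟩ : ∃ x : Fin 8, MulAction.stabilizer N x ≠ ⊤ := by
    by_contra hno
    push Not at hno
    obtain ⟨n, hn⟩ := exists_ne (1 : N)
    apply hn
    apply Subtype.ext
    apply hφ
    rw [OneMemClass.coe_one, map_one]
    ext y
    have : n ∈ MulAction.stabilizer N y := by rw [hno y]; trivial
    exact congrArg Fin.val this
  have hidx : (MulAction.stabilizer X x).index = 6 := by
    rw [MulAction.index_stabilizer, ← orb x hx]
    congr 1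
    apply Set.Subset.antisymm
    · rintro _ ⟨g, rfl⟩
      have hy : MulAction.stabilizer N (g • x) ≠ ⊤ := by
        intro e
        apply hx
        rw [eq_top_iff]
        intro n _
        have : (⟨g * n * g⁻¹, Subgroup.Normal.conj_mem inferInstance _ n.2 g⟩ : N) ∈
            MulAction.stabilizer N (g • x) := by rw [e]; trivial
        have h2 : (g * n * g⁻¹) • g • x = g • x := this
        rw [smul_smul, inv_mul_cancel_right, mul_smul, smul_left_cancel_iff] at h2
        exact h2
      by_contra hno
      have hd : Disjoint (MulAction.orbit N (g • x)) (MulAction.orbit N x) := by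
        rw [Set.disjoint_left]
        intro y h1 h2
        exact hno (MulAction.mem_orbit_symm.1 h1 |> fun h3 =>
          (MulAction.orbit_eq_iff.2 h2) ▸ h3)
      have h3 := Set.ncard_le_card (MulAction.orbit N (g • x) ∪ MulAction.orbit N x)
      rw [Set.ncard_union_eq hd, orb _ hy, orb _ hx] at h3
      simp at h3
    · rintro _ ⟨n, rfl⟩
      exact ⟨n, rfl⟩
  have hcore : (MulAction.stabilizer X x).normalCore = ⊥ := by
    set K := (MulAction.stabilizer X x).normalCore
    rcases (Subgroup.Normal.subgroupOf (inferInstance : K.Normal) N).eq_bot_or_eq_top with h | h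
    · rw [eq_bot_iff, ← hC, ← commutator_eq_bot_iff_le_centralizer, eq_bot_iff]
      refine (commutator_le_inf _ _).trans ?_
      rw [subgroupOf_eq_bot] at h
      exact h.le_bot
    · exfalso
      apply hx
      rw [eq_top_iff]
      intro n _
      have : n ∈ K.subgroupOf N := by rw [h]; trivial
      exact normalCore_le (MulAction.stabilizer X x) this
  rw [normalCore_eq_ker, MonoidHom.ker_eq_bot_iff] at hcore
  let e : X ⧸ MulAction.stabilizer X x ≃ Fin 6 := Finite.equivFinOfCardEq hidx
  exact ⟨e.permCongrHom.toMonoidHom.comp _, e.permCongrHom.injective.comp hcore⟩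

theorem main (hφ : Function.Injective φ) [Nontrivial X] (hO : pPrimeCore 2 X = ⊥)
    (hO2 : pCore 2 X = ⊥) :
    (∃ n : ℕ, 5 ≤ n ∧ n ≤ 8 ∧ Nonempty (X ≃* alternatingGroup (Fin n))) ∨
    Nonempty (X ≃* Equiv.Perm (Fin 5)) ∨ Nonempty (X ≃* Equiv.Perm (Fin 6)) ∨
      Nonempty (X ≃* GL (Fin 3) (ZMod 2)) := by
  have hF : fittingSubgroup X = ⊥ := by
    rw [H02.fitting_eq_pCore Nat.prime_two hO, hO2]
  have hfs : generalizedFittingSubgroup X = layer X := by rw [H22.fstar_def, hF, sup_bot_eq]
  have hZ : ∀ L : Subgroup X, IsComponent L → L ⊓ centralizer (L : Set X) = ⊥ := fun L hL => by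
    rw [eq_bot_iff, ← hF]
    exact le_trans (le_inf (inf_le_left.trans (H22.le_layer hL))
      (H22.center_comp_le_centralizer_layer hL)) H22.layer_inf_centralizer_le_fitting
  have hS : ∀ L : Subgroup X, IsComponent L → IsSimpleGroup L := fun L hL => by
    have h1 : center L = ⊥ := by
      rw [← Subgroup.map_eq_bot_iff_of_injective _ L.subtype_injective, H22.map_center_subtype, hZ L hL]
    have := hL.2.2
    exact ((QuotientGroup.quotientMulEquivOfEq h1).trans QuotientGroup.quotientBot).symm.isSimpleGroup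
  have hc : ∀ L : Subgroup X, IsComponent L → Nat.card L = 60 ∨ Nat.card L = 168 ∨
      Nat.card L = 360 ∨ Nat.card L = 2520 ∨ Nat.card L = 20160 := fun L hL => by
    have := hS L hL
    exact simple_card (H22.qs_not_comm hL.2) (φ := φ.comp L.subtype) (hφ.comp L.subtype_injective)
  obtain ⟨L, hL⟩ : ∃ L : Subgroup X, IsComponent L := by
    by_contra hno
    push Not at hno
    have := H22.fstar_eq_bot_iff.1 (hfs.trans (H22.layer_eq_bot_iff.2 hno))
    exact not_subsingleton X this
  have huniq : ∀ M : Subgroup X, IsComponent M → M = L := fun M hM => by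
    by_contra hne
    have h1 := commutator_eq_bot_iff_le_centralizer.1 (H22.comp_comm_of_ne hM hL hne)
    have h2 := BG.card_sup_of_disj (K := L) (H := M) (H22.comp_le_normalizer_comp hM hL)
      (eq_bot_iff.2 ((inf_le_inf_left _ h1).trans (hZ L hL).le))
    have h3 := top_or (φ := φ.comp (L ⊔ M).subtype) (hφ.comp (L ⊔ M).subtype_injective)
    have h4 : Nat.card ↥(L ⊔ M) = 20160 ∨ Nat.card ↥(L ⊔ M) ≤ 2520 :=
      h3.imp_left fun ⟨e⟩ => by rw [Nat.card_congr e.toEquiv, cardA]
    rw [h2] at h4
    rcases hc L hL with a | a | a | a | a <;> rcases hc M hM with b | b | b | b | b <;>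
      rw [a, b] at h4 <;> omega
  have hLE : layer X = L := le_antisymm (H22.layer_le_iff.2 fun M hM => (huniq M hM).le) (H22.le_layer hL)
  have : L.Normal := hLE ▸ H22.layer_normal
  have hC : centralizer (L : Set X) = ⊥ := by
    rw [eq_bot_iff, ← hF, ← hLE, ← hfs]; exact H22.centralizer_fstar_le_fitting
  have := hS L hL
  rcases top_or hφ with h | hle
  · exact Or.inl ⟨8, by norm_num, le_rfl, h⟩
  have hLX : Nat.card L ∣ Nat.card X := card_subgroup_dvd_card L
  have hLX' : Nat.card L ≤ Nat.card X := Nat.le_of_dvd Nat.card_pos hLX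
  have htop : Nat.card X ≤ Nat.card L → Nonempty (X ≃* L) := fun h =>
    ⟨topEquiv.symm.trans (MulEquiv.subgroupCongr (eq_top_of_le_card L h).symm)⟩
  rcases hc L hL with a | a | a | a | a
  · obtain ⟨e⟩ := Cfsg.Agent.S0494.result a
    let e2 := MulEquiv.ofBijective _ (Cfsg.Agent.S2119.result 5 (by norm_num) (by norm_num))
    have hinj : Function.Injective (MulAut.conjNormal (H := L)) := by
      rw [injective_iff_map_eq_one]
      intro g hg
      rw [← mem_bot, ← hC]
      intro x hx
      have := congrArg Subtype.val (DFunLike.congr_fun hg ⟨x, hx⟩)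
      rw [MulAut.conjNormal_apply] at this
      exact (mul_inv_eq_iff_eq_mul.1 this).symm
    rcases sym_of_inj (n := 5) (by norm_num)
      (e2.symm.toMonoidHom.comp ((MulAut.congr e).toMonoidHom.comp MulAut.conjNormal))
      (e2.symm.injective.comp ((MulAut.congr e).injective.comp hinj))
      (by simp only [Nat.factorial]; omega) with h | h
    · exact Or.inl ⟨5, le_rfl, by norm_num, h⟩
    · exact Or.inr (Or.inl h)
  · have : Fact (Nat.Prime 7) := ⟨by norm_num⟩
    obtain ⟨k, k1, k2, k3⟩ := norm7 hφ ((show 7 ∣ Nat.card L by rw [a]; norm_num).trans hLX)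
    obtain ⟨j, j1, j2, j3⟩ := norm7 (φ := φ.comp L.subtype) (hφ.comp L.subtype_injective)
      (by rw [a]; norm_num)
    have hle : ∀ P : Sylow 7 X, (P : Subgroup X) ≤ L := fun P => by
      have h1 := L.card_mul_index
      have h2 := dvd hφ
      rw [← h1, a] at h2
      have h3 : (7 : ℕ).Coprime L.index :=
        (Nat.Prime.coprime_iff_not_dvd (by norm_num)).2 fun h7 => by
          have := (Nat.mul_dvd_mul_left 168 h7).trans h2
          omega
      intro g hg
      obtain ⟨r, hr⟩ := P.isPGroup' ⟨g, hg⟩
      rw [← QuotientGroup.eq_one_iff, ← orderOf_eq_one_iff]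
      refine Nat.eq_one_of_dvd_coprimes (h3.pow_left r) (orderOf_dvd_of_pow_eq_one ?_)
        (orderOf_dvd_natCard _)
      rw [← QuotientGroup.mk_pow, show g ^ 7 ^ r = 1 from congrArg Subtype.val hr]; rfl
    have hkj : k ≤ j := by
      rw [k3, j3]
      refine Nat.card_le_card_of_injective (fun P => P.subtype (hle P)) fun P Q hPQ => ?_
      have := congrArg (fun R : Sylow 7 L => (R : Subgroup L).map L.subtype) hPQ
      simp only [Sylow.coe_subtype, subgroupOf_map_subtype, inf_eq_left.2 (hle _)] at this
      exact Sylow.ext this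
    obtain ⟨e⟩ := htop (by omega)
    obtain ⟨e2⟩ := gl3_of_simple a
    exact Or.inr (Or.inr (Or.inr ⟨e.trans e2⟩))
  · obtain ⟨f, hf⟩ := six hφ a hC
    rcases sym_of_inj (n := 6) (by norm_num) f hf (by simp only [Nat.factorial]; omega) with h | h
    · exact Or.inl ⟨6, by norm_num, by norm_num, h⟩
    · exact Or.inr (Or.inr (Or.inl h))
  · obtain ⟨e⟩ := htop (by omega)
    obtain ⟨e2⟩ := Cfsg.Agent.S0984.result a
    exact Or.inl ⟨7, by norm_num, by norm_num, ⟨e.trans e2⟩⟩
  · omega

end A8
end H03
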