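import Mathlib
import Cfsg.Agent.BG.Quo3
import Cfsg.Agent.H09.SL2Syl

/-! Groups between `PSL_n(q)` and `PGL_n(q)` have no nilpotent minimal cover. -/

namespace H03
open Cfsg BG Subgroup Matrix H09
open scoped MatrixGroups commutatorElement LinearAlgebra.Projectivization

/-- `G` has a nilpotent minimal cover. -/
def NilCover (G : Type*) [Group G] : Prop :=
  ∃ 𝓐 : Finset (Subgroup G), ((∀ A ∈ 𝓐, A ≠ ⊤) ∧ (∀ g : G, ∃ A ∈ 𝓐, g ∈ A)) ∧
    (∀ 𝓑 : Finset (Subgroup G), (∀ A ∈ 𝓑, A ≠ ⊤) ∧ (∀ g : G, ∃ A ∈ 𝓑, g ∈ A) → 𝓐.card ≤ 𝓑.card) ∧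
    (∀ A ∈ 𝓐, Group.IsNilpotent ↥A)

theorem no_cover {G ι : Type*} [Group G] [Finite ι] (B : ι → Subgroup G) (hB : ∀ i, B i ≠ ⊤) (x : Option ι → G)
    (h1 : ∀ j (A : Subgroup G), Group.IsNilpotent A → x j ∈ A → ∀ g ∈ A, ∃ i, g ∈ B i)
    (h2 : ∀ j k (A : Subgroup G), Group.IsNilpotent A → x j ∈ A → x k ∈ A → j = k) : ¬ NilCover G := by
  classical
  have : Fintype ι := Fintype.ofFinite ι
  rintro ⟨𝓐, ⟨a1, a2⟩, a3, a4⟩
  choose f hf hf' using fun j => a2 (x j)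
  have inj : Function.Injective f := fun j k e => h2 j k _ (a4 _ (hf j)) (hf' j) (e ▸ hf' k)
  have hs : Finset.univ.image f ⊆ 𝓐 := Finset.image_subset_iff.2 fun j _ => hf j
  have := a3 ((𝓐 \ Finset.univ.image f) ∪ Finset.univ.image B) ⟨fun A hA => ?_, fun g => ?_⟩
  · have e1 := Finset.card_union_le (𝓐 \ Finset.univ.image f) (Finset.univ.image B)
    have e2 := Finset.card_sdiff_add_card_eq_card hs
    have e3 : (Finset.univ.image B).card ≤ Fintype.card ι := Finset.card_image_le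
    rw [Finset.card_image_of_injective _ inj, Finset.card_univ, Fintype.card_option] at e2
    omega
  · rcases Finset.mem_union.1 hA with e | e
    · exact a1 A (Finset.mem_sdiff.1 e).1
    · obtain ⟨i, -, rfl⟩ := Finset.mem_image.1 e; exact hB i
  · obtain ⟨A, hA, hg⟩ := a2 g
    by_cases e : A ∈ Finset.univ.image f
    · obtain ⟨j, -, rfl⟩ := Finset.mem_image.1 e
      obtain ⟨i, hi⟩ := h1 j _ (a4 _ hA) (hf' j) g hg
      exact ⟨B i, Finset.mem_union_right _ (Finset.mem_image_of_mem _ (Finset.mem_univ i)), hi⟩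
    · exact ⟨A, Finset.mem_union_left _ (Finset.mem_sdiff.2 ⟨hA, e⟩), hg⟩

theorem no_cover_quot {E ι : Type*} [Group E] [Finite ι] (G : Subgroup (E ⧸ center E)) {K : Subgroup E}
    (hK : K = G.comap (QuotientGroup.mk' _)) (B : ι → Subgroup E)
    (hZ : ∀ i, center E ≤ B i) (hB : ∀ i, ¬ K ≤ B i) (x : Option ι → E) (hx : ∀ j, x j ∈ K)
    (h1 : ∀ j (A : Subgroup E), Group.IsNilpotent A → A ≤ K → x j ∈ A → ∀ g ∈ A, ∃ i, g ∈ B i)
    (h2 : ∀ j k (A : Subgroup E), Group.IsNilpotent A → A ≤ K → x j ∈ A → x k ∈ A → j = k) : ¬ NilCover G := by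
  subst hK
  have nil : ∀ A : Subgroup G, Group.IsNilpotent A →
      Group.IsNilpotent ((A.map G.subtype).comap (QuotientGroup.mk' _)) := fun A hA => by
    have : Group.IsNilpotent (A.map G.subtype) :=
      Group.nilpotent_of_mulEquiv (A.equivMapOfInjective _ G.subtype_injective)
    refine Subgroup.isNilpotent_of_ker_le_center ((QuotientGroup.mk' _).subgroupComap (A.map G.subtype)) fun a ha => ?_
    have : (a : E) ∈ center E := (QuotientGroup.eq_one_iff _).1 (congrArg Subtype.val ha)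
    exact mem_center_iff.2 fun b => Subtype.ext (mem_center_iff.1 this b)
  refine no_cover (fun i => ((B i).map (QuotientGroup.mk' _)).subgroupOf G) (fun i e => hB i fun g hg => ?_)
    (fun j => ⟨_, hx j⟩) (fun j A hA hj g hg => ?_) fun j k A hA hj hk =>
      h2 j k _ (nil A hA) (comap_mono (map_subtype_le A)) ⟨_, hj, rfl⟩ ⟨_, hk, rfl⟩
  · have : g ∈ ((B i).map (QuotientGroup.mk' _)).comap (QuotientGroup.mk' _) := subgroupOf_eq_top.1 e hg
    rwa [comap_map_eq_self (by rw [QuotientGroup.ker_mk']; exact hZ i)] at this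
  · obtain ⟨y, hy⟩ := QuotientGroup.mk'_surjective _ (g : E ⧸ center E)
    obtain ⟨i, hi⟩ := h1 j _ (nil A hA) (comap_mono (map_subtype_le A)) ⟨_, hj, rfl⟩ y ⟨g, hg, hy.symm⟩
    exact ⟨i, y, hi, hy⟩

theorem exists_center_mod {E : Type*} [Group E] {A : Subgroup E} (hA : Group.IsNilpotent A) (h : ¬ A ≤ center E) :
    ∃ z ∈ A, z ∉ center E ∧ ∀ a ∈ A, z * a * z⁻¹ * a⁻¹ ∈ center E := by
  have : Group.IsNilpotent (A.map (QuotientGroup.mk' (center E))) :=
    Group.nilpotent_of_surjective ((QuotientGroup.mk' _).subgroupMap A) (MonoidHom.subgroupMap_surjective _ _)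
  obtain ⟨_, ⟨⟨z, hz, rfl⟩, h2⟩, h3⟩ := exists_mem_ne_one (nil_center_ne_bot this
    (by rwa [Ne, Subgroup.map_eq_bot_iff, QuotientGroup.ker_mk']))
  refine ⟨z, hz, fun e => h3 ((QuotientGroup.eq_one_iff z).2 e), fun a ha => (QuotientGroup.eq_one_iff _).1 ?_⟩
  have := mem_cent.1 h2 _ ⟨a, ha, rfl⟩
  change QuotientGroup.mk' _ _ = 1
  simp only [map_mul, map_inv, ← this]; group

variable {F : Type*} [Field F] [Fintype F] {p : ℕ} [hp : Fact p.Prime] [CharP F p] {n : ℕ}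

theorem pg_fix {X E : Type*} [Group E] [MulAction E X] [Zero X] (h0 : ∀ g : E, g • (0 : X) = 0) [Finite X]
    (hX : p ∣ Nat.card X) {P : Subgroup E} (hP : IsPGroup p P) : ∃ v : X, v ≠ 0 ∧ ∀ g ∈ P, g • v = v := by
  obtain ⟨b, hb, hne⟩ := hP.exists_fixed_point_of_prime_dvd_card_of_fixed_point X hX (a := 0) fun x => h0 x
  exact ⟨b, hne.symm, fun g hg => hb ⟨g, hg⟩⟩

omit hp in
theorem dvd_card_vec : p ∣ Nat.card (Fin (n + 1) → F) := by
  obtain ⟨k, -, hk⟩ := FiniteField.card F p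
  rw [Nat.card_fun, Nat.card_fin, Nat.card_eq_fintype_card, hk, ← pow_mul]
  exact dvd_pow_self p (mul_ne_zero k.ne_zero n.succ_ne_zero)

/-- `u` is a `p`-element whose fixed vectors are the multiples of `v`. -/
structure Uni (p : ℕ) (u : GL (Fin n) F) (v : Fin n → F) : Prop where
  pow : ∃ k, u ^ p ^ k = 1
  ne : v ≠ 0
  fix : ∀ w : Fin n → F, u • w = w → ∃ c : F, w = c • v

omit [CharP F p] in
theorem mem_pcore {A : Subgroup (GL (Fin n) F)} (hA : Group.IsNilpotent A) {u : GL (Fin n) F} (hu : u ∈ A)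
    (h : ∃ k, u ^ p ^ k = 1) : u ∈ piCoreOf {p} A := by
  obtain ⟨k, hk⟩ := h
  obtain ⟨j, -, hj⟩ := (Nat.dvd_prime_pow hp.out).1 (orderOf_dvd_of_pow_eq_one hk)
  exact nil_le_pcore hA (isPi_of_card hp.out ((card_zpowers u).trans hj) (Set.mem_singleton p)) (zpowers_le.2 hu) (mem_zpowers u)

omit [Fintype F] hp [CharP F p] in
theorem Uni.conj {u : GL (Fin n) F} {v : Fin n → F} (h : Uni p u v) (s : GL (Fin n) F) :
    Uni p (s * u * s⁻¹) (s • v) where
  pow := h.pow.imp fun k hk => by rw [conj_pow, hk]; simp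
  ne := fun e => h.ne ((smul_eq_zero_iff_eq s).1 e)
  fix w hw := by
    rw [mul_smul, mul_smul, ← eq_inv_smul_iff] at hw
    obtain ⟨c, hc⟩ := h.fix _ hw
    exact ⟨c, by rw [← smul_comm, ← hc, smul_inv_smul]⟩

theorem Uni.stab {u : GL (Fin (n + 1)) F} {v : Fin (n + 1) → F} (h : Uni p u v) {A : Subgroup (GL (Fin (n + 1)) F)}
    (hA : Group.IsNilpotent A) (hu : u ∈ A) {g : GL (Fin (n + 1)) F} (hg : g ∈ A) :
    g • Projectivization.mk F v h.ne = Projectivization.mk F v h.ne := by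
  obtain ⟨w, w0, hw⟩ := pg_fix (X := Fin (n + 1) → F) (fun g : GL (Fin (n + 1)) F => smul_zero g) dvd_card_vec
    (pcore_pg hp.out A)
  have h1 := mem_pcore hA hu h.pow
  obtain ⟨c, rfl⟩ := h.fix w (hw u h1)
  have h2 := hw _ (conj_mem_of_norm' (le_norm_pcore _ A hg) h1)
  rw [smul_comm] at h2
  replace h2 := smul_right_injective _ (left_ne_zero_of_smul w0) h2
  rw [mul_smul, mul_smul, inv_smul_eq_iff] at h2
  obtain ⟨d, hd⟩ := h.fix _ h2
  rw [Projectivization.smul_mk, Projectivization.mk_eq_mk_iff']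
  exact ⟨d, hd.symm⟩

omit [Fintype F] in
theorem Uni.eq {u : GL (Fin n) F} {v : Fin n → F} (h : Uni p u v) {P : ℙ F (Fin n → F)} (hP : u • P = P) :
    P = Projectivization.mk F v h.ne := by
  induction P using Projectivization.ind with | h w hw => ?_
  rw [Projectivization.smul_mk, Projectivization.mk_eq_mk_iff'] at hP
  obtain ⟨c, hc⟩ := hP
  obtain ⟨k, hk⟩ := h.pow
  have h1 : ∀ j : ℕ, u ^ j • w = c ^ j • w := fun j => by
    induction j with
    | zero => simp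
    | succ j ih => rw [pow_succ', mul_smul, ih, smul_comm, ← hc, ← mul_smul, pow_succ]
  have h2 := h1 (p ^ k)
  rw [hk, one_smul] at h2
  have h3 : (c - 1) ^ p ^ k = 0 := by
    rw [sub_pow_char_pow, one_pow, sub_eq_zero]
    exact (smul_left_injective F hw (h2.symm.trans (one_smul F w).symm))
  rw [sub_eq_zero.1 (pow_eq_zero_iff (pow_ne_zero _ hp.out.ne_zero) |>.1 h3), one_smul] at hc
  obtain ⟨d, hd⟩ := h.fix w hc.symm
  rw [Projectivization.mk_eq_mk_iff']
  exact ⟨d, hd.symm⟩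

/-- the nilpotent Jordan block -/
def jN (F : Type*) [Field F] (n : ℕ) : Matrix (Fin n) (Fin n) F := Matrix.of fun i j => if (j : ℕ) = i + 1 then 1 else 0

omit [Fintype F] in
theorem jN_tri : (jN F n).IsUpperTriangular := fun i j h => if_neg (by have : (j : ℕ) < i := h; omega)

/-- the unipotent Jordan block -/
def jU (F : Type*) [Field F] (n : ℕ) : SL(n, F) := ⟨1 + jN F n, by
  rw [det_of_isUpperTriangular (blockTriangular_one.add jN_tri)]
  simp [jN]⟩

omit [Fintype F] in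
theorem uni_jU : Uni p (SpecialLinearGroup.toGL (jU F (n + 1))) (Pi.single 0 1) where
  pow := by
    have h1 : jN F (n + 1) ^ (n + 1) = 0 := by
      have := (jN F (n + 1)).aeval_self_charpoly
      rw [charpoly_of_isUpperTriangular _ jN_tri] at this
      simpa [jN] using this
    refine ⟨n + 1, Units.ext ?_⟩
    rw [Units.val_pow_eq_pow_val]
    change (1 + jN F (n + 1)) ^ _ = 1
    rw [add_pow_char_pow_of_commute _ _ (Commute.one_left _), one_pow,
      pow_eq_zero_of_le (Nat.lt_pow_self hp.out.one_lt).le h1, add_zero]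
  ne := by simp
  fix w hw := by
    refine ⟨w 0, funext fun i => ?_⟩
    refine Fin.cases (by simp) (fun i => ?_) i
    have h1 : (1 + jN F (n + 1)) *ᵥ w = w := hw
    rw [add_mulVec, one_mulVec, add_eq_left] at h1
    have h2 := congrFun h1 i.castSucc
    simp only [mulVec, dotProduct, jN, of_apply, ite_mul, one_mul, zero_mul, Fin.val_castSucc] at h2
    rw [Finset.sum_eq_single i.succ] at h2
    · simpa using h2
    · exact fun b _ hb => if_neg fun e => hb (Fin.ext e)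
    · simp

omit [Fintype F] in
theorem row_jU {w : Fin (n + 1) → F} (hw : w ᵥ* (jU F (n + 1)).1 = w) (i : Fin n) : w i.castSucc = 0 := by
  have h1 : w ᵥ* (1 + jN F (n + 1)) = w := hw
  rw [vecMul_add, vecMul_one, add_eq_left] at h1
  have h2 := congrFun h1 i.succ
  simp only [vecMul, dotProduct, jN, of_apply, mul_ite, mul_one, mul_zero, Fin.val_succ] at h2
  rw [Finset.sum_eq_single i.castSucc] at h2
  · simpa using h2
  · exact fun b _ hb => if_neg fun e => hb (Fin.ext (by simpa using e.symm))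
  · simp

/-- inverse transpose -/
def invT : GL (Fin n) F →* GL (Fin n) F where
  toFun g := ⟨(g⁻¹).1ᵀ, g.1ᵀ, by rw [← transpose_mul]; simp, by rw [← transpose_mul]; simp⟩
  map_one' := Units.ext (by simp)
  map_mul' a b := Units.ext (by simp)

theorem exists_row {P : Subgroup (GL (Fin (n + 1)) F)} (hP : IsPGroup p P) :
    ∃ w : Fin (n + 1) → F, w ≠ 0 ∧ ∀ g ∈ P, w ᵥ* g.1 = w := by
  obtain ⟨w, w0, hw⟩ := pg_fix (X := Fin (n + 1) → F) (fun g : GL (Fin (n + 1)) F => smul_zero g) dvd_card_vec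
    (hP.map invT)
  exact ⟨w, w0, fun g hg => (mulVec_transpose _ _).symm.trans (hw _ ⟨g⁻¹, inv_mem hg, rfl⟩)⟩

omit [Fintype F] in
theorem center_smul {g : GL (Fin n) F} (hg : g ∈ center (GL (Fin n) F)) (P : ℙ F (Fin n → F)) : g • P = P := by
  rw [← pgl_mk_smul, show ProjGenLinGroup.mk g = 1 from (QuotientGroup.eq_one_iff g).2 hg, one_smul]

omit [Fintype F] in
theorem exists_sl (P Q : ℙ F (Fin n → F)) : ∃ s : SL(n, F), SpecialLinearGroup.toGL s • P = Q := by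
  simpa only [toGL_smul] using MulAction.exists_smul_eq SL(n, F) P Q

omit [Fintype F] in
theorem exists_uni (P : ℙ F (Fin (n + 1) → F)) : ∃ s : SL(n + 1, F), ∃ v, ∃ h : Uni p (SpecialLinearGroup.toGL
    (s * jU F (n + 1) * s⁻¹)) v, P = Projectivization.mk F v h.ne := by
  obtain ⟨s, hs⟩ := exists_sl (Projectivization.mk F _ (uni_jU (p := p)).ne) P
  refine ⟨s, _, by rw [map_mul, map_mul, map_inv]; exact uni_jU.conj _, ?_⟩
  rw [← hs, Projectivization.smul_mk]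

omit [Fintype F] in
theorem not_le_stab {K : Subgroup (GL (Fin (n + 2)) F)} (hK : ∀ s : SL(n + 2, F), SpecialLinearGroup.toGL s ∈ K)
    (P : ℙ F (Fin (n + 2) → F)) : ¬ K ≤ MulAction.stabilizer _ P := fun e => by
  have : Nontrivial (ℙ F (Fin (n + 2) → F)) := ⟨Projectivization.mk F (Pi.single 0 1) (by simp),
    Projectivization.mk F (Pi.single 1 1) (by simp), fun e => by
      obtain ⟨c, hc⟩ := (Projectivization.mk_eq_mk_iff' _ _ _ _ _).1 e
      simpa using congrFun hc 0⟩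
  obtain ⟨Q, hQ⟩ := exists_ne P
  obtain ⟨s, hs⟩ := exists_sl P Q
  exact hQ (hs.symm.trans (e (hK s)))

theorem no_cover_three (G : Subgroup (GL (Fin (n + 3)) F ⧸ center (GL (Fin (n + 3)) F)))
    (hK : ∀ s : SL(n + 3, F), SpecialLinearGroup.toGL s ∈ G.comap (QuotientGroup.mk' _)) : ¬ NilCover G := by
  obtain ⟨p, hc⟩ := CharP.exists F
  have hp : Fact p.Prime := ⟨CharP.char_is_prime F p⟩
  choose s v h hP using exists_uni (F := F) (p := p) (n := n + 2)
  have hne : Fin.last (n + 2) ≠ (Fin.last (n + 1)).castSucc := (Fin.castSucc_lt_last _).ne'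
  let σ := SpecialLinearGroup.transvection hne (1 : F)
  let P₀ := Projectivization.mk F _ (uni_jU (F := F) (p := p) (n := n + 2)).ne
  let x : Option (ℙ F (Fin (n + 3) → F)) → SL(n + 3, F) := fun j =>
    j.elim (s P₀ * σ * jU F (n + 3) * (s P₀ * σ)⁻¹) fun P => s P * jU F (n + 3) * (s P)⁻¹
  have h0 : Uni p (SpecialLinearGroup.toGL (x none)) (v P₀) := by
    have e1 := (uni_jU (F := F) (p := p) (n := n + 2)).conj (SpecialLinearGroup.toGL (s P₀ * σ))
    have e2 := (uni_jU (F := F) (p := p) (n := n + 2)).conj (SpecialLinearGroup.toGL (s P₀))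
    have e3 : SpecialLinearGroup.toGL σ • (Pi.single 0 1 : Fin (n + 3) → F) = Pi.single 0 1 := by
      change (1 + single _ _ 1) *ᵥ _ = _
      rw [add_mulVec, one_mulVec, single_mulVec, Pi.single_eq_of_ne (by simp [Fin.ext_iff])]; simp
    rw [map_mul _ (s P₀) σ, mul_smul, e3, ← map_mul, ← map_inv, ← map_mul, ← map_mul] at e1
    rw [← map_inv, ← map_mul, ← map_mul] at e2
    obtain ⟨c, hc⟩ := (Projectivization.mk_eq_mk_iff' _ _ _ _ _).1 ((h P₀).eq (P := Projectivization.mk F _ e2.ne)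
      (e2.stab (nil_of_abelian (abelian_of_cyclic (cyclic_zpowers _))) (mem_zpowers _) (mem_zpowers _)))
    exact ⟨e1.pow, (h P₀).ne, fun w hw => (e1.fix w hw).elim fun d hd => ⟨d * c, by rw [hd, ← hc, mul_smul]⟩⟩
  have key : ∀ P (A : Subgroup (GL (Fin (n + 3)) F)), Group.IsNilpotent A → SpecialLinearGroup.toGL (x none) ∈ A →
      SpecialLinearGroup.toGL (x (some P)) ∈ A → False := by
    intro P A hA h1 h2
    obtain rfl : P₀ = P := by
      rw [hP P₀, hP P]; exact (h P).eq (h0.stab hA h1 h2)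
    obtain ⟨w, w0, hw⟩ := exists_row (pcore_pg hp.out A)
    have e1 := hw _ (mem_pcore hA h1 h0.pow)
    have e2 := hw _ (mem_pcore hA h2 (h P₀).pow)
    have cj : ∀ t : SL(n + 3, F), w ᵥ* (t * jU F (n + 3) * t⁻¹).1 = w → (w ᵥ* t.1) ᵥ* (jU F (n + 3)).1 = w ᵥ* t.1 :=
      fun t e => by
        nth_rewrite 2 [← e]
        rw [vecMul_vecMul, vecMul_vecMul]
        exact congrArg (fun x : SL(n + 3, F) => w ᵥ* x.1) (inv_mul_cancel_right (t * jU F (n + 3)) t).symm
    have e3 := row_jU (cj _ e1) (Fin.last (n + 1))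
    have e4 := row_jU (cj _ e2)
    change (w ᵥ* ((s P₀).1 * (1 + single _ _ 1))) _ = 0 at e3
    rw [← vecMul_vecMul, vecMul_add, vecMul_one, Pi.add_apply, e4, ← mulVec_transpose, transpose_single, single_mulVec] at e3
    refine w0 ?_
    have e5 : w ᵥ* (s P₀).1 = 0 := funext fun i => Fin.lastCases (by simpa using e3) e4 i
    have := congrArg (· ᵥ* (s P₀)⁻¹.1) e5
    simpa [mul_adjugate] using this
  refine no_cover_quot G rfl (fun P : ℙ F (Fin (n + 3) → F) => MulAction.stabilizer _ P)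
    (fun P g hg => center_smul hg P) (not_le_stab hK) (fun j => SpecialLinearGroup.toGL (x j)) (fun j => hK _)
    (fun j A hA _ hj g hg => ?_) fun j k A hA _ hj hk => ?_
  · rcases j with _ | P
    · exact ⟨_, h0.stab hA hj hg⟩
    · exact ⟨_, (h P).stab hA hj hg⟩
  · rcases j with _ | P <;> rcases k with _ | Q
    · rfl
    · exact (key Q A hA hj hk).elim
    · exact (key P A hA hk hj).elim
    · rw [hP P, hP Q]; exact congrArg some ((h Q).eq ((h P).stab hA hj hk))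

/-- no fixed point on the projective line -/
def Fpf (x : GL (Fin 2) F) : Prop := x 1 0 ≠ 0 ∧ ∀ t, x 0 0 * t + x 0 1 ≠ t * (x 1 0 * t + x 1 1)

/-- `g` is a polynomial in `x` -/
def Aff (x g : GL (Fin 2) F) (β : F) : Prop :=
  g 0 1 = β * x 0 1 ∧ g 1 0 = β * x 1 0 ∧ g 0 0 - g 1 1 = β * (x 0 0 - x 1 1)

omit [Fintype F]

theorem fpf_iff {x : GL (Fin 2) F} : Fpf x ↔ ∀ P : P1 F, x • P ≠ P :=
  ⟨fun h P => (P1.cases P).elim (fun e => e ▸ fun e => h.1 (gl_smul_pInf_eq_pInf.1 e))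
    fun ⟨_, e⟩ => e ▸ fun e => h.2 _ (gl_smul_pt_eq_pt.1 e),
    fun h => ⟨fun e => h _ (gl_smul_pInf_eq_pInf.2 e), fun _ e => h _ (gl_smul_pt_eq_pt.2 e)⟩⟩

theorem Aff.comm {x g : GL (Fin 2) F} {β : F} (h : Aff x g β) : g * x = x * g := by
  obtain ⟨h1, h2, h3⟩ := h
  refine GL2.ext' ?_ ?_ ?_ ?_ <;> simp only [GL2.mul_apply, h1, h2]
  · ring
  · linear_combination x 0 1 * h3
  · linear_combination -x 1 0 * h3
  · ring

theorem aff_of_comm {x g : GL (Fin 2) F} (hx : x 1 0 ≠ 0) (h : g * x = x * g) : Aff x g (g 1 0 / x 1 0) := by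
  obtain ⟨h1, -, h3, -⟩ := GL2.ext_iff'.1 h
  simp only [GL2.mul_apply] at h1 h3
  refine ⟨?_, ?_, ?_⟩ <;> field_simp
  · linear_combination h1
  · linear_combination -h3

theorem Aff.ne {x g : GL (Fin 2) F} {β : F} (h : Aff x g β) (hg : g ∉ center _) : β ≠ 0 := by
  rintro rfl
  obtain ⟨h1, h2, h3⟩ := h
  exact hg (GL2.mem_center_iff_entries.2 ⟨by simpa using h1, by simpa using h2, by simpa [sub_eq_zero] using h3⟩)

theorem Aff.fpf {x g : GL (Fin 2) F} {β : F} (h : Aff x g β) (h0 : β ≠ 0) (hx : Fpf x) : Fpf g :=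
  ⟨h.2.1 ▸ mul_ne_zero h0 hx.1, fun t e => hx.2 t (mul_left_cancel₀ h0 (by
    rw [h.1, h.2.1] at e; linear_combination e - t * h.2.2))⟩

theorem Aff.symm {x g : GL (Fin 2) F} {β : F} (h : Aff x g β) (h0 : β ≠ 0) : Aff g x β⁻¹ :=
  ⟨by rw [h.1]; field_simp, by rw [h.2.1]; field_simp, by rw [h.2.2]; field_simp⟩

theorem Aff.trans {x g k : GL (Fin 2) F} {β γ : F} (h : Aff x g β) (h' : Aff g k γ) : Aff x k (γ * β) :=
  ⟨by rw [h'.1, h.1, mul_assoc], by rw [h'.2.1, h.2.1, mul_assoc], by rw [h'.2.2, h.2.2, mul_assoc]⟩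

theorem comm_mod {z a : GL (Fin 2) F} (h : z * a * z⁻¹ * a⁻¹ ∈ center _) :
    ∃ c : F, ∀ i j, (z * a) i j = c * (a * z) i j := by
  obtain ⟨h1, h2, h3⟩ := GL2.mem_center_iff_entries.1 h
  refine ⟨(z * a * z⁻¹ * a⁻¹) 0 0, fun i j => ?_⟩
  rw [show z * a = z * a * z⁻¹ * a⁻¹ * (a * z) by group]
  generalize z * a * z⁻¹ * a⁻¹ = c at *
  rw [show c * (a * z) * z⁻¹ * a⁻¹ = c by group, GL2.mul_apply]
  fin_cases i <;> simp [h1, h2, h3]

theorem comm_of_tr {z a : GL (Fin 2) F} (ha : a 0 0 + a 1 1 ≠ 0) (h : z * a * z⁻¹ * a⁻¹ ∈ center _) : z * a = a * z := by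
  obtain ⟨c, hc⟩ := comm_mod h
  have e := hc
  simp only [GL2.mul_apply] at e
  have : c = 1 := mul_right_cancel₀ (mul_ne_zero ha (GL2.det_ne z)) (by
    linear_combination -z 1 1 * e 0 0 + z 1 0 * e 0 1 + z 0 1 * e 1 0 - z 0 0 * e 1 1)
  simp only [this, one_mul] at hc
  exact GL2.ext' (hc _ _) (hc _ _) (hc _ _) (hc _ _)

theorem no_cover_two [Fintype F] (hF : 4 ≤ Fintype.card F) (G : Subgroup (GL (Fin 2) F ⧸ center (GL (Fin 2) F)))
    (hK : ∀ s : SL(2, F), SpecialLinearGroup.toGL s ∈ G.comap (QuotientGroup.mk' _)) : ¬ NilCover G := by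
  obtain ⟨p, hc⟩ := CharP.exists F
  have hp : Fact p.Prime := ⟨CharP.char_is_prime F p⟩
  choose s v h hP using exists_uni (F := F) (p := p) (n := 1)
  generalize hK' : G.comap (QuotientGroup.mk' _) = K at hK
  obtain ⟨a, a0, a1⟩ := exists_sq_ne_one_of_four_le hF
  obtain ⟨d, hd, d1, d2, d3, d4⟩ : ∃ d ∈ K, d 0 1 = 0 ∧ d 1 0 = 0 ∧ d 0 0 ≠ d 1 1 ∧ (d 0 0 ≠ -d 1 1 ∨
      (∀ g ∈ K, g 0 1 = 0 → g 1 0 = 0 → g 0 0 ^ 2 = g 1 1 ^ 2) ∧ a ^ 2 = -1) := by
    by_cases e : ∀ g ∈ K, g 0 1 = 0 → g 1 0 = 0 → g 0 0 ^ 2 = g 1 1 ^ 2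
    · have e1 : a ^ 2 = a⁻¹ ^ 2 := e _ (hK (sl2 a 0 0 a⁻¹ (by simp [a0]))) rfl rfl
      refine ⟨_, hK (sl2 a 0 0 a⁻¹ (by simp [a0])), rfl, rfl, fun e2 : a = a⁻¹ => a1 (by field_simp at e2; exact e2),
        Or.inr ⟨e, mul_left_cancel₀ (sub_ne_zero.2 a1) ?_⟩⟩
      field_simp at e1; linear_combination e1
    · push Not at e
      obtain ⟨g, g1, g2, g3, g4⟩ := e
      exact ⟨g, g1, g2, g3, fun e => g4 (by rw [e]), Or.inl fun e => g4 (by rw [e]; ring)⟩
  let T := {C : Subgroup (GL (Fin 2) F) // ∃ x ∈ K, Fpf x ∧ x 0 0 + x 1 1 ≠ 0 ∧ C = C_[x]}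
  choose y y1 y2 y3 y4 using fun C : T => C.2
  have nc : ∀ x : GL (Fin 2) F, Fpf x → x ∉ center _ := fun x hx e => hx.1 (GL2.mem_center_iff_entries.1 e).2.1
  have zc : ∀ (C : T) (A : Subgroup (GL (Fin 2) F)), Group.IsNilpotent A → y C ∈ A → ∃ z ∈ A, Fpf z ∧ z ∉ center _ ∧
      ∀ a ∈ A, z * a * z⁻¹ * a⁻¹ ∈ center _ := fun C A hA e => by
    obtain ⟨z, z1, z2, z3⟩ := exists_center_mod hA fun e1 => nc _ (y2 C) (e1 e)
    have := aff_of_comm (y2 C).1 (comm_of_tr (y3 C) (z3 _ e))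
    exact ⟨z, z1, this.fpf (this.ne z2) (y2 C), z2, z3⟩
  have k1 : ∀ P (C : T) (A : Subgroup (GL (Fin 2) F)), Group.IsNilpotent A →
      SpecialLinearGroup.toGL (s P * jU F 2 * (s P)⁻¹) ∈ A → y C ∈ A → False := fun P C A hA e1 e2 =>
    fpf_iff.1 (y2 C) _ ((h P).stab hA e1 e2)
  have k2 : ∀ P (A : Subgroup (GL (Fin 2) F)), Group.IsNilpotent A →
      SpecialLinearGroup.toGL (s P * jU F 2 * (s P)⁻¹) ∈ A → d ∈ A → False := fun P A hA e1 e2 => by
    have o1 : d ^ (Fintype.card F - 1) = 1 := by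
      have : ∀ k : ℕ, (d ^ k) 0 1 = 0 ∧ (d ^ k) 1 0 = 0 ∧ (d ^ k) 0 0 = d 0 0 ^ k ∧ (d ^ k) 1 1 = d 1 1 ^ k := fun k => by
        induction k with
        | zero => simp
        | succ k ih => simp only [pow_succ, GL2.mul_apply, ih, d1, d2]; simp
      have e := GL2.det_ne d
      rw [d1, zero_mul, sub_zero, mul_ne_zero_iff] at e
      obtain ⟨t1, t2, t3, t4⟩ := this (Fintype.card F - 1)
      exact GL2.ext' (t3.trans (FiniteField.pow_card_sub_one_eq_one _ e.1)) t1 t2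
        (t4.trans (FiniteField.pow_card_sub_one_eq_one _ e.2))
    have e3 := mem_cent.1 (nil_cent_of_coprime hA (zpowers_le.2 e2) (pcore_le {p} A) (pg_coprime hp.out
      (pcore_pg hp.out A) fun e => not_dvd_pow_sub_one (F := F) p 1 one_ne_zero (by
        rw [card_zpowers] at e; rw [pow_one]; exact e.trans (orderOf_dvd_of_pow_eq_one o1))).symm (mem_zpowers d)) _
        (mem_pcore hA e1 (h P).pow)
    obtain ⟨-, e4, e5, -⟩ := GL2.ext_iff'.1 e3
    simp only [GL2.mul_apply, d1, d2] at e4 e5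
    have e6 := (h P).eq (gl_smul_pInf_eq_pInf.2 (mul_right_cancel₀ (sub_ne_zero.2 d3) (by linear_combination e5)))
    have e7 := (h P).eq ((gl_smul_pt_eq_pt (s := 0) (t := 0)).2
      (mul_right_cancel₀ (sub_ne_zero.2 d3) (by linear_combination -e4)))
    exact pInf_ne_pt 0 (e6.trans e7.symm)
  have k3 : ∀ (C : T) (A : Subgroup (GL (Fin 2) F)), Group.IsNilpotent A → A ≤ K → y C ∈ A → d ∈ A → False := by
    intro C A hA hAK e1 e2
    obtain ⟨z, z1, z2, -, z3⟩ := zc C A hA e1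
    obtain ⟨c, hc⟩ := comm_mod (z3 d e2)
    simp only [GL2.mul_apply] at hc
    have b0 : z 0 1 ≠ 0 := by simpa using z2.2 0
    have e := GL2.det_ne d
    rw [d1, zero_mul, sub_zero, mul_ne_zero_iff] at e
    have c1 : d 0 0 = c * d 1 1 := mul_left_cancel₀ z2.1 (by
      have := hc 1 0; simp only [d2] at this; linear_combination this)
    have c2 : d 1 1 = c * d 0 0 := mul_left_cancel₀ b0 (by
      have := hc 0 1; simp only [d1] at this; linear_combination this)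
    have c3 : c - 1 ≠ 0 := fun e => d3 (by rw [c1, sub_eq_zero.1 e, one_mul])
    have c4 : c = -1 := mul_left_cancel₀ (mul_ne_zero e.1 c3) (by linear_combination -c1 - c * c2)
    have c5 : z 0 0 = 0 := mul_left_cancel₀ (mul_ne_zero e.1 c3) (by
      have := hc 0 0; simp only [d1, d2] at this; linear_combination -this)
    have c6 : z 1 1 = 0 := mul_left_cancel₀ (mul_ne_zero e.2 c3) (by
      have := hc 1 1; simp only [d1, d2] at this; linear_combination -this)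
    rcases d4 with e3 | ⟨e3, e4⟩
    · exact e3 (by rw [c1, c4]; ring)
    · have := e3 _ (mul_mem (hAK z1) (hK (sl2 0 1 (-1) 0 (by simp)))) (by simp [GL2.mul_apply, c5])
        (by simp [GL2.mul_apply, c6])
      simp only [GL2.mul_apply, c5, c6] at this
      rcases sq_eq_sq_iff_eq_or_eq_neg.1 (show z 0 1 ^ 2 = z 1 0 ^ 2 by simpa using this) with e5 | e5
      · exact z2.2 1 (by rw [c5, c6, e5]; ring)
      · exact z2.2 a (by rw [c5, c6, e5]; linear_combination -z 1 0 * e4)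
  refine no_cover_quot G hK'.symm (Sum.elim (fun P : P1 F => MulAction.stabilizer _ P) fun C : T => C.1) ?_ ?_
    (fun j => j.elim d (Sum.elim (fun P => SpecialLinearGroup.toGL (s P * jU F 2 * (s P)⁻¹)) y)) ?_
    (fun _ A _ hA _ g hg => ?_) ?_
  · rintro (P | C) g hg
    · exact center_smul hg P
    · change g ∈ C.1
      rw [y4 C]; exact mem_cent1.2 (mem_center_iff.1 hg _).symm
  · rintro (P | C)
    · exact not_le_stab hK P
    · intro e
      have e1 : SpecialLinearGroup.toGL (H17.up 1) ∈ C_[y C] := y4 C ▸ e (hK _)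
      have e2 := aff_of_comm (y2 C).1 (mem_cent1.1 e1)
      exact (e2.fpf (e2.ne fun e => by simpa using (GL2.mem_center_iff_entries.1 e).1) (y2 C)).1 rfl
  · rintro (_ | P | C)
    exacts [hd, hK _, y1 C]
  · by_cases e : Fpf g
    swap
    · rw [fpf_iff] at e; push Not at e
      exact e.elim fun P e => ⟨Sum.inl P, e⟩
    by_cases e1 : g 0 0 + g 1 1 = 0
    swap
    · exact ⟨Sum.inr ⟨_, g, hA hg, e, e1, rfl⟩, mem_cent1_self g⟩
    have g1 : g 1 1 = -g 0 0 := by linear_combination e1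
    have ns : ∀ t, t ^ 2 - (g 0 0 ^ 2 + g 0 1 * g 1 0) ≠ 0 := fun t e2 => e.2 ((t + g 0 0) / g 1 0) (by
      have := e.1; rw [g1]; field_simp; linear_combination -e2)
    have h2 : (2 : F) ≠ 0 := fun e2 => by
      obtain ⟨t, ht⟩ := FiniteField.isSquare_of_char_two (CharP.ringChar_of_prime_eq_zero Nat.prime_two e2)
        (g 0 0 ^ 2 + g 0 1 * g 1 0)
      exact ns t (by rw [ht]; ring)
    obtain ⟨b, b0, b1⟩ : ∃ b : F, b ≠ 0 ∧ b ^ 2 + (g 0 0 ^ 2 + g 0 1 * g 1 0) ≠ 0 := by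
      by_cases e2 : 1 ^ 2 + (g 0 0 ^ 2 + g 0 1 * g 1 0) = 0
      · exact ⟨a, a0, fun e3 => a1 (by linear_combination e3 - e2)⟩
      · exact ⟨1, one_ne_zero, e2⟩
    have b2 := ns b
    set c := g 0 0 ^ 2 + g 0 1 * g 1 0 with hc
    let x := SpecialLinearGroup.toGL (sl2 ((b ^ 2 + c + 2 * b * g 0 0) / (b ^ 2 - c)) (2 * b * g 0 1 / (b ^ 2 - c))
      (2 * b * g 1 0 / (b ^ 2 - c)) ((b ^ 2 + c - 2 * b * g 0 0) / (b ^ 2 - c)) (by field_simp; rw [hc]; ring))
    have e2 : Aff g x (2 * b / (b ^ 2 - c)) := ⟨by simp [x]; ring, by simp [x]; ring, by simp [x, g1]; ring⟩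
    refine ⟨Sum.inr ⟨_, x, hK _, e2.fpf (div_ne_zero (mul_ne_zero h2 b0) b2) e, ?_, rfl⟩, mem_cent1.2 e2.comm.symm⟩
    have : x 0 0 + x 1 1 = 2 * (b ^ 2 + c) / (b ^ 2 - c) := by simp [x]; ring
    rw [this]; exact div_ne_zero (mul_ne_zero h2 b1) b2
  · rintro (_ | P | C) (_ | Q | D) A hA hAK e1 e2
    · rfl
    · exact (k2 Q A hA e2 e1).elim
    · exact (k3 D A hA hAK e2 e1).elim
    · exact (k2 P A hA e1 e2).elim
    · rw [hP P, hP Q]; exact congrArg (some ∘ Sum.inl) ((h Q).eq ((h P).stab hA e1 e2))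
    · exact (k1 P D A hA e1 e2).elim
    · exact (k3 C A hA hAK e1 e2).elim
    · exact (k1 Q C A hA e2 e1).elim
    · obtain ⟨z, -, -, z2, z3⟩ := zc C A hA e1
      have f1 := aff_of_comm (y2 C).1 (comm_of_tr (y3 C) (z3 _ e1))
      have f2 := aff_of_comm (y2 D).1 (comm_of_tr (y3 D) (z3 _ e2))
      refine congrArg (some ∘ Sum.inr) (Subtype.ext ?_)
      rw [y4 C, y4 D]
      ext g
      exact ⟨fun e => mem_cent1.2 ((f2.trans (f1.symm (f1.ne z2))).trans (aff_of_comm (y2 C).1 (mem_cent1.1 e))).comm,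
        fun e => mem_cent1.2 ((f1.trans (f2.symm (f2.ne z2))).trans (aff_of_comm (y2 D).1 (mem_cent1.1 e))).comm⟩

end H03
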