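import Mathlib

/-! Ecklund's theorem on small prime divisors of binomial coefficients. -/

namespace H03.Sym

open Nat Finset

theorem carry {p a b i : ℕ} (hp : p.Prime) (hi : 1 ≤ i) (h : p ^ i ≤ a % p ^ i + b % p ^ i) :
    p ∣ (b + a).choose a := by
  refine dvd_of_factorization_pos ?_
  rw [factorization_choose' hp (b := log p (b + a) + i + 1) (by omega)]
  exact card_ne_zero.2 ⟨i, by simp [hi, h]⟩

theorem exists_q {u : ℕ} (h : Even u) (h0 : u ≠ 0) (h2 : u ≠ 2) :
    ∃ p i, p.Prime ∧ p ≠ 2 ∧ p ≤ u + 1 ∧ 1 ≤ i ∧ 5 ≤ p ^ i ∧ p ^ i ∣ u + 1 := by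
  have key : ∀ p, p.Prime → p ∣ u + 1 → p ≠ 3 →
      ∃ p i, p.Prime ∧ p ≠ 2 ∧ p ≤ u + 1 ∧ 1 ≤ i ∧ 5 ≤ p ^ i ∧ p ^ i ∣ u + 1 := fun p hp hd h3 => by
    have h4 : p ≠ 2 := by rintro rfl; obtain ⟨k, rfl⟩ := h; omega
    exact ⟨p, 1, hp, h4, le_of_dvd (by omega) hd, le_rfl,
      by simpa using hp.five_le_of_ne_two_of_ne_three h4 h3, by simpa⟩
  obtain ⟨p, hp, w, hw⟩ := exists_prime_and_dvd (n := u + 1) (by omega)
  by_cases h3 : p = 3
  · subst h3
    obtain ⟨q, hq, z, hz⟩ := exists_prime_and_dvd (n := w) (by omega)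
    by_cases h3 : q = 3
    · exact ⟨3, 2, hp, by omega, by omega, by omega, by omega, z, by rw [hw, hz, h3]; ring⟩
    · exact key q hq ⟨3 * z, by rw [hw, hz]; ring⟩ h3
  · exact key p hp ⟨w, hw⟩ h3

theorem mod_eq {q u c : ℕ} (hd : q ∣ u + 1) (hc : c < q) (h0 : 0 < c) (h2 : c ≤ 2 * u + 2) :
    (2 * u + 2 - c) % q = q - c := by
  obtain ⟨w, hw⟩ := hd
  obtain ⟨w, rfl⟩ : ∃ z, w = z + 1 := ⟨w - 1, by rcases w with _ | w <;> simp_all⟩
  rw [show 2 * u + 2 - c = q - c + q * (2 * w + 1) by zify [hc.le, h2] at hw ⊢; linear_combination 2 * hw,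
    add_mul_mod_self_left, mod_eq_of_lt (by omega)]

theorem central {u : ℕ} (h : Even u) (h0 : u ≠ 0)
    (H : ∀ p, p.Prime → p ≠ 2 → p ≤ 2 * u → ¬ p ∣ (2 * u + 2 * u).choose (2 * u)) : u = 2 := by
  by_contra h2
  obtain ⟨p, i, hp, h3, h4, h5, h6, h7⟩ := exists_q h h0 h2
  refine H p hp h3 (by omega) (carry hp h5 ?_)
  have := mod_eq (c := 2) h7 (by omega) (by omega) (by omega)
  rw [Nat.add_sub_cancel] at this
  omega

theorem prime_of_choose {m k : ℕ} (hk : 1 ≤ k) (hm : k < m)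
    (H : ∀ p, p.Prime → p ≤ m → ¬ p ∣ (m + k).choose k) : (m + k).Prime := by
  by_contra h
  obtain ⟨k, rfl⟩ : ∃ j, k = j + 1 := ⟨k - 1, by omega⟩
  have h1 : (m + (k + 1)).Coprime ((m + (k + 1)).choose (k + 1)) :=
    coprime_of_dvd fun p hp ⟨w, hw⟩ => H p hp (by
      rcases w with _ | _ | w
      · omega
      · exact absurd (by simpa [hw] using hp) h
      · nlinarith)
  have h2 := h1.dvd_of_dvd_mul_left ⟨_, (add_one_mul_choose_eq (m + k) k).symm⟩
  have := le_of_dvd (by omega) h2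
  omega

theorem odd_dvd_prod {w u : ℕ} (hw : Odd w) (h : w ∣ u !) (a : ℕ) : w ∣ ∏ i ∈ range u, (a + 2 * i) := by
  obtain ⟨z, hz⟩ := hw
  have e : (2 * (z + 1) : ZMod w) = 1 := by
    have : ((2 * z + 1 : ℕ) : ZMod w) = 0 := hz ▸ ZMod.natCast_self _
    push_cast at this
    linear_combination this
  have h1 := (ZMod.natCast_eq_zero_iff _ _).2 (h.trans (factorial_dvd_ascFactorial ((z + 1) * a) u))
  rw [ascFactorial_eq_prod_range] at h1
  rw [← ZMod.natCast_eq_zero_iff]
  push_cast at h1 ⊢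
  rw [← mul_zero (2 ^ u : ZMod w), ← h1, ← card_range u, ← prod_const, card_range, ← prod_mul_distrib]
  exact prod_congr rfl fun i _ => by linear_combination (-a) * e

theorem desc_eq (N t : ℕ) (h : t ≤ N) : (2 * N + 1).descFactorial (2 * t) =
    2 ^ t * N.descFactorial t * ∏ i ∈ range t, (2 * (N - t) + 3 + 2 * i) := by
  induction t with
  | zero => simp
  | succ t ih =>
    rw [show 2 * (t + 1) = 2 * t + 1 + 1 by ring, descFactorial_succ, descFactorial_succ, ih (by omega),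
      descFactorial_succ, prod_range_succ']
    obtain ⟨d, rfl⟩ : ∃ d, N = t + 1 + d := ⟨N - (t + 1), by omega⟩
    rw [show 2 * (t + 1 + d) + 1 - (2 * t + 1) = 2 * (d + 1) by omega,
      show 2 * (t + 1 + d) + 1 - 2 * t = 2 * d + 3 by omega, show t + 1 + d - t = d + 1 by omega,
      show t + 1 + d - (t + 1) = d by omega,
      prod_congr rfl fun i _ => show 2 * d + 3 + 2 * (i + 1) = 2 * (d + 1) + 3 + 2 * i by ring]
    ring

theorem two_pow_dvd_fact {u v : ℕ} (hu : u ≠ 0) (h : 2 ^ v ∣ u !) : v < u := by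
  have := (pow_dvd_iff_le_emultiplicity.1 h).trans_lt (emultiplicity_two_factorial_lt hu)
  exact_mod_cast this

theorem ecklund {m k : ℕ} (hk : 2 ≤ k) (hm : k < m)
    (H : ∀ p, p.Prime → p ≤ m → ¬ p ∣ (m + k).choose k) : k = 3 ∧ m = 4 := by
  obtain ⟨N, hN⟩ := (prime_of_choose (by omega) hm H).odd_of_ne_two (by omega)
  have key : ∀ t u a, k = t + u → u ≠ 0 → u ≤ t + 1 → t ≤ u → t ≠ 0 → (2 * N + 1).descFactorial k =
      2 ^ t * N.descFactorial t * ∏ i ∈ range u, (a + 2 * i) → 2 ^ t ∣ u ! ∧ N = k := by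
    intro t u a h1 h2 hu hu' h3 h4
    obtain ⟨v, w, hw, e⟩ := exists_eq_two_pow_mul_odd (factorial_ne_zero u)
    have h5 : 2 ^ t * N.descFactorial t * w ∣ k ! := by
      refine Coprime.dvd_of_dvd_mul_right (n := (m + k).choose k) (coprime_of_dvd fun p hp hd => H p hp ?_) ?_
      · rcases (hp.dvd_mul).1 hd with hd | hd
        · rcases (hp.dvd_mul).1 hd with hd | hd
          · have := le_of_dvd two_pos (hp.dvd_of_dvd_pow hd); omega
          · have := hp.dvd_factorial.1 (hd.trans ⟨_, by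
              rw [mul_comm]; exact (factorial_mul_descFactorial (n := N) (k := t) (by omega)).symm⟩)
            omega
        · have := hp.dvd_factorial.1 (hd.trans ⟨2 ^ v, by rw [mul_comm]; exact e⟩); omega
      · rw [← descFactorial_eq_factorial_mul_choose, hN, h4]
        exact mul_dvd_mul_left _ (odd_dvd_prod hw ⟨_, by rw [e, mul_comm]⟩ a)
    have h6 := le_of_dvd (factorial_pos k) h5
    rw [descFactorial_eq_factorial_mul_choose, ← choose_mul_factorial_mul_factorial (show t ≤ k by omega),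
      show k - t = u by omega, e] at h6
    have h7 : 2 ^ t * N.choose t ≤ 2 ^ v * k.choose t :=
      le_of_mul_le_mul_right (by linarith) (mul_pos (factorial_pos t) hw.pos)
    have h8 : k.choose t ≤ N.choose t := choose_le_choose t (by omega)
    have h9 : 0 < k.choose t := choose_pos (by omega)
    have h10 : v < u := two_pow_dvd_fact h2 ⟨w, e⟩
    have h11 : t ≤ v := (Nat.pow_le_pow_iff_right one_lt_two).1
      (le_of_mul_le_mul_right ((mul_le_mul_left _ h8).trans h7) h9)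
    refine ⟨(pow_dvd_pow 2 h11).trans ⟨w, e⟩, ?_⟩
    by_contra h12
    obtain ⟨t, rfl⟩ : ∃ j, t = j + 1 := ⟨t - 1, by omega⟩
    have h13 := choose_le_choose (t + 1) (show k + 1 ≤ N by omega)
    have h14 : 0 < k.choose t := choose_pos (by omega)
    rw [show v = t + 1 by omega, mul_le_mul_iff_right₀ (by positivity)] at h7
    rw [choose_succ_succ'] at h13
    omega
  obtain ⟨t, rfl | rfl⟩ := even_or_odd' k
  · exact absurd (two_pow_dvd_fact (by omega) (key t t _ (by ring) (by omega) (by omega) le_rfl (by omega)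
      (desc_eq N t (by omega))).1) (lt_irrefl _)
  obtain ⟨h1, h2⟩ := key t (t + 1) (2 * (N - t) + 1) (by ring) (by omega) le_rfl (by omega) (by omega) (by
    rw [descFactorial_succ, desc_eq N t (by omega), prod_range_succ',
      show 2 * N + 1 - 2 * t = 2 * (N - t) + 1 by omega,
      prod_congr rfl fun i _ => show 2 * (N - t) + 1 + 2 * (i + 1) = 2 * (N - t) + 3 + 2 * i by ring]
    ring)
  have h3 : Even (t + 1) := by
    by_contra h
    rw [factorial_succ] at h1
    exact lt_irrefl _ (two_pow_dvd_fact (by omega) (Coprime.dvd_of_dvd_mul_left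
      (Coprime.pow_left _ (coprime_two_left.2 (not_even_iff_odd.1 h))) h1))
  by_contra h4
  obtain ⟨p, i, hp, -, h5, h6, h7, h8⟩ := exists_q h3 (by omega) (by omega)
  refine H p hp (by omega) (carry hp h6 ?_)
  have a1 := mod_eq (c := 2) h8 (by omega) (by omega) (by omega)
  have a2 := mod_eq (c := 3) h8 (by omega) (by omega) (by omega)
  rw [show 2 * (t + 1) + 2 - 2 = m by omega] at a1
  rw [show 2 * (t + 1) + 2 - 3 = 2 * t + 1 by omega] at a2
  omega

end H03.Sym
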