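import Mathlib
import Cfsg.Agent.H06.FV0
import Cfsg.Agent.H01.Coprime
import Cfsg.Agent.H26.Syl

/-!
Flavell cluster, part T2 (namespace `H03.FA`): `aut : CoreStmt → AutStmt`.
-/

set_option autoImplicit false

namespace H03.FA
open Cfsg BG Subgroup Cfsg.Agent.H06.FV SemidirectProduct

universe u
variable {G G' : Type*} [Group G] [Group G'] {p r : ℕ} {L : Subgroup G} {σ : G}

/-- products of `p`-elements are `p`-elements -/
def PC (p : ℕ) (L : Subgroup G) : Prop := ∀ x ∈ L, ∀ y ∈ L, ∀ a b : ℕ, x ^ p ^ a = 1 → y ^ p ^ b = 1 → ∃ k, (x * y) ^ p ^ k = 1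

theorem pc_iff [Finite G] (hp : p.Prime) : PCl p L ↔ PC p L := by
  refine ⟨fun ⟨P, h, n⟩ x hx y hy a b ha hb => ?_, fun h => ?_⟩
  · have k : ∀ x ∈ L, ∀ a : ℕ, x ^ p ^ a = 1 → x ∈ P := fun x hx a ha => zpowers_le.1
      (h.le_of_norm_pg' hp (H26.isPGroup_zpowers ⟨a, ha⟩) (zpowers_le.2 hx) (zpowers_le.2 (n hx)))
    exact H26.isPGroup_iff_mem.1 (h.pg hp) _ (mul_mem (k x hx a ha) (k y hy b hb))
  · let P : Subgroup G := ⟨⟨⟨{x | x ∈ L ∧ ∃ k : ℕ, x ^ p ^ k = 1}, fun ⟨h1, a, ha⟩ ⟨h2, b, hb⟩ =>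
      ⟨mul_mem h1 h2, h _ h1 _ h2 a b ha hb⟩⟩, one_mem _, 0, by simp⟩, fun ⟨h1, a, ha⟩ => ⟨inv_mem h1, a, by simp [ha]⟩⟩
    exact ⟨P, sylow_of_max hp (H26.isPGroup_iff_mem.2 fun x hx => hx.2) (fun x hx => hx.1) fun Y hY h1 h2 =>
      le_antisymm (fun y hy => ⟨h2 hy, H26.isPGroup_iff_mem.1 hY y hy⟩) h1, le_norm_iff.2 fun a ha k ⟨h1, b, hb⟩ =>
      ⟨mul_mem (mul_mem ha h1) (inv_mem ha), b, by rw [conj_pow, hb]; simp⟩⟩

theorem PC.of_map (f : G →* G') (h : PC p (L.map f)) {x y : G} (hx : x ∈ L) (hy : y ∈ L) {a b : ℕ} (ha : x ^ p ^ a = 1)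
    (hb : y ^ p ^ b = 1) : ∃ k, f ((x * y) ^ p ^ k) = 1 := by
  simpa only [map_pow, map_mul] using h _ (mem_map_of_mem f hx) _ (mem_map_of_mem f hy) a b
    (by rw [← map_pow, ha, map_one]) (by rw [← map_pow, hb, map_one])

theorem PC.of_comap {f : G' →* G} (hf : Function.Injective f) (h : PC p (L.comap f)) (hL : L ≤ f.range) : PC p L := by
  intro x hx y hy a b ha hb
  obtain ⟨x, rfl⟩ := hL hx
  obtain ⟨y, rfl⟩ := hL hy
  obtain ⟨k, e⟩ := h x hx y hy a b (hf (by rw [map_pow, ha, map_one])) (hf (by rw [map_pow, hb, map_one]))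
  exact ⟨k, by rw [← map_mul, ← map_pow, e, map_one]⟩

/-- the hypotheses on `σ` and `L` -/
structure Hy (p r : ℕ) (σ : G) (L : Subgroup G) : Prop where
  h1 : σ ^ r = 1
  h2 : σ ∈ N_(L)
  h3 : ¬ r ∣ Nat.card L
  h4 : ¬ p ∣ Nat.card ↥(L ⊓ C_[σ])

theorem Hy.map [Finite G] (hr : r.Prime) (h : Hy p r σ L) (f : G →* G') : Hy p r (f σ) (L.map f) := by
  refine ⟨by rw [← map_pow, h.h1, map_one], H26.le_normalizer_map f (zpowers_le.2 h.h2) (mem_map_of_mem f (mem_zpowers σ)),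
    fun d => h.h3 (d.trans (card_map_dvd _ f)), fun d => h.h4 ?_⟩
  rw [← cent_zpowers, ← MonoidHom.map_zpowers, H01.centralizer_map_eq f (zpowers_le.2 h.h2) (by
    rw [Nat.card_zpowers]
    exact ((hr.coprime_iff_not_dvd.2 h.h3).coprime_dvd_left (orderOf_dvd_of_pow_eq_one h.h1)).coprime_dvd_right
      (card_dvd_of_le inf_le_left)) (.inl inferInstance), cent_zpowers] at d
  exact d.trans (card_map_dvd _ f)

theorem Hy.comap {f : G' →* G} (hf : Function.Injective f) {σ : G'} (h : Hy p r (f σ) L) : Hy p r σ (L.comap f) :=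
  ⟨hf (by rw [map_pow, h.h1, map_one]), le_normalizer_comap f h.h2, fun d => h.h3 (d.trans (card_comap_dvd_of_injective _ f hf)),
    fun d => h.h4 ((d.trans (card_dvd_of_le (show _ ≤ (L ⊓ C_[f σ]).comap f from fun x hx => ⟨hx.1, mem_cent1.2 (by
      rw [← map_mul, mem_cent1.1 hx.2, map_mul])⟩))).trans (card_comap_dvd_of_injective _ f hf))⟩

theorem Hy.mono (h : Hy p r σ L) {H : Subgroup G} (hl : H ≤ L) (hn : σ ∈ N_(H)) : Hy p r σ H :=
  ⟨h.h1, hn, not_dvd_of_le h.h3 hl, not_dvd_of_le h.h4 (inf_le_inf_right _ hl)⟩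

theorem exists_res (φ : G' →* MulAut G) (U : Subgroup G) (h : ∀ m, ∀ x ∈ U, φ m x ∈ U) :
    ∃ f : G' →* MulAut U, ∀ m u, (f m u : G) = φ m u := by
  let _ : MulDistribMulAction G' U :=
    { smul := fun m u => ⟨φ m u, h m u u.2⟩
      one_smul := fun u => Subtype.ext (show φ 1 u = u by simp)
      mul_smul := fun a b u => Subtype.ext (show φ (a * b) u = φ a (φ b u) by simp)
      smul_mul := fun a u v => Subtype.ext (map_mul (φ a) _ _)
      smul_one := fun a => Subtype.ext (map_one (φ a)) }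
  exact ⟨MulDistribMulAction.toMulAut G' U, fun _ _ => rfl⟩

theorem exists_quo (φ : G' →* MulAut G) (U : Subgroup G) [U.Normal] (h : ∀ m, ∀ x ∈ U, φ m x ∈ U) :
    ∃ f : G' →* MulAut (G ⧸ U), ∀ m (x : G), f m (x : G ⧸ U) = (φ m x : G ⧸ U) := by
  let _ : MulDistribMulAction G' (G ⧸ U) :=
    { smul := fun m => QuotientGroup.map U U (φ m).toMonoidHom (h m)
      one_smul := fun u => QuotientGroup.induction_on u fun x => show ((φ 1 x : G) : G ⧸ U) = x by simp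
      mul_smul := fun a b u => QuotientGroup.induction_on u fun x =>
        show ((φ (a * b) x : G) : G ⧸ U) = (φ a (φ b x) : G) by simp
      smul_mul := fun a u v => map_mul (QuotientGroup.map U U (φ a).toMonoidHom (h a)) _ _
      smul_one := fun a => map_one (QuotientGroup.map U U (φ a).toMonoidHom (h a)) }
  exact ⟨MulDistribMulAction.toMulAut G' _, fun _ _ => rfl⟩

theorem stab [Finite G] {U : Subgroup G} {z : MulAut G} (h1 : ∀ u ∈ U, z u = u) (h2 : ∀ x, x⁻¹ * z x ∈ U) :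
    z ^ Nat.card G = 1 := by
  have : ∀ (n : ℕ) x, (z ^ n) x = x * (x⁻¹ * z x) ^ n := fun n x => by
    induction n with
    | zero => simp
    | succ n ih => rw [pow_succ', MulAut.mul_apply, ih, map_mul, h1 _ (pow_mem (h2 x) n), pow_succ', ← mul_assoc, mul_inv_cancel_left]
  ext x; rw [this, pow_card_eq_one']; simp

theorem fpf_mem [Finite G] {U : Subgroup G} {z : MulAut G} (h : ∀ x, z x = x → x = 1) (hU : ∀ x ∈ U, z x ∈ U) {x : G}
    (hx : x⁻¹ * z x ∈ U) : x ∈ U := by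
  obtain ⟨u, e⟩ := Finite.surjective_of_injective (f := fun u : U => (⟨(u : G)⁻¹ * z u, mul_mem (inv_mem u.2) (hU _ u.2)⟩ : U))
    (fun a b e => Subtype.ext (mul_inv_eq_one.1 (h _ (by
      have e : (a : G)⁻¹ * z a = (b : G)⁻¹ * z b := congrArg Subtype.val e
      rw [map_mul, map_inv, ← mul_inv_cancel_left (a : G) (z a), e]; group)))) ⟨_, hx⟩
  have e : (u : G)⁻¹ * z u = x⁻¹ * z x := congrArg Subtype.val e
  rw [mul_inv_eq_one.1 (h (x * (u : G)⁻¹) (by rw [map_mul, map_inv, ← mul_inv_cancel_left x (z x), ← e]; group))]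
  exact u.2

theorem aux (hC : CoreStmt.{u}) (hp : p.Prime) (p2 : p ≠ 2) (hr : r.Prime) (n : ℕ) : ∀ (Q : Type u) [Group Q] [Finite Q],
    IsPGroup p Q → ∀ (σ : MulAut Q) (L : Subgroup (MulAut Q)), Nat.card Q + Nat.card L ≤ n → (∀ x, σ x = x → x = 1) →
    Hy p r σ L → PC p L := by
  induction n using Nat.strong_induction_on with
  | _ n ih =>
  intro Q _ _ hQ σ L hn hσ h
  have := Fact.mk hp
  by_cases hU : ∃ U : Subgroup Q, U.Normal ∧ U ≠ ⊥ ∧ U ≠ ⊤ ∧ ∀ α ∈ L ⊔ zpowers σ, ∀ x ∈ U, α x ∈ U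
  · obtain ⟨U, _, U0, U1, hU⟩ := hU
    let M := L ⊔ zpowers σ
    have sM : σ ∈ M := mem_sup_right (mem_zpowers σ)
    have h' : Hy p r (⟨σ, sM⟩ : M) (L.comap M.subtype) := Hy.comap M.subtype_injective h
    have c : ∀ {A : Type u} [Group A] (f : M →* A), Nat.card ((L.comap M.subtype).map f) ≤ Nat.card L := fun f =>
      Nat.le_of_dvd Nat.card_pos ((card_map_dvd _ f).trans (card_comap_dvd_of_injective _ _ M.subtype_injective))
    obtain ⟨f, hf⟩ := exists_res M.subtype U fun m => hU m m.2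
    obtain ⟨g, hg⟩ := exists_quo M.subtype U fun m => hU m m.2
    have c1 := U.card_mul_index
    have c2 := U.one_lt_card_iff_ne_bot.2 U0
    have c3 := U.one_lt_index_of_ne_top U1
    have p1 := ih _ (by have := c f; nlinarith) U (hQ.to_subgroup U) _ _ le_rfl
      (fun x e => Subtype.ext (hσ _ ((hf _ _).symm.trans (congrArg Subtype.val e)))) (h'.map hr f)
    have p2 := ih _ (by have := c g; rw [index] at c1 c3; nlinarith) (Q ⧸ U) (hQ.to_quotient U) _ _ le_rfl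
      (fun x => QuotientGroup.induction_on x fun x e => (QuotientGroup.eq_one_iff x).2
        (fpf_mem hσ (hU σ sM) (QuotientGroup.eq.1 (e.symm.trans (hg _ _))))) (h'.map hr g)
    refine PC.of_comap M.subtype_injective (fun x hx y hy a b ha hb => ?_) (by rw [range_subtype]; exact le_sup_left)
    obtain ⟨k, e1⟩ := p1.of_map f hx hy ha hb
    obtain ⟨l, e2⟩ := p2.of_map g hx hy ha hb
    obtain ⟨j, ej⟩ := IsPGroup.iff_card.1 hQ
    refine ⟨k + l + j, Subtype.ext ?_⟩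
    rw [pow_add, pow_mul, coe_pow, ← ej]
    refine stab (U := U) (fun u hu => (hf ((x * y) ^ p ^ (k + l)) ⟨u, hu⟩).symm.trans ?_) fun q =>
      QuotientGroup.eq.1 (Eq.trans ?_ (hg ((x * y) ^ p ^ (k + l)) q))
    · rw [pow_add, pow_mul, map_pow, e1, one_pow]; rfl
    · rw [add_comm, pow_add, pow_mul, map_pow, e2, one_pow]; rfl
  push Not at hU
  replace hU : ∀ U : Subgroup Q, U.Normal → (∀ α ∈ L ⊔ zpowers σ, ∀ x ∈ U, α x ∈ U) → U = ⊥ ∨ U = ⊤ := fun U n k => by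
    by_contra c
    push Not at c
    obtain ⟨α, h1, x, h2, h3⟩ := hU U n c.1 c.2
    exact h3 (k α h1 x h2)
  rcases subsingleton_or_nontrivial Q with _ | _
  · exact fun x _ y _ _ _ _ _ => ⟨0, MulEquiv.ext fun _ => Subsingleton.elim _ _⟩
  have ea : ∀ x : Q, x ∈ center Q ∧ x ^ p = 1 := by
    let U : Subgroup Q := ⟨⟨⟨{x | x ∈ center Q ∧ x ^ p = 1}, fun {a b} ⟨h1, ha⟩ ⟨h2, hb⟩ => ⟨mul_mem h1 h2, by
      rw [Commute.mul_pow (mem_center_iff.1 h2 a), ha, hb, mul_one]⟩⟩, one_mem _, by simp⟩,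
      fun ⟨h1, ha⟩ => ⟨inv_mem h1, by simp [ha]⟩⟩
    have := IsPGroup.center_nontrivial hQ
    obtain ⟨x, hx, o⟩ := H26.exists_mem_orderOf_eq (H26.dvd_card_of_isPGroup (hQ.to_subgroup (center Q))
      ((nontrivial_iff_ne_bot _).1 this) le_rfl)
    rcases hU U ⟨fun n hn g => by rwa [mem_center_iff.1 hn.1 g, mul_inv_cancel_right]⟩ fun α _ x hx =>
      ⟨mem_center_iff.2 (α.surjective.forall.2 fun g => by rw [← map_mul, mem_center_iff.1 hx.1 g, map_mul]),
        by rw [← map_pow, hx.2, map_one]⟩ with e | e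
    · rw [mem_bot.1 (e.le (show x ∈ U from ⟨hx, o ▸ pow_orderOf_eq_one x⟩)), orderOf_one] at o
      exact absurd o.symm hp.ne_one
    · exact fun x => e.ge (mem_top x)
  let Γ := Q ⋊[MonoidHom.id (MulAut Q)] MulAut Q
  have : Finite Γ := Finite.of_equiv _ SemidirectProduct.equivProd.symm
  let i : Q →* Γ := inl
  let j : MulAut Q →* Γ := inr
  have ij : ∀ α x, j α * i x * (j α)⁻¹ = i (α x) := fun α x => by rw [← map_inv]; exact (inl_aut α x).symm
  have nV : i.range.Normal := range_inl_eq_ker_rightHom (φ := MonoidHom.id (MulAut Q)) ▸ MonoidHom.normal_ker _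
  have ji : Function.Injective j := inr_injective
  have ii : Function.Injective i := inl_injective
  have s1 : σ ≠ 1 := by
    rintro rfl
    obtain ⟨x, hx⟩ := exists_ne (1 : Q)
    exact hx (hσ x rfl)
  have hj := h.map hr j
  have := (pc_iff hp).1 (hC Γ p r i.range (zpowers (j σ)) (L.map j) ⟨hp, p2, hr, ⟨abelian_iff.2 ?_, ?_⟩, ?_,
    le_normalizer_of_normal, eq_bot_iff.2 ?_⟩ le_normalizer_of_normal (zpowers_le.2 hj.h2) hj.h3 (eq_bot_iff.2 ?_)
    (cent_zpowers (j σ) ▸ hj.h4) (fun U hV h1 h2 => ?_) fun H hH hn' => (pc_iff hp).2 ?_)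
  · intro x hx y hy a b ha hb
    obtain ⟨k, e⟩ := this.of_map j hx hy ha hb
    exact ⟨k, ji (e.trans (map_one j).symm)⟩
  · rintro _ ⟨x, rfl⟩ _ ⟨y, rfl⟩
    rw [← map_mul, mem_center_iff.1 (ea x).1 y, map_mul]
  · rintro _ ⟨x, rfl⟩
    rw [← map_pow, (ea x).2, map_one]
  · have := Fact.mk hr
    rw [Nat.card_zpowers, orderOf_injective j ji, orderOf_eq_prime h.h1 s1]
  · rintro _ ⟨⟨x, rfl⟩, hx⟩
    rw [hσ x (ii ((ij σ x).symm.trans (mul_inv_eq_iff_eq_mul.2 (hx _ (mem_zpowers _))))), map_one]; exact one_mem _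
  · rw [← MonoidHom.map_zpowers, ← Subgroup.map_sup]
    rintro _ ⟨⟨α, -, rfl⟩, hx⟩
    rw [show α = 1 from MulEquiv.ext fun x => ii ((ij α x).symm.trans (mul_inv_eq_iff_eq_mul.2 (hx _ ⟨x, rfl⟩).symm)), map_one]
    exact one_mem _
  · have k : (L ⊔ zpowers σ).map j ≤ N_(U) := by rw [Subgroup.map_sup, MonoidHom.map_zpowers]; exact sup_le h1 h2
    rw [← map_comap_eq_self hV]
    refine (hU (U.comap i) ⟨fun n hn g => by rwa [mem_center_iff.1 (ea n).1 g, mul_inv_cancel_right]⟩ fun α hα x hx =>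
      show i (α x) ∈ U from ij α x ▸ conj_mem_of_norm (k (mem_map_of_mem j hα)) hx).imp (fun e => ?_) fun e => ?_
    · rw [e, Subgroup.map_bot]
    · rw [e, MonoidHom.range_eq_map]
  · refine PC.of_comap ji (ih _ ?_ Q hQ σ _ le_rfl hσ (Hy.comap ji (hj.mono hH.le (zpowers_le.1 hn'))))
      (hH.le.trans (map_le_range j L))
    have := Nat.le_of_dvd Nat.card_pos (card_comap_dvd_of_injective H j ji)
    have := Nat.le_of_dvd Nat.card_pos (card_map_dvd L j)
    have : Nat.card H < Nat.card (L.map j) := lt_of_not_ge fun e => hH.ne (eq_of_le_of_card_ge hH.le e)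
    omega

theorem aut (hC : CoreStmt.{u}) : AutStmt.{u} := fun Q _ _ _ _ hp p2 hr hQ σ L h1 hσ h2 h3 h4 =>
  (pc_iff hp).2 (aux hC hp p2 hr _ Q hQ σ L le_rfl hσ ⟨h1, h2, h3, h4⟩)

end H03.FA
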