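import Cfsg.Agent.H03.FT2
import Cfsg.Agent.H14.XhZ
import Cfsg.Agent.H20.FtW
import Cfsg.Agent.L.U4One

/-!
# Groups of large Fischer type: fusion in `J(T)`, assembly (namespace `H03.FT`): `main`
-/

set_option autoImplicit false
open Cfsg BG Subgroup H01.XS H01.XF

namespace H03.FT
universe u

theorem main (pk : PkS.{u}) {G : Type u} [Group G] [Finite G] (z : G) (Q : Subgroup (Subgroup.centralizer ({z} : Set G))) [Q.Normal] (hF : Cfsg.IsOfLargeFischerTypeAt z Q) (T : Sylow 2 G) (A M : Subgroup G) (hA : A = Cfsg.thompsonSubgroupOf 2 (T : Subgroup G)) (hM : M = Subgroup.normalizer (A : Set G)) : (∀ a ∈ A, ∀ g : G, g * a * g⁻¹ ∈ A → ∃ m ∈ M, m * a * m⁻¹ = g * a * g⁻¹) ∧ (∃ a ∈ A, a ≠ 1 ∧ IsConj z a) ∧ (∃ a ∈ A, a ≠ 1 ∧ ¬ IsConj z a) ∧ ∀ a ∈ A, ∀ b ∈ A, a ≠ 1 → b ≠ 1 → (IsConj z a ↔ IsConj z b) → ∃ m ∈ M, m * a * m⁻¹ = b := by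
  obtain ⟨V, _, _, _, π, ν, T', d, M', β, q, b⟩ := br hF
  obtain ⟨⟨-, -, -, -, g, ⟨m, i⟩, n⟩, N0, M0, nN, -, l1, l2, cN, ⟨K, _, _, cK, ⟨e⟩⟩, iM⟩ := id hF
  have i' : g * z * g⁻¹ ∈ Q.map (centralizer {z}).subtype := ⟨_, i, rfl⟩
  have h := b.pt g i' n
  obtain ⟨S, -, s2, s3⟩ : ∃ S, (⊥ : Subgroup _) ≤ S ∧ S ≤ h.S _ ∧ Nat.card S = 256 := by
    have : Fact (Nat.Prime 2) := ⟨Nat.prime_two⟩
    have c1 := (h.S (ν (g * z * g⁻¹))).card_mul_index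
    rw [h.orb.1, h.cΓ] at c1
    have c2 : Nat.card (h.S (ν (g * z * g⁻¹))) = 11520 := by omega
    obtain ⟨P⟩ : Nonempty (Sylow 2 (h.S (ν (g * z * g⁻¹)))) := inferInstance
    refine ⟨P.1.map (h.S _).subtype, bot_le, map_subtype_le _, ?_⟩
    rw [card_map_of_injective (subtype_injective _), P.card_eq_multiplicity, c2]
    decide +kernel
  obtain ⟨L, B, Y, k⟩ := pk h S s2 s3
  obtain ⟨e1, e2, e3, -⟩ := H20.XhE.ea b (pp b i' n) ((card_cj _ _).trans b.card) k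
  have zB : z ∈ b.md.pull B := ⟨b.md.lx.aes.mem, b.md.zz ▸ B.zero_mem⟩
  obtain ⟨x, x1, x2⟩ := nz b i' n k
  exact H20.FtW.wrap z Q hF (fun T => H14.XhZ.fin pk (fun s p c k => H20.XhE.ea s p c k) z Q hF T) _
    (fun x o => cent_le_cent1 zB o) e1 e2 (e3.ge zB).1
    (fun x o => cov pk b i' n k (oc b h (_root_.L.U4One.one K cK) nN (by rwa [QuotientGroup.ker_mk']) l2 (by rwa [QuotientGroup.ker_mk'])
      (e.toMonoidHom.comp (QuotientGroup.mk' _)) (e.surjective.comp (QuotientGroup.mk'_surjective _)) (by ext x; simp) iM) o)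
    ⟨x, (e3.ge x1).1, x2⟩ T A M hA hM

end H03.FT
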