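import Cfsg.Agent.H03.FT5
import Cfsg.Agent.L.Fz2
import Cfsg.Agent.H18.FdC
import Cfsg.Agent.H02.FzK
import Cfsg.Agent.H08.FzN
import Cfsg.Agent.H04.FzX
import Cfsg.Agent.H28.FzT
import Cfsg.Agent.H25.FzS
import Cfsg.Agent.H10.FzF

/-!
# Groups of large Fischer type: `N(J(T))/J(T) ≅ M₂₄`, assembly (namespace `H03.FT`): `cf`, `m24`
-/

set_option autoImplicit false
open Cfsg BG Subgroup H01.XS H01.XF H20.FtW
open scoped Pointwise

namespace H03.FT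
universe u

theorem cf (pk : PkS.{u}) {G : Type u} [Group G] [Finite G] (z : G) (Q : Subgroup (centralizer ({z} : Set G))) [Q.Normal]
    (hF : IsOfLargeFischerTypeAt z Q) : (∀ P : Subgroup G, IsPGroup 2 P → Un P) ∧
      ∃ A0 B0 : Subgroup G, _root_.L.Fz.Cf A0 N_(A0) B0 {t | t ∈ A0 ∧ t ≠ 1 ∧ ¬ IsConj z t} z := by
  obtain ⟨V, _, _, _, π, ν, T', d, M', β, q, b⟩ := br hF
  obtain ⟨⟨-, -, -, -, g, ⟨m, i⟩, n⟩, N0, M0, nN, -, l1, l2, cN, ⟨K, _, _, cK, ⟨e⟩⟩, iM⟩ := id hF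
  have i' : g * z * g⁻¹ ∈ Q.map (centralizer {z}).subtype := ⟨_, i, rfl⟩
  have h := b.pt g i' n
  have lx := b.md.lx
  obtain ⟨S, s2, s3⟩ : ∃ S, S ≤ h.S _ ∧ Nat.card S = 256 := by
    have : Fact (Nat.Prime 2) := ⟨Nat.prime_two⟩
    have c1 := (h.S (ν (g * z * g⁻¹))).card_mul_index
    rw [h.orb.1, h.cΓ] at c1
    have c2 : Nat.card (h.S (ν (g * z * g⁻¹))) = 11520 := by omega
    obtain ⟨P⟩ : Nonempty (Sylow 2 (h.S (ν (g * z * g⁻¹)))) := inferInstance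
    refine ⟨P.1.map (h.S _).subtype, map_subtype_le _, ?_⟩
    rw [card_map_of_injective (subtype_injective _), P.card_eq_multiplicity, c2]
    decide +kernel
  obtain ⟨L, B, Y, k⟩ := pk h S s2 s3
  obtain ⟨e1, e2, e3, -⟩ := H20.XhE.ea b (pp b i' n) ((card_cj _ _).trans b.card) k
  have zB : z ∈ b.md.pull B := ⟨lx.aes.mem, b.md.zz ▸ B.zero_mem⟩
  have o := oc b h (_root_.L.U4One.one K cK) nN (by rwa [QuotientGroup.ker_mk']) l2 (by rwa [QuotientGroup.ker_mk'])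
    (e.toMonoidHom.comp (QuotientGroup.mk' _)) (e.surjective.comp (QuotientGroup.mk'_surjective _)) (by ext x; simp) iM
  obtain ⟨s, t, -, -, -, -, -, -, -, st⟩ := Cfsg.Agent.S5440.result z Q hF
  obtain ⟨T0⟩ : Nonempty (Sylow 2 C_[z]) := inferInstance
  obtain ⟨C, eC, cC, -⟩ := H14.XhZ.fin pk (fun s p c k => H20.XhE.ea s p c k) z Q hF T0
  have u0 := un_of (φ := C_[z].subtype.comp (T0 : Subgroup C_[z]).subtype)
    ((subtype_injective _).comp (subtype_injective _)) eC cC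
  rw [MonoidHom.range_comp, range_subtype] at u0
  have s0 := (isSylowIn_map Nat.prime_two T0).trans_idx (M := ⊤) le_top (by rw [relIndex_top_right]; exact lx.odd)
  have u := un_all s0 u0
  refine ⟨u, _, _, _root_.L.Fz.la (s := s) (t := t) lx u ?_ (show g * z * g⁻¹ ∈ b.md.pull B from ⟨i', k.LB k.aL⟩) n
    (isConj_iff.2 ⟨g, rfl⟩) e1 e2 e3 zB (by rw [b.md.card_pull, k.cB]) (fun x => cov pk b i' n k o) (nz b i' n k)
    (trDB b i' n k u) (trZB b i' n k u) (cos b i' n k u o) (H18.Fd.cN b i' n k o) (c21 b i' n k u) fun t a c =>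
      H18.Fd.c19 b i' n (fun x o => cent_le_cent1 zB o) (fun X l => sy2 u e1 e2 X l 19) c.1 (e1 t a.1) (EA.cent e1 a.1) a.2.1 a.2.2⟩
  rintro _ ⟨x, hx, rfl⟩ x2 x1 xz
  have o : orderOf x = 2 := orderOf_eq_prime (Subtype.ext ((pow_two x.1).trans x2)) fun e => x1 (congrArg Subtype.val e)
  exact (st x hx o xz).imp (fun ⟨k, e⟩ => isConj_iff.2 ⟨k, congrArg Subtype.val e⟩)
    fun ⟨k, e⟩ => isConj_iff.2 ⟨k, congrArg Subtype.val e⟩

theorem m24 (pk : PkS.{u}) {G : Type u} [Group G] [Finite G] (z : G) (Q : Subgroup (centralizer ({z} : Set G))) [Q.Normal]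
    (hF : IsOfLargeFischerTypeAt z Q) (T : Sylow 2 G) (A M : Subgroup G)
    (hA : A = Cfsg.thompsonSubgroupOf 2 (T : Subgroup G)) (hM : M = Subgroup.normalizer (A : Set G)) :
    (Cfsg.IsElementaryAbelian 2 A ∧ Nat.card A = 2 ^ 11 ∧ ∃ _ : (A.subgroupOf M).Normal, Nonempty (↥M ⧸ A.subgroupOf M ≃* ↥Cfsg.M24)) ∧
    ∀ t : G, t ∈ A → orderOf t = 2 → ¬ IsConj z t → ∃ _ : (A.subgroupOf (M ⊓ Subgroup.centralizer ({t} : Set G))).Normal,
      Nonempty (↥(M ⊓ Subgroup.centralizer ({t} : Set G)) ⧸ A.subgroupOf (M ⊓ Subgroup.centralizer ({t} : Set G)) ≃*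
        ↥(Cfsg.M24 ⊓ MulAction.stabilizer (Equiv.Perm Cfsg.GolayPt) ({none, some 0} : Set Cfsg.GolayPt))) := by
  obtain ⟨u, A0, B0, h⟩ := cf pk z Q hF
  exact _root_.L.Fz.fin Cfsg.Agent.H02.FzK.k H08.FzN.n H04.FzX.x H28.FzT.t H25.Fz.s H10.FzF.f u h T A M hA hM

end H03.FT
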