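import Mathlib
import Cfsg.Agent.H28.Model
import Cfsg.Agent.H28.FIso
import Cfsg.Agent.H09.SLBasic

/-!
Saturated fusion systems over a semi-extraspecial group with abelian centralizers (namespace `H03.FX`):
`Semi` (the hypothesis), `ti` (a Sylow argument), `constrained` (a nontrivial core is centric), `semi_SL3`
(the Sylow `p`-subgroups of `SL₃(K)` satisfy the hypothesis).
-/

set_option autoImplicit false
set_option linter.unusedSectionVars false
set_option linter.style.haveILetI false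

namespace H03.FX
open Cfsg Cfsg.FusionSystem Equiv H28
open H26 (IsSyl)

universe u

section Fus
variable {Ω : Type*} [Group Ω] {p : ℕ} [Fact p.Prime] {S : Subgroup Ω} [Finite S] {F : FusionSystem S}

/-- class two, abelian centralizers, onto commutator maps -/
structure Semi (S : Subgroup Ω) : Prop where
  c2 : ∀ x ∈ S, ∀ s ∈ S, x⁻¹ * (s * x * s⁻¹) ∈ centralizerIn S S
  ab : ∀ x ∈ S, x ∉ centralizerIn S S → ∀ a ∈ S, ∀ b ∈ S, a * x = x * a → b * x = x * b → a * b = b * a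
  on : ∀ x ∈ S, x ∉ centralizerIn S S → ∀ z ∈ centralizerIn S S, ∃ s ∈ S, s * x * s⁻¹ = x * z

theorem mem_cen {P : Subgroup Ω} {x : Ω} : x ∈ centralizerIn S P ↔ x ∈ S ∧ ∀ y ∈ P, y * x = x * y := Iff.rfl

theorem ti (hS : IsPGroup p S) (hF : F.IsSaturated p) {R : Subgroup Ω} (hR : F.IsFullyNormalized R) {v w : Ω}
    (hv : v ∈ R) (hw : w ∈ R) (h1 : ∀ s ∈ S, s * v * s⁻¹ = v) (h2 : ∀ s ∈ S, s * w * s⁻¹ = w) {β : MulAut R}
    (hβ : β ∈ F.autGroup R) {k : ℕ} (hk : β ^ p ^ k = 1) (e1 : ex R β w = w) (e2 : ex R β v = v * w) : w = 1 := by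
  haveI := finite_mulAut hR.1
  have hz : ∀ (γ : MulAut R), ex R γ w = w → ∀ n : ℤ, ex R γ (w ^ n) = w ^ n := fun γ h n => by
    rw [(hiso_ex γ).hom.map_zpow hw, h]
  let D : Subgroup (MulAut R) :=
    { carrier := {γ | γ ∈ F.autGroup R ∧ ex R γ w = w ∧ ∃ n : ℤ, ex R γ v = v * w ^ n}
      mul_mem' := by
        rintro a b ⟨ha, ha', m, hm⟩ ⟨hb, hb', n, hn⟩
        refine ⟨Subgroup.mul_mem _ ha hb, by rw [ex_mul_apply, hb', ha'], m + n, ?_⟩
        rw [ex_mul_apply, hn, (hiso_ex a).hom.map_mul hv (R.zpow_mem hw n), hm, hz a ha', zpow_add, mul_assoc]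
      one_mem' := ⟨Subgroup.one_mem _, by simp, 0, by simp⟩
      inv_mem' := by
        rintro a ⟨ha, ha', m, hm⟩
        refine ⟨Subgroup.inv_mem _ ha, by rw [ex_inv_apply, Perm.inv_eq_iff_eq, ha'], -m, ?_⟩
        rw [ex_inv_apply, Perm.inv_eq_iff_eq, (hiso_ex a).hom.map_mul hv (R.zpow_mem hw _), hm, hz a ha', mul_assoc,
          ← zpow_add, add_neg_cancel, zpow_zero, mul_one] }
  have hT := sat_syl hS hF hR
  have hTD : autInducedBy S R ≤ D := fun γ hγ => by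
    obtain ⟨s, hs, e⟩ := mem_autInducedBy.1 hγ
    exact ⟨hT.le hγ, by rw [e w hw, h2 s hs], 0, by rw [e v hv, h1 s hs]; simp⟩
  have hT' : IsSyl p (autInducedBy S R) D := ⟨hTD, hT.pg, fun Q a b c => hT.max Q a b fun x hx => (c hx).1⟩
  have hβD : β ∈ D := ⟨hβ, e1, 1, by rw [e2, zpow_one]⟩
  have hp : IsPGroup p (Subgroup.zpowers β) := by
    rintro ⟨_, n, rfl⟩
    refine ⟨k, Subtype.ext ?_⟩
    change (β ^ n) ^ p ^ k = 1
    rw [← zpow_natCast, ← zpow_mul, mul_comm, zpow_mul, zpow_natCast, hk, one_zpow]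
  obtain ⟨l, hl, hc⟩ := syl_exists_conj hT' ((Subgroup.zpowers_le).2 hβD) hp
  obtain ⟨s, hs, e⟩ := mem_autInducedBy.1 (hc β (Subgroup.mem_zpowers β))
  have e3 := e v hv
  obtain ⟨-, -, n, hn⟩ := D.inv_mem hl
  rw [h1 s hs, ex_mul_apply, ex_mul_apply, hn, (hiso_ex β).hom.map_mul hv (R.zpow_mem hw n), e2, hz β e1,
    ← Perm.eq_inv_iff_eq, ← ex_inv_apply, hn] at e3
  simpa using e3

theorem le_of_inv (hS : IsPGroup p S) (h : Semi S) {R : Subgroup Ω} (hC : F.IsCentric R) (hR : F.IsRadical p R)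
    (hi : ∀ α ∈ F.autGroup R, ∀ x ∈ R, x ∈ centralizerIn S S → ex R α x ∈ centralizerIn S S) : S ≤ R := by
  refine le_of_chain hS hC hR le_rfl (hR.1.trans Subgroup.le_normalizer)
    (fun i => if i = 0 then ⊥ else if i = 1 then centralizerIn S S else ⊤) 2 (fun i α hα x hx => ?_) (by simp)
    (fun α _ _ x _ hx => ?_) fun s hs i hi' x hx => ?_
  · by_cases h0 : i = 0
    · simp only [h0, if_true, Subgroup.mem_bot]
      rintro rfl
      exact (hiso_ex α).hom.map_one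
    · by_cases h1 : i = 1
      · simpa [h1] using hi α hα x hx
      · simp [h0, h1]
  · simp only [if_true, Subgroup.mem_bot] at hx
    rw [hx]; exact (hiso_ex α).hom.map_one
  · interval_cases i
    · intro hx'
      simp only [if_true, Subgroup.mem_bot]
      have : x ∈ centralizerIn S S := by simpa using hx'
      rw [this.2 s hs.1]; simp
    · intro _
      simpa using h.c2 x (hR.1 hx) s hs.1

theorem constrained (hS : IsPGroup p S) (hF : F.IsSaturated p) (h : Semi S) (h0 : F.core ≠ ⊥) :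
    F.IsConstrained p := by
  by_cases hE : ∃ R, F.IsEssential p R
  swap
  · refine ⟨hF, S, normal_of_alperin hS hF fun R hR => ?_,
      (normal_centric_iff (wc_of_sc (sc_top F))).2 centralizerIn_le⟩
    obtain rfl := hR.resolve_right fun e => hE ⟨R, e⟩
    exact ⟨le_rfl, fun a ha x hx => ha.hiso.map_mem hx⟩
  obtain ⟨R, hE⟩ := hE
  obtain ⟨hC, hR, hN⟩ := cr_of_alperin hS hF (Or.inr hE)
  have hlt := essential_lt hS hF hE
  haveI := finite_mulAut hR.1
  haveI : Finite R := Finite.of_injective _ (Subgroup.inclusion_injective hR.1)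
  set Z := centralizerIn S S with hZ
  have hZR : Z ≤ R := fun z hz => centric_self hC ⟨hz.1, fun y hy => hz.2 y (hR.1 hy)⟩
  obtain ⟨α, hα, x, hx, hx1, hx2⟩ : ∃ α ∈ F.autGroup R, ∃ x ∈ R, x ∈ Z ∧ ex R α x ∉ Z := by
    by_contra! hc
    exact hlt.not_ge (le_of_inv hS h hC hR hc)
  have hi := hiso_ex α
  -- `R` is abelian
  have hab : ∀ a ∈ R, ∀ b ∈ R, a * b = b * a := fun a ha b hb => by
    have key : ∀ a ∈ R, a * ex R α x = ex R α x * a := fun a ha => by
      obtain ⟨c, hc, rfl⟩ := hi.surj ha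
      rw [← hi.hom.map_mul hc hx, ← hi.hom.map_mul hx hc, hx1.2 c (hR.1 hc)]
    exact h.ab _ (hR.1 (hi.map_mem hx)) hx2 a (hR.1 ha) b (hR.1 hb) (key a ha) (key b hb)
  have hnorm : S ≤ Subgroup.normalizer (R : Set Ω) := fun s hs => by
    refine Subgroup.mem_normalizer_fintype fun y hy => ?_
    have := R.mul_mem hy (hZR (h.c2 y (hR.1 hy) s hs))
    simpa using this
  -- trivial intersection
  have hti : ∀ w ∈ Z, ex R α w ∈ Z → w = 1 := fun w hw hw' => by
    obtain ⟨s, hs, e⟩ := h.on _ (hR.1 (hi.map_mem hx)) hx2 _ hw'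
    obtain ⟨k, hk⟩ := exists_pow_card hS
    refine ti hS hF hN hx (hZR hw) (fun s hs => by rw [hx1.2 s hs]; simp) (fun s hs => by rw [hw.2 s hs]; simp)
      (β := α⁻¹ * res R (cj s) * α) (Subgroup.mul_mem _ (Subgroup.mul_mem _ (Subgroup.inv_mem _ hα)
        (autInducedBy_le_autGroup F hR.1 le_rfl (res_cj_mem hs (hnorm hs)))) hα) (k := k) ?_ ?_ ?_
    · have := conj_pow (a := α⁻¹) (b := res R (cj s)) (i := p ^ k)
      rw [inv_inv] at this
      rw [this, ← res_cj_pow (hnorm hs), hk s hs, map_one, res_one]; simp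
    · rw [ex_mul_apply, ex_mul_apply, ex_res_cj (hnorm hs) (hi.map_mem (hZR hw)), hw'.2 s hs, ex_inv_apply]; simp
    · rw [ex_mul_apply, ex_mul_apply, ex_res_cj (hnorm hs) (hi.map_mem hx), e, ← hi.hom.map_mul hx (hZR hw),
        ex_inv_apply]; simp
  have hQ := normal_core F
  set Q := F.core
  have hQR : Q ≤ R := normal_le_of_radical hS hQ hC hR
  have hQi : ∀ y ∈ Q, ex R α y ∈ Q := fun y hy => ((normal_iff_alperin hS hF).1 hQ R (Or.inr hE)).2 _ (iso_ex hR.1 hα) y hy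
  obtain ⟨v, hv, hv'⟩ : ∃ v ∈ Q, v ∉ Z := by
    by_contra! hc
    exact h0 (eq_bot_iff.2 fun y hy => hti y (hc y hy) (hc _ (hQi y hy)))
  have hZQ : Z ≤ Q := fun z hz => by
    obtain ⟨s, hs, e⟩ := h.on v (hQ.1 hv) hv' z hz
    have := Q.mul_mem (Q.inv_mem hv) (conj_mem_of_normalizer (normal_le_normalizer hQ hs) hv)
    rwa [e, inv_mul_cancel_left] at this
  obtain ⟨s, hs, hs'⟩ := SetLike.exists_of_lt hlt
  have hcs : ∀ y ∈ R, s * y * s⁻¹ = y → y ∈ Z := fun y hy e => by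
    by_contra hy'
    refine hs' (centric_self hC ⟨hs, fun b hb => ?_⟩)
    exact (h.ab y (hR.1 hy) hy' s hs b (hR.1 hb) (by rw [← mul_inv_eq_iff_eq_mul, e]) (hab b hb y hy)).symm
  haveI : Finite Z := Finite.of_injective _ (Subgroup.inclusion_injective hZR)
  have hRQ : R ≤ Q := fun r hr => by
    let g : Z → Z := fun z => ⟨(ex R α z)⁻¹ * (s * ex R α z * s⁻¹), h.c2 _ (hR.1 (hi.map_mem (hZR z.2))) s hs⟩
    have cm : ∀ a ∈ R, ∀ b ∈ R, a⁻¹ * (s * a * s⁻¹) = b⁻¹ * (s * b * s⁻¹) → b⁻¹ * a ∈ Z := fun a ha b hb e => by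
      refine hcs _ (R.mul_mem (R.inv_mem hb) ha) ?_
      have h1 := conj_mem_of_normalizer (hnorm hs) hb
      have h2 : s * a * s⁻¹ = a * (b⁻¹ * (s * b * s⁻¹)) := by rw [← e]; simp
      calc s * (b⁻¹ * a) * s⁻¹ = (s * b * s⁻¹)⁻¹ * (s * a * s⁻¹) := by group
        _ = (s * b * s⁻¹)⁻¹ * ((a * b⁻¹) * (s * b * s⁻¹)) := by rw [h2, mul_assoc a]
        _ = b⁻¹ * a := by
          rw [hab _ (R.mul_mem ha (R.inv_mem hb)) _ h1, inv_mul_cancel_left, hab a ha _ (R.inv_mem hb)]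
    have hg : Function.Injective g := fun a b e => by
      have h1 := cm _ (hi.map_mem (hZR a.2)) _ (hi.map_mem (hZR b.2)) (congrArg Subtype.val e)
      rw [← hi.hom.map_inv_mul (hZR b.2) (hZR a.2)] at h1
      have := hti _ (Z.mul_mem (Z.inv_mem b.2) a.2) h1
      exact Subtype.ext (inv_mul_eq_one.1 this).symm
    obtain ⟨z, hz⟩ := Finite.injective_iff_surjective.1 hg ⟨_, h.c2 r (hR.1 hr) s hs⟩
    have h1 := cm r hr _ (hi.map_mem (hZR z.2)) (congrArg Subtype.val hz).symm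
    have := Q.mul_mem (hQi _ (hZQ z.2)) (hZQ h1)
    simpa using this
  exact (constrained_iff hS hF).2 fun y hy => hRQ (centric_self hC ⟨hy.1, fun b hb => hy.2 b (hRQ hb)⟩)

theorem Semi.of_equiv {G : Type*} [Group G] {T : Subgroup G} (h : Semi T) (e : S ≃* T) : Semi S := by
  have hz : ∀ x : S, (x : Ω) ∈ centralizerIn S S ↔ (e x : G) ∈ centralizerIn T T := fun x => by
    constructor
    · intro hx
      refine ⟨(e x).2, fun y hy => ?_⟩
      obtain ⟨y', hy'⟩ := e.surjective ⟨y, hy⟩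
      have : y' * x = x * y' := Subtype.ext (hx.2 y' y'.2)
      have := congrArg (fun a => (e a : G)) this
      simpa [hy'] using this
    · intro hx
      refine ⟨x.2, fun y hy => ?_⟩
      have : e (⟨y, hy⟩ * x) = e (x * ⟨y, hy⟩) := by
        rw [map_mul, map_mul]; exact Subtype.ext (hx.2 _ (e _).2)
      exact congrArg Subtype.val (e.injective this)
  have hc : ∀ a b : S, (a : Ω) * b = b * a ↔ (e a : G) * e b = e b * e a := fun a b => by
    rw [← Subgroup.coe_mul, ← Subgroup.coe_mul, ← Subgroup.coe_mul, ← Subgroup.coe_mul, ← map_mul, ← map_mul,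
      Subtype.coe_inj, Subtype.coe_inj, e.injective.eq_iff]
  refine ⟨fun x hx s hs => ?_, fun x hx hx' a ha b hb h1 h2 => ?_, fun x hx hx' z hz' => ?_⟩
  · have := (hz ((⟨x, hx⟩ : S)⁻¹ * (⟨s, hs⟩ * ⟨x, hx⟩ * ⟨s, hs⟩⁻¹))).2
      (by rw [map_mul, map_mul, map_mul, map_inv, map_inv]; exact h.c2 _ (e ⟨x, hx⟩).2 _ (e ⟨s, hs⟩).2)
    exact this
  · exact (hc ⟨a, ha⟩ ⟨b, hb⟩).2 (h.ab _ (e ⟨x, hx⟩).2 (fun k => hx' ((hz ⟨x, hx⟩).2 k)) _ (e _).2 _ (e _).2
      ((hc ⟨a, ha⟩ ⟨x, hx⟩).1 h1) ((hc ⟨b, hb⟩ ⟨x, hx⟩).1 h2))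
  · obtain ⟨s, hs, k⟩ := h.on _ (e ⟨x, hx⟩).2 (fun k => hx' ((hz ⟨x, hx⟩).2 k)) _ ((hz ⟨z, hz'.1⟩).1 hz')
    obtain ⟨s', hs'⟩ := e.surjective ⟨s, hs⟩
    refine ⟨s', s'.2, ?_⟩
    have : e (s' * ⟨x, hx⟩ * s'⁻¹) = e (⟨x, hx⟩ * ⟨z, hz'.1⟩) := by
      rw [map_mul, map_mul, map_inv, hs', map_mul]; exact Subtype.ext k
    exact congrArg Subtype.val (e.injective this)

end Fus

section SL3
open Matrix
variable {K : Type*} [Field K]

/-- a unitriangular matrix -/
def um (a b c : K) : SpecialLinearGroup (Fin 3) K := ⟨!![1, a, c; 0, 1, b; 0, 0, 1], by simp [det_fin_three]⟩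

theorem um_mul (a b c a' b' c' : K) : um a b c * um a' b' c' = um (a + a') (b + b') (c + c' + a * b') := by
  apply Subtype.ext
  change (!![1, a, c; 0, 1, b; 0, 0, 1] : Matrix (Fin 3) (Fin 3) K) * !![1, a', c'; 0, 1, b'; 0, 0, 1] =
    !![1, a + a', c + c' + a * b'; 0, 1, b + b'; 0, 0, 1]
  ext i j
  fin_cases i <;> fin_cases j <;> simp [mul_apply, Fin.sum_univ_three] <;> ring

theorem um_zero : um (0 : K) 0 0 = 1 := by
  apply Subtype.ext
  ext i j
  fin_cases i <;> fin_cases j <;> simp [um]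

theorem um_inv (a b c : K) : (um a b c)⁻¹ = um (-a) (-b) (a * b - c) := by
  rw [inv_eq_iff_mul_eq_one, um_mul, ← um_zero]; congr 1 <;> ring

theorem um_inj {a b c a' b' c' : K} : um a b c = um a' b' c' ↔ a = a' ∧ b = b' ∧ c = c' := by
  constructor
  · intro h
    have h1 := congrArg (fun g => g.1 0 1) h
    have h2 := congrArg (fun g => g.1 1 2) h
    have h3 := congrArg (fun g => g.1 0 2) h
    exact ⟨by simpa [um] using h1, by simpa [um] using h2, by simpa [um] using h3⟩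
  · rintro ⟨rfl, rfl, rfl⟩; rfl

/-- the unitriangular group -/
def U3 (K : Type*) [Field K] : Subgroup (SpecialLinearGroup (Fin 3) K) where
  carrier := {g | ∃ a b c, g = um a b c}
  mul_mem' := by rintro _ _ ⟨a, b, c, rfl⟩ ⟨a', b', c', rfl⟩; exact ⟨_, _, _, um_mul ..⟩
  one_mem' := ⟨0, 0, 0, um_zero.symm⟩
  inv_mem' := by rintro _ ⟨a, b, c, rfl⟩; exact ⟨_, _, _, um_inv ..⟩

theorem um_mem (a b c : K) : um a b c ∈ U3 K := ⟨a, b, c, rfl⟩

theorem um_cen {a b c : K} : um a b c ∈ centralizerIn (U3 K) (U3 K) ↔ a = 0 ∧ b = 0 := by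
  constructor
  · intro h
    have h1 := h.2 _ (um_mem 0 1 0)
    have h2 := h.2 _ (um_mem 1 0 0)
    rw [um_mul, um_mul, um_inj] at h1 h2
    exact ⟨by linear_combination -h1.2.2, by linear_combination h2.2.2⟩
  · rintro ⟨rfl, rfl⟩
    refine ⟨um_mem .., ?_⟩
    rintro _ ⟨a', b', c', rfl⟩
    rw [um_mul, um_mul]; congr 1 <;> ring

theorem semi_U3 : Semi (U3 K) := by
  refine ⟨?_, ?_, ?_⟩
  · rintro _ ⟨a, b, c, rfl⟩ _ ⟨a', b', c', rfl⟩
    simp only [um_inv, um_mul, um_cen]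
    constructor <;> ring
  · rintro _ ⟨a, b, c, rfl⟩ h _ ⟨a', b', c', rfl⟩ _ ⟨a'', b'', c'', rfl⟩ h1 h2
    simp only [um_mul, um_cen, um_inj] at *
    refine ⟨by ring, by ring, ?_⟩
    have e1 : a' * b = a * b' := by linear_combination h1.2.2
    have e2 : a'' * b = a * b'' := by linear_combination h2.2.2
    have : a' * b'' = a'' * b' := by
      by_cases ha : a = 0
      · have hb : b ≠ 0 := fun e => h ⟨ha, e⟩
        apply mul_left_cancel₀ hb
        linear_combination b'' * e1 - b' * e2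
      · apply mul_left_cancel₀ ha
        linear_combination a'' * e1 - a' * e2
    linear_combination this
  · rintro _ ⟨a, b, c, rfl⟩ h z hz
    obtain ⟨a', b', c', rfl⟩ := hz.1
    obtain ⟨rfl, rfl⟩ := um_cen.1 hz
    rw [um_cen] at h
    by_cases ha : a = 0
    · have hb : b ≠ 0 := fun e => h ⟨ha, e⟩
      refine ⟨um (c' / b) 0 0, um_mem .., ?_⟩
      simp only [um_inv, um_mul, um_inj]
      refine ⟨by ring, by ring, by field_simp; ring⟩
    · refine ⟨um 0 (-c' / a) 0, um_mem .., ?_⟩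
      simp only [um_inv, um_mul, um_inj]
      refine ⟨by ring, by ring, by field_simp; ring⟩

variable [Fintype K]

theorem card_U3 : Nat.card (U3 K) = Fintype.card K ^ 3 := by
  have : Function.Bijective (fun x : K × K × K => (⟨um x.1 x.2.1 x.2.2, um_mem ..⟩ : U3 K)) := by
    constructor
    · rintro ⟨a, b, c⟩ ⟨a', b', c'⟩ h
      obtain ⟨rfl, rfl, rfl⟩ := um_inj.1 (congrArg Subtype.val h)
      rfl
    · rintro ⟨_, a, b, c, rfl⟩
      exact ⟨⟨a, b, c⟩, rfl⟩
  rw [← Nat.card_congr (Equiv.ofBijective _ this)]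
  simp [pow_succ, mul_assoc]

theorem card_SL3 : Nat.card (SpecialLinearGroup (Fin 3) K) =
    Fintype.card K ^ 3 * ((Fintype.card K ^ 3 - 1) * (Fintype.card K ^ 2 - 1)) := by
  have h1 : 0 < Fintype.card K - 1 := Nat.sub_pos_of_lt Fintype.one_lt_card
  apply Nat.eq_of_mul_eq_mul_left h1
  rw [H09.card_SL_mul, Matrix.card_GL_field]
  simp only [Fin.prod_univ_three, Fin.val_zero, Fin.val_one, Fin.val_two, pow_zero, pow_one]
  generalize Fintype.card K = q at *
  have e1 : q ^ 3 - q = (q ^ 2 - 1) * q := by rw [Nat.sub_mul, one_mul, ← pow_succ]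
  have e2 : q ^ 3 - q ^ 2 = (q - 1) * q ^ 2 := by rw [Nat.sub_mul, one_mul, ← pow_succ']
  rw [e1, e2]; ring

theorem semi_SL3 {p : ℕ} [Fact p.Prime] [CharP K p] (T : Sylow p (SpecialLinearGroup (Fin 3) K)) :
    Semi (T : Subgroup (SpecialLinearGroup (Fin 3) K)) := by
  obtain ⟨n, -, hn⟩ := FiniteField.card K p
  have hp : IsPGroup p (U3 K) := IsPGroup.of_card (n := n * 3) (by rw [card_U3, hn, pow_mul])
  have hq : 0 < Fintype.card K ^ 3 := pow_pos Fintype.card_pos _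
  have hi : (U3 K).index = (Fintype.card K ^ 3 - 1) * (Fintype.card K ^ 2 - 1) := by
    apply Nat.eq_of_mul_eq_mul_left hq
    rw [← card_SL3, ← card_U3, Subgroup.card_mul_index]
  have hd : ∀ k, k ≠ 0 → ¬ p ∣ Fintype.card K ^ k - 1 := fun k hk h => by
    have h1 : p ∣ Fintype.card K ^ k := by rw [hn, ← pow_mul]; exact dvd_pow_self _ (by positivity)
    have h2 := Nat.dvd_sub h1 h
    rw [Nat.sub_sub_self (Nat.one_le_pow _ _ Fintype.card_pos)] at h2
    exact (Fact.out : p.Prime).not_dvd_one h2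
  have hn' : ¬ p ∣ (U3 K).index := by
    rw [hi, (Fact.out : p.Prime).dvd_mul]
    rintro (h | h)
    exacts [hd 3 (by simp) h, hd 2 (by simp) h]
  exact semi_U3.of_equiv (Sylow.equiv T (hp.toSylow hn'))

end SL3

end H03.FX
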