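import Mathlib
import Cfsg.Agent.BG.Quo3
import Cfsg.Agent.H26.YL
import Cfsg.Agent.H12.Sz6
import Cfsg.Agent.H09.SL2Syl
import Cfsg.Agent.H01.SL2Act

/-! The groups `L ∈ 𝔏_G(Y)` of Meierfrankenfeld–Stellmacher–Stroth: action on `O_p(L)/C_Y(L)`. -/

namespace H03
open Cfsg BG Subgroup
open scoped commutatorElement MatrixGroups

section good
variable {H H' : Type*} [Group H] [Group H'] {p : ℕ}

/-- What is used about `L/O_p(L)` and the image `U` of `Y`. -/
structure Good (p : ℕ) (U : Subgroup H) : Prop where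
  ti : ∀ g, ∀ u ∈ U, u ≠ 1 → u ∈ N_(cj g U) → cj g U = U
  fpf : ∀ h : H, (orderOf h).Prime → orderOf h ≠ p → ∃ g₁ g₂, cj g₁ U ≠ cj g₂ U ∧ ∃ u₁ ∈ cj g₁ U, ∃ u₂ ∈ cj g₂ U,
    (u₁ ≠ 1 ∧ u₂ ≠ 1 ∧ u₁ * u₂ = h) ∨ (p ≠ 2 ∧ (u₁ * u₂ * u₁) ^ 2 = h ∧ cj (u₁ * u₂ * u₁) (cj g₁ U) = cj g₂ U)
  uniq : ∀ V : Subgroup H, V ≠ ⊥ → IsElementaryAbelian p V → V ≤ N_(U) → N_(U) ≤ N_(V) → V = U

theorem map_cj (f : H →* H') (g : H) (U : Subgroup H) : (cj g U).map f = cj (f g) (U.map f) := by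
  simp only [cj_eq_map, map_map]; congr 1; ext x; simp

theorem Good.comap (e : H ≃* H') {U : Subgroup H} (h : Good p (U.map (e : H →* H'))) : Good p U := by
  have inj : Function.Injective (Subgroup.map (e : H →* H')) := map_injective e.injective
  have nm : ∀ X : Subgroup H, N_(X.map (e : H →* H')) = N_(X).map (e : H →* H') := fun X =>
    (map_equiv_normalizer_eq X e).symm
  have mm : ∀ (X : Subgroup H) x, (e : H →* H') x ∈ X.map (e : H →* H') ↔ x ∈ X := fun X x =>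
    mem_map_iff_mem e.injective
  refine ⟨fun g u hu u1 hn => inj ?_, fun x h1 h2 => ?_, fun V h1 h2 h3 h4 => inj ?_⟩
  · rw [map_cj]
    exact h.ti _ _ ((mm _ _).2 hu) (by simpa using u1) (by rw [← map_cj, nm, mm]; exact hn)
  · obtain ⟨g₁, g₂, h3, u₁, h4, u₂, h5, h6⟩ := h.fpf (e x) (by rwa [e.orderOf_eq]) (by rwa [e.orderOf_eq])
    obtain ⟨g₁, rfl⟩ := e.surjective g₁
    obtain ⟨g₂, rfl⟩ := e.surjective g₂
    obtain ⟨u₁, rfl⟩ := e.surjective u₁
    obtain ⟨u₂, rfl⟩ := e.surjective u₂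
    have mc : ∀ g X, cj (e g) (Subgroup.map (e : H →* H') X) = (cj g X).map (e : H →* H') := fun g X =>
      (map_cj (e : H →* H') g X).symm
    simp only [← map_mul, ← map_pow, mc] at h3 h4 h5 h6
    replace h4 := (mm _ _).1 h4
    replace h5 := (mm _ _).1 h5
    refine ⟨g₁, g₂, fun e1 => h3 (by rw [e1]), u₁, h4, u₂, h5, h6.imp (fun ⟨a, b, c⟩ =>
      ⟨by simpa using a, by simpa using b, e.injective c⟩) fun ⟨a, b, c⟩ => ⟨a, e.injective b, inj c⟩⟩
  · refine h.uniq _ (fun e1 => h1 (inj (by rw [e1, Subgroup.map_bot]))) (H04.IsElementaryAbelian.map h2 _) ?_ ?_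
    · rw [nm]; exact map_mono h3
    · rw [nm, nm]; exact map_mono h4

theorem Good.of_cj {U : Subgroup H} (g : H) (h : Good p (cj g U)) : Good p U :=
  Good.comap (MulAut.conj g) h

theorem fpf_two {U : Subgroup H} (hU : ∀ u ∈ U, u ^ 2 = 1) (hinv : ∀ t : H, t ^ 2 = 1 → ∃ g, t ∈ cj g U)
    {h t : H} (h1 : (orderOf h).Prime) (h2 : orderOf h ≠ 2) (ht : t ^ 2 = 1) (hth : t * h * t⁻¹ = h⁻¹) :
    ∃ g₁ g₂, cj g₁ U ≠ cj g₂ U ∧ ∃ u₁ ∈ cj g₁ U, ∃ u₂ ∈ cj g₂ U,
    (u₁ ≠ 1 ∧ u₂ ≠ 1 ∧ u₁ * u₂ = h) ∨ (2 ≠ 2 ∧ (u₁ * u₂ * u₁) ^ 2 = h ∧ cj (u₁ * u₂ * u₁) (cj g₁ U) = cj g₂ U) := by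
  have h3 : h ^ 2 ≠ 1 := fun e => h2 ((Nat.prime_dvd_prime_iff_eq h1 Nat.prime_two).1 (orderOf_dvd_of_pow_eq_one e))
  have ti : t⁻¹ = t := by rw [inv_eq_iff_mul_eq_one, ← pow_two, ht]
  have h4 : (t * h) ^ 2 = 1 := by
    rw [pow_two, show t * h * (t * h) = t * h * t⁻¹ * h by rw [ti]; group, hth]; group
  have h5 : t * (t * h) = h := by rw [← mul_assoc, ← pow_two, ht, one_mul]
  obtain ⟨g₁, e1⟩ := hinv t ht
  obtain ⟨g₂, e2⟩ := hinv _ h4
  refine ⟨g₁, g₂, fun e => h3 ?_, t, e1, _, e2, Or.inl ⟨?_, fun e => h3 ?_, h5⟩⟩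
  · have := hU _ (mem_cj.1 (mul_mem e1 (e ▸ e2)))
    rw [h5, show g₁⁻¹ * h * g₁ = g₁⁻¹ * h * g₁⁻¹⁻¹ by simp, conj_pow] at this
    exact conj_eq_one_iff.1 this
  · rintro rfl
    apply h3; rw [pow_two]; nth_rewrite 1 [← inv_inv h, ← hth]; simp
  · rw [e, mul_one] at h5; rw [← h5, ht]

theorem good_card_two [Finite H] {U : Subgroup H} (hU : Nat.card U = 2) {g : H} (hg : U ⊔ cj g U = ⊤)
    (hO : ∀ K : Subgroup H, K.Normal → IsPGroup 2 K → K = ⊥) : Good 2 U := by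
  have pr : (Nat.card U).Prime := hU ▸ Nat.prime_two
  have sq : ∀ u ∈ U, u ^ 2 = 1 := fun u hu => hU ▸ pow_card_eq_one hu
  obtain ⟨t, ht, t1⟩ := exists_mem_ne_one (ne_bot_of_prime pr)
  have hz := zpowers_eq_of_prime pr ht t1
  set s := g * t * g⁻¹ with hs
  have t2 : t * t = 1 := by rw [← pow_two, sq t ht]
  have s2 : s * s = 1 := by rw [← pow_two, hs, conj_pow, sq t ht]; simp
  have ti : t⁻¹ = t := inv_eq_of_mul_eq_one_right t2
  have si : s⁻¹ = s := inv_eq_of_mul_eq_one_right s2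
  have hinv : ∀ x ∈ zpowers (t * s), t * x * t⁻¹ = x⁻¹ := by
    rintro _ ⟨i, rfl⟩
    have : t * (t * s) * t⁻¹ = (t * s)⁻¹ := by rw [← mul_assoc, t2, mul_inv_rev, si, one_mul]
    simp only; rw [← conj_zpow, this, inv_zpow]
  have htn : zpowers t ≤ N_(zpowers (t * s)) := zpowers_le.2 (mem_norm_of_cj_le fun x hx => by
    obtain ⟨y, hy, rfl⟩ := mem_cj'.1 hx
    rw [hinv y hy]; exact inv_mem hy)
  have hK : zpowers (t * s) ⊔ zpowers t = ⊤ := by
    rw [eq_top_iff, ← hg, ← hz, cj_zpowers]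
    refine sup_le le_sup_right (zpowers_le.2 ?_)
    have : g * t * g⁻¹ = t⁻¹ * (t * s) := by rw [hs]; group
    rw [this]; exact mul_mem (inv_mem (mem_sup_right (mem_zpowers t))) (mem_sup_left (mem_zpowers _))
  have hn : ⊤ ≤ N_(zpowers (t * s)) := hK ▸ sup_le_norm_left htn
  have hodd : ¬ 2 ∣ Nat.card (zpowers (t * s)) := fun e => by
    obtain ⟨X, h1, h2⟩ := exists_card_eq_prime Nat.prime_two e
    have := hO X (normalizer_eq_top_iff.1 (eq_top_iff.2 (hn.trans (norm_le_norm_of_cyclic (cyclic_zpowers _) h1))))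
      (pg_of_card_eq h2)
    rw [this] at h2; simp at h2
  have hUp : IsPGroup 2 U := pg_of_card_eq hU
  have hS : IsSylowIn 2 U ⊤ := by
    have := hall_sup_right ((isPi_compl Nat.prime_two).2 hodd) ((isPi_singleton Nat.prime_two).2 hUp) (hz ▸ htn)
    rwa [← hz, hK, hz] at this
  have hH : IsPiHallOf {2}ᶜ (zpowers (t * s)) ⊤ := by
    have := hall_sup_left ((isPi_compl Nat.prime_two).2 hodd)
      (by rw [compl_compl]; exact (isPi_singleton Nat.prime_two).2 hUp) (hz ▸ htn)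
    rwa [← hz, hK] at this
  refine ⟨fun k u hu u1 hn => ?_, fun h h1 h2 => fpf_two sq (fun x hx => ?_) h1 h2 (sq t ht) (hinv h ?_),
    fun V h1 h2 h3 _ => eq_of_prime pr (hS.le_of_norm_pg' Nat.prime_two h2.pg le_top h3) h1⟩
  · have := IsSylowIn.le_of_norm_pg' (hS.cj_of_mem (mem_top k)) Nat.prime_two hUp le_top
      (by rw [← zpowers_eq_of_prime pr hu u1]; exact zpowers_le.2 (by rwa [zpowers_eq_of_prime pr hu u1]))
    exact (eq_of_le_of_card_eq this (card_cj _ _).symm).symm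
  · obtain ⟨k, -, hk⟩ := sylow_subJ Nat.prime_two hS (elemAb_zpowers hx).pg le_top
    exact ⟨k, hk (mem_zpowers x)⟩
  · exact hH.elt_mem hn (mem_top h) fun r hr hd e => h2 (by
      rw [Set.mem_singleton_iff.1 e] at hd; exact ((Nat.prime_dvd_prime_iff_eq Nat.prime_two h1).1 hd).symm)

open H12.Sz in
theorem good_sz {F : Type*} [Field F] [Fintype F] {m : ℕ} [SzF F m] {U : Subgroup (G F m)}
    (hU : IsElementaryAbelian 2 U) (hc : Nat.card U = Fintype.card F) : Good 2 U := by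
  obtain ⟨g, hg⟩ := pgroup_conj hU.pg
  refine Good.of_cj g ?_
  have : cj g U = Z F m := eq_of_le_of_card_eq (fun x hx => mem_Z_of_sq (hg hx) ((hU.cj g).pow hx))
    (by rw [card_cj, hc, card_Z])
  rw [this]
  refine ⟨fun k u hu u1 hn => ?_, fun h h1 h2 => ?_, fun V h1 h2 h3 h4 => ?_⟩
  · rw [← cj_norm, normalizer_Z] at hn
    exact cj_of_mem_norm (normalizer_Z (F := F) ▸ mem_B.2 (fix_U (Z_le_U hu) u1 (mem_cj_B.1 hn)))
  · have x1 : h ≠ 1 := by rintro rfl; simp at h1; exact Nat.not_prime_one h1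
    have hA := oddPart_of_pow x1 (h1.odd_of_ne_two h2) (pow_orderOf_eq_one h)
    obtain ⟨n, hn, hc⟩ := hA.card_normalizer
    obtain ⟨t, ht, t2⟩ := exists_orderOf_eq_prime (H := N_(C_[h])) Nat.prime_two
      (by rw [hc]; rcases hn with rfl | rfl <;> omega)
    have t2' : t ^ 2 = 1 := by rw [← t2, pow_orderOf_eq_one]
    refine fpf_two (t := t) (fun u hu => sq_of_mem_Z hu) (fun x hx => ?_) h1 h2 t2' ?_
    · by_cases x1 : x = 1
      · exact ⟨1, by rw [x1]; exact one_mem _⟩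
      obtain ⟨k, hk⟩ := invol_conj x1 hx
      exact ⟨k⁻¹, mem_cj_inv.2 (hk ▸ uu_mem_Z 1)⟩
    · have hh := mem_cent1_self h
      have h3 := conj_mem_of_norm ht hh
      by_contra h4
      have h5 := hA.abCC.cent _ (mul_mem h3 hh) (fun e => h4 (eq_inv_of_mul_eq_one_left e))
      have h6 : t ∈ C_[h] := by
        rw [← h5, mem_cent1]
        have : t * t = 1 := by rw [← pow_two, t2']
        have ti : t⁻¹ = t := inv_eq_of_mul_eq_one_right this
        calc t * (t * h * t⁻¹ * h) = t * t * (h * (t * h * t⁻¹)) * t := by rw [this, ti]; simp [mul_assoc, this, ← mul_assoc t t]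
          _ = _ := by rw [this, one_mul, hA.abCC.comm hh h3]
      exact hA.odd.not_two_dvd_nat (t2 ▸ orderOf_dvd_card h6)
  · rw [normalizer_Z] at h3 h4
    have h5 : V ≤ Z F m := fun x hx => mem_Z_of_sq (mem_U_of_pow (h3 hx) (n := 1) (h2.pow hx)) (h2.pow hx)
    refine le_antisymm h5 ?_
    obtain ⟨v, hv, v1⟩ := exists_mem_ne_one h1
    intro z hz
    by_cases z1 : z = 1
    · exact z1 ▸ one_mem _
    obtain ⟨a, ha⟩ := invol_conj v1 (h2.pow hv)
    obtain ⟨b, hb⟩ := invol_conj z1 (sq_of_mem_Z hz)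
    have e : z = b⁻¹ * a * v * (b⁻¹ * a)⁻¹ := by
      rw [show b⁻¹ * a * v * (b⁻¹ * a)⁻¹ = b⁻¹ * (a * v * a⁻¹) * b by group, ha, ← hb]; group
    rw [e]
    exact conj_mem_of_norm (h4 (mem_B_of_conj (Z_le_U (h5 hv)) v1 (e ▸ U_le_B (Z_le_U hz)))) hv

open H09 H17 in
theorem good_sl2 {F : Type*} [Field F] [Fintype F] [hp : Fact p.Prime] {U : Subgroup SL(2, F)}
    (hU : IsPGroup p U) (hc : Nat.card U = Fintype.card F) : Good p U := by
  obtain ⟨n, hn⟩ := pg_card hp.out hU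
  have hchar : CharP F p := by
    obtain ⟨q, hq⟩ := CharP.exists F
    obtain ⟨k, h1, h2⟩ := FiniteField.card F q
    have : q = p := (Nat.prime_dvd_prime_iff_eq h1 hp.out).1 (h1.dvd_of_dvd_pow (by
      rw [← hn, hc, h2]; exact dvd_pow_self q k.ne_zero))
    exact this ▸ hq
  set S : Subgroup SL(2, F) := (sylS F p : Subgroup SL(2, F)) with hSdef
  have mS : ∀ a, a ∈ S ↔ ∃ t, a = up t := fun a =>
    ⟨fun h => ⟨_, eq_up h.2.1 h.1⟩, by rintro ⟨t, rfl⟩; exact ⟨rfl, rfl, rfl⟩⟩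
  have hS : IsSylowIn p S ⊤ := isSylowIn_top hp.out _
  have cS : Nat.card S = Fintype.card F := by
    rw [← Nat.card_eq_fintype_card]
    exact Nat.card_congr ⟨fun g => g.1 0 1, fun a => ⟨up a, (mS _).2 ⟨a, rfl⟩⟩,
      fun g => Subtype.ext (eq_up g.2.2.1 g.2.1).symm, fun _ => rfl⟩
  obtain ⟨g, -, hg⟩ := sylow_Jsub hp.out hS hU le_top
  refine Good.of_cj g ?_
  rw [eq_of_le_of_card_eq hg (by rw [card_cj, hc, cS])]
  have nS : ∀ b : SL(2, F), b 1 0 = 0 → b ∈ N_(S) := fun b hb => mem_norm_of_cj_le fun x hx => by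
    obtain ⟨y, hy, rfl⟩ := mem_cj'.1 hx
    obtain ⟨t, rfl⟩ := (mS y).1 hy
    exact (mS _).2 ⟨_, conj_up_of_upper hb t⟩
  have trS : ∀ k, ∀ x ∈ cj k S, tr x = 2 := fun k x hx => by
    obtain ⟨y, hy, rfl⟩ := mem_cj'.1 hx
    obtain ⟨t, rfl⟩ := (mS y).1 hy
    rw [tr_conj, tr]; simp [one_add_one_eq_two]
  refine ⟨fun k u hu u1 hn => ?_, fun h h1 h2 => ?_, fun V h1 h2 h3 h4 => ?_⟩
  · have := IsSylowIn.le_of_norm_pg' (hS.cj_of_mem (mem_top k)) hp.out
      (pg_le (hS.pg hp.out) (zpowers_le.2 hu)) le_top (zpowers_le.2 hn) (mem_zpowers u)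
    obtain ⟨y, hy, e⟩ := mem_cj'.1 this
    obtain ⟨t, rfl⟩ := (mS y).1 hy
    obtain ⟨s, rfl⟩ := (mS u).1 hu
    have h10 := conj_up_10 k t
    rw [← e, up_10, eq_comm, neg_eq_zero, mul_eq_zero] at h10
    rcases h10 with rfl | h10
    · rw [up_zero] at e; simp [e] at u1
    · exact cj_of_mem_norm (nS k (pow_eq_zero_iff two_ne_zero |>.1 h10))
  · have htr : tr h ≠ 2 := fun e =>
      h2 ((Nat.prime_dvd_prime_iff_eq h1 hp.out).1 (orderOf_dvd_of_pow_eq_one (pow_char_of_tr p e)))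
    by_cases hz : h ∈ center SL(2, F)
    · have h3 : h = -1 := (SL2.mem_center_iff'.1 hz).resolve_left (by
        rintro rfl; simp at h1; exact Nat.not_prime_one h1)
      subst h3
      have p2 : p ≠ 2 := by
        rintro rfl
        apply htr
        have : (2 : F) = 0 := CharP.cast_eq_zero F 2
        rw [SL2.neg_eq_self this, tr, one_00, one_11, one_add_one_eq_two]
      have e1 : up 1 * lo (-1) * up 1 = sl2 (0 : F) 1 (-1) 0 (by simp) := by simp [up, lo, sl2_mul]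
      have e2 : lo (-1) ∈ cj (sl2 (0 : F) 1 (-1) 0 (by simp)) S :=
        mem_cj'.2 ⟨up 1, (mS _).2 ⟨1, rfl⟩, by simp [up, lo, sl2_mul, sl2_inv]⟩
      refine ⟨1, _, fun e => ?_, up 1, by rw [cj_one]; exact (mS _).2 ⟨1, rfl⟩, _, e2, Or.inr ⟨p2, ?_, ?_⟩⟩
      · rw [← e, cj_one] at e2
        have := e2.2.1
        simp at this
      · rw [e1, pow_two]; exact SL2.mul_self_eq_neg_one_of_trace (by simp [sl2_00, sl2_11])
      · rw [e1, cj_one]
    · obtain ⟨k, hk⟩ : ∃ k : SL(2, F), (k⁻¹ * h * k) 1 0 ≠ 0 := by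
        by_contra e
        push Not at e
        have e1 := e 1
        have e2 := e (sl2 0 1 (-1) 0 (by simp))
        have e3 := e (lo 1)
        simp only [inv_one, one_mul, mul_one] at e1
        simp only [SL2.mul_apply, SL2.inv_10, SL2.inv_11, sl2_00, sl2_10, lo_00, lo_10, e1] at e2 e3
        refine hz (SL2.mem_center_iff_entries.2 ⟨by linear_combination -e2, e1, by linear_combination e2 - e3⟩)
      set c := (k⁻¹ * h * k) 1 0
      have t1 : tr (k⁻¹ * h * k) = tr h := by simpa using tr_conj k⁻¹ h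
      have t2 : tr (up ((2 - tr h) / c) * (k⁻¹ * h * k)) = 2 := by
        rw [← t1]
        simp only [tr, SL2.mul_apply (up _), up_00, up_01, up_10, up_11]
        field_simp; ring
      obtain ⟨l, α, hl⟩ := H01.exists_conj_up t2
      have m2 : k * (up ((2 - tr h) / c) * (k⁻¹ * h * k)) * k⁻¹ ∈ cj (k * l) S := by
        rw [← cj_cj, conj_mem_cj_iff, mem_cj, hl]; exact (mS _).2 ⟨_, rfl⟩
      have m1 : k * (up ((2 - tr h) / c))⁻¹ * k⁻¹ ∈ cj k S := conj_mem_cj k (inv_mem ((mS _).2 ⟨_, rfl⟩))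
      have e : k * (up ((2 - tr h) / c))⁻¹ * k⁻¹ * (k * (up ((2 - tr h) / c) * (k⁻¹ * h * k)) * k⁻¹) = h := by group
      refine ⟨k, k * l, fun e1 => htr (trS k h (e ▸ mul_mem m1 (e1 ▸ m2))), _, m1, _, m2, Or.inl ⟨?_, ?_, e⟩⟩
      · intro e1
        have : up ((2 - tr h) / c) = up 0 := by rw [up_zero]; simpa using e1
        have := up_injective this
        rw [div_eq_zero_iff, sub_eq_zero] at this
        exact this.elim (fun e => htr e.symm) hk
      · intro e1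
        have : up ((2 - tr h) / c) * (k⁻¹ * h * k) = 1 := by simpa using e1
        have := congrArg (fun x : SL(2, F) => x 1 0) this
        simp only [SL2.mul_apply (up _), up_10, up_11, one_10, zero_mul, one_mul, zero_add] at this
        exact hk this
  · have h5 : V ≤ S := hS.le_of_norm_pg' hp.out h2.pg le_top h3
    refine le_antisymm h5 fun x hx => ?_
    obtain ⟨v, hv, v1⟩ := exists_mem_ne_one h1
    obtain ⟨t, rfl⟩ := (mS v).1 (h5 hv)
    obtain ⟨s, rfl⟩ := (mS x).1 hx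
    have t0 : t ≠ 0 := by rintro rfl; exact v1 up_zero
    have sq : ∀ a : F, up (a ^ 2 * t) ∈ V := fun a => by
      by_cases a0 : a = 0
      · rw [a0]; simp only [ne_eq, OfNat.ofNat_ne_zero, not_false_eq_true, zero_pow, zero_mul, up_zero]; exact one_mem _
      · have := conj_mem_of_norm (h4 (nS (sl2 a 0 0 a⁻¹ (by simp [a0])) rfl)) hv
        rwa [conj_up_of_upper rfl] at this
    by_cases h2' : (2 : F) = 0
    · have : ringChar F = 2 := CharP.ringChar_of_prime_eq_zero Nat.prime_two h2'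
      obtain ⟨a, ha⟩ := FiniteField.isSquare_of_char_two this (s / t)
      have := sq a
      rwa [pow_two, ← ha, div_mul_cancel₀ _ t0] at this
    · have := mul_mem (sq ((s / t + 1) / 2)) (inv_mem (sq ((s / t - 1) / 2)))
      rw [up_inv, up_mul] at this
      convert this using 2
      field_simp; ring

end good

variable {G H : Type*} [Group G] [Finite G] [Group H] {p : ℕ}

/-- The hypotheses on `L ∈ 𝔏(Y)` with `L` the whole group. -/
structure FL (p : ℕ) (Y A : Subgroup G) (π : G →* H) : Prop where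
  elem : IsElementaryAbelian p Y
  pg : IsPGroup p A
  surj : Function.Surjective π
  ker : π.ker = A
  ncl : ∀ B : Subgroup G, B.Normal → Y ⊓ A ≤ B → A ≤ B
  norm : A ≤ N_(Y)
  gen : ∀ B : Subgroup G, B.Normal → Y ≤ B → B = ⊤
  ne : N_(Y) ≠ ⊤
  max : ∀ X : Subgroup G, Y ≤ X → X ≠ ⊤ → X ≤ N_(Y)

namespace FL
variable {Y A : Subgroup G} {π : G →* H} (h : FL p Y A π)
include h

omit [Finite G] in
theorem normal : A.Normal := h.ker ▸ inferInstance
omit [Finite G] in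
theorem nA (X : Subgroup G) : X ≤ N_(A) := by have := h.normal; exact le_normalizer_of_normal
omit [Finite G] in
theorem cjA (g : G) : BG.cj g A = A := cj_of_mem_norm (h.nA ⊤ (mem_top g))

omit [Finite G] in
theorem cj (g : G) : FL p (cj g Y) A π where
  elem := h.elem.cj g
  pg := h.pg
  surj := h.surj
  ker := h.ker
  ncl B hB e := by
    refine h.ncl B hB ?_
    rwa [← h.cjA g, ← cj_inf, ← cj_of_mem_norm (X := B) (g := g) (le_normalizer_of_normal (mem_top g)),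
      cj_le_cj_iff] at e
  norm := by rw [← h.cjA g, ← cj_norm]; exact cj_mono g h.norm
  gen B hB e := h.gen B hB (by
    rwa [← cj_of_mem_norm (X := B) (g := g) (le_normalizer_of_normal (mem_top g)), cj_le_cj_iff] at e)
  ne := by rw [← cj_norm]; simpa using h.ne
  max X h1 h2 := by
    rw [← cj_norm, le_cj_iff]
    exact h.max _ (by rwa [← cj_le_iff]) (by simpa using h2)

omit [Finite G] in
theorem not_le : ¬ Y ≤ A := fun e => h.ne (eq_top_iff.2 ((h.gen A h.normal e).ge.trans h.norm))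

omit [Finite G] in
theorem comap_norm : N_(Y.map π).comap π = N_(Y) := by
  have e : (Y.map π).comap π = Y ⊔ A := by rw [comap_map_eq, h.ker]
  rw [comap_normalizer_eq_of_surjective _ h.surj, e]
  refine le_antisymm (h.max _ (le_sup_left.trans (le_norm _)) fun e1 => h.ne (eq_top_iff.2 ?_))
    (norm_sup le_rfl (h.nA _))
  rw [← h.gen _ (normalizer_eq_top_iff.1 e1) le_sup_left]
  exact sup_le (le_norm _) h.norm

omit [Finite G] in
theorem cj_eq_iff' {a b : G} : BG.cj (π a) (Y.map π) = BG.cj (π b) (Y.map π) ↔ BG.cj a Y = BG.cj b Y := by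
  rw [cj_eq_cj_iff, cj_eq_cj_iff, ← h.comap_norm, mem_comap, map_mul, map_inv]

omit [Finite G] in
theorem exists_gen : ∃ g, Y ⊔ BG.cj g Y = ⊤ := by
  by_contra e
  push Not at e
  have : normalClosure (Y : Set G) ≤ N_(Y) := by
    refine (closure_le _).2 fun x hx => ?_
    obtain ⟨y, hy, hc⟩ := Group.mem_conjugatesOfSet_iff.1 hx
    obtain ⟨g, rfl⟩ := isConj_iff.1 hc
    exact h.max _ le_sup_left (e g) (mem_sup_right (conj_mem_cj g hy))
  exact h.ne (eq_top_iff.2 ((h.gen _ inferInstance le_normalClosure).ge.trans this))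

omit [Finite G] in
theorem gen1 (hG : Good p (Y.map π)) {a b y : G} (hab : BG.cj a Y ≠ BG.cj b Y) (hy : y ∈ BG.cj a Y) (hA : y ∉ A) :
    zpowers y ⊔ BG.cj b Y = ⊤ := by
  by_contra e
  have h1 := (h.cj b).max _ le_sup_right e (mem_sup_left (mem_zpowers y))
  rw [← (h.cj b).comap_norm, mem_comap, map_cj] at h1
  have := hG.ti ((π a)⁻¹ * π b) ((π a)⁻¹ * π y * π a) (by
    rw [← map_inv, ← map_mul, ← map_mul]; exact mem_map_of_mem π (mem_cj.1 hy))
    (fun e1 => hA (h.ker ▸ (MonoidHom.mem_ker.2 (by simpa using (conj_eq_one_iff.1 (by simpa using e1 :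
      (π a)⁻¹ * π y * (π a)⁻¹⁻¹ = 1))))))
    (by rw [← cj_cj, ← cj_norm, mem_cj_inv]; simpa [mul_assoc] using h1)
  rw [← cj_cj, cj_eq_iff, inv_inv] at this
  exact hab (h.cj_eq_iff'.1 this.symm)

omit [Finite G] in
theorem gen2 (hG : Good p (Y.map π)) {a b : G} (hab : BG.cj a Y ≠ BG.cj b Y) : BG.cj a Y ⊔ BG.cj b Y = ⊤ := by
  obtain ⟨y, hy, hA⟩ := SetLike.not_le_iff_exists.1 (h.cj a).not_le
  exact eq_top_iff.2 ((h.gen1 hG hab hy hA).ge.trans (sup_le_sup_right (zpowers_le.2 hy) _))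

omit [Finite G] h in
theorem cen_cj (a : G) : Y ⊓ center G ≤ BG.cj a Y := fun x hx =>
  mem_cj.2 (by rw [mem_center_iff.1 hx.2 a⁻¹]; simpa using hx.1)

omit [Finite G] in
theorem inf_le (hG : Good p (Y.map π)) {a b : G} (hab : BG.cj a Y ≠ BG.cj b Y) :
    BG.cj a Y ⊓ BG.cj b Y ≤ Y ⊓ center G := by
  intro x hx
  have h1 : x ∈ center G := by
    have : BG.cj a Y ⊔ BG.cj b Y ≤ C_[x] := sup_le ((abelian_iff.1 (h.cj a).elem.abelian).trans (cent_le_cent1 hx.1))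
      ((abelian_iff.1 (h.cj b).elem.abelian).trans (cent_le_cent1 hx.2))
    rw [h.gen2 hG hab] at this
    exact mem_center_iff.2 fun g => mem_cent1.1 (this (mem_top g))
  refine ⟨?_, h1⟩
  have := mem_cj.1 hx.1
  rw [mem_center_iff.1 h1 a⁻¹] at this
  simpa using this

omit [Finite G] in
theorem comm_A : ⁅A, Y⁆ ≤ Y ⊓ A := (comm_le_inf h.norm (h.nA Y)).trans (inf_comm A Y).le

omit [Finite G] in
theorem decomp (hG : Good p (Y.map π)) {a b x : G} (hab : BG.cj a Y ≠ BG.cj b Y) (hx : x ∈ A) :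
    ∃ u ∈ BG.cj a Y ⊓ A, ∃ v ∈ BG.cj b Y ⊓ A, u * v = x := by
  have n1 : ∀ c, A ≤ N_(BG.cj c Y ⊓ A) := fun c => norm_inf (h.cj c).norm (le_norm A)
  have hB : BG.cj a Y ⊓ A ⊔ BG.cj b Y ⊓ A ≤ A := sup_le inf_le_right inf_le_right
  have hn : (BG.cj a Y ⊓ A ⊔ BG.cj b Y ⊓ A).Normal := normalizer_eq_top_iff.1 (eq_top_iff.2 (by
    rw [← h.gen2 hG hab]
    exact sup_le (le_norm_of_comm_le ((comm_mono hB le_rfl).trans ((h.cj a).comm_A.trans le_sup_left)))
      (le_norm_of_comm_le ((comm_mono hB le_rfl).trans ((h.cj b).comm_A.trans le_sup_right)))))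
  exact (mem_sup_norm (inf_le_right.trans (n1 a))).1 ((h.cj a).ncl _ hn le_sup_left hx)

omit [Finite G] in
theorem exists_ne (a : G) : ∃ b, BG.cj a Y ≠ BG.cj b Y := by
  obtain ⟨g, -, hg⟩ := SetLike.not_le_iff_exists.1 (fun e => (h.cj a).ne (eq_top_iff.2 e))
  exact ⟨g * a, fun e => hg (cj_eq_self_iff.1 (by rw [cj_cj, ← e]))⟩

omit [Finite G] h in
/-- the elements acting trivially on `x` modulo `Y ∩ Z(G)` -/
def fixMod (Y : Subgroup G) (x : G) : Subgroup G where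
  carrier := {g | g * x * g⁻¹ * x⁻¹ ∈ Y ⊓ center G}
  one_mem' := by simp [one_mem]
  mul_mem' := fun {a b} ha hb => by
    have := (Y ⊓ center G).mul_mem hb ha
    have e : a * b * x * (a * b)⁻¹ * x⁻¹ = a * (b * x * b⁻¹ * x⁻¹) * x * a⁻¹ * x⁻¹ := by group
    rw [Set.mem_ofPred_eq, e, mem_center_iff.1 hb.2 a]
    simpa [mul_assoc] using this
  inv_mem' := fun {a} ha => by
    have := (Y ⊓ center G).inv_mem ha
    have e : a⁻¹ * x * a⁻¹⁻¹ * x⁻¹ = a⁻¹ * (a * x * a⁻¹ * x⁻¹)⁻¹ * a * (x * x⁻¹) := by group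
    rw [Set.mem_ofPred_eq, e, mem_center_iff.1 this.2 a⁻¹]
    simpa [mul_assoc] using this

omit [Finite G] h in
theorem mem_fixMod {x g : G} : g ∈ fixMod Y x ↔ g * x * g⁻¹ * x⁻¹ ∈ Y ⊓ center G := Iff.rfl

omit [Finite G] h in
theorem mem_fixMod_of_comm {x g : G} (e : g * x = x * g) : g ∈ fixMod Y x := by
  rw [mem_fixMod, e]; simp [one_mem]

omit [Finite G] in
theorem A_le_fix (hG : Good p (Y.map π)) {x : G} (hx : x ∈ A) : A ≤ fixMod Y x := by
  obtain ⟨b, hb⟩ := h.exists_ne 1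
  have key : ∀ c d, BG.cj c Y ≠ BG.cj d Y → ∀ u ∈ BG.cj c Y ⊓ A, A ≤ fixMod Y u := by
    intro c d hcd u hu g hg
    obtain ⟨v, hv, w, hw, rfl⟩ := h.decomp hG hcd hg
    refine mul_mem (mem_fixMod_of_comm (mul_comm_of_abelian (h.cj c).elem.abelian hv.1 hu.1)) (h.inf_le hG hcd (mem_inf.2 ⟨?_, ?_⟩))
    · exact mul_mem (conj_mem_of_norm ((h.cj c).norm hw.2) hu.1) (inv_mem hu.1)
    · have := mul_mem hw.1 (conj_mem_of_norm ((h.cj d).norm hu.2) (inv_mem hw.1))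
      simpa [mul_assoc] using this
  obtain ⟨u, hu, v, hv, rfl⟩ := h.decomp hG hb hx
  intro g hg
  have h1 := key _ _ hb u hu hg
  have h2 := key _ _ hb.symm v hv hg
  have := (Y ⊓ center G).mul_mem h1 h2
  have e : g * (u * v) * g⁻¹ * (u * v)⁻¹ = g * u * g⁻¹ * (g * v * g⁻¹ * v⁻¹) * u⁻¹ := by group
  rw [mem_fixMod, e, mul_assoc, ← mem_center_iff.1 h2.2 u⁻¹]
  simpa [mul_assoc] using this

omit [Finite G] in
theorem mem_of_fix (hG : Good p (Y.map π)) {a y x : G} (hy : y ∈ BG.cj a Y) (hA : y ∉ A) (hx : x ∈ A)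
    (hf : y ∈ fixMod Y x) : x ∈ BG.cj a Y := by
  obtain ⟨b, hb⟩ := h.exists_ne a
  obtain ⟨u, hu, v, hv, rfl⟩ := h.decomp hG hb hx
  refine mul_mem hu.1 ?_
  have h1 : y ∈ fixMod Y v := by
    have e : y * (u * v) * y⁻¹ * (u * v)⁻¹ = u * (y * v * y⁻¹ * v⁻¹) * u⁻¹ := by
      rw [← mul_assoc y, mul_comm_of_abelian (h.cj a).elem.abelian hy hu.1]; group
    rw [mem_fixMod, e] at hf
    have := mem_center_iff.1 hf.2 u⁻¹
    rw [mem_fixMod, show y * v * y⁻¹ * v⁻¹ = u⁻¹ * (u * (y * v * y⁻¹ * v⁻¹) * u⁻¹) * u by group, this]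
    simpa [mul_assoc] using hf
  have h2 : ⊤ ≤ fixMod Y v := (h.gen1 hG hb hy hA).ge.trans (sup_le (zpowers_le.2 h1) fun w hw =>
    mem_fixMod_of_comm (mul_comm_of_abelian (h.cj b).elem.abelian hw hv.1))
  have h3 := mul_mem (cen_cj b (h2 (mem_top (b * a⁻¹)))) hv.1
  rw [mem_cj] at h3 ⊢
  simpa [mul_assoc] using h3

omit [Finite G] h in
theorem lift {a : G} {u : H} (hu : u ∈ BG.cj (π a) (Y.map π)) : ∃ y ∈ BG.cj a Y, π y = u := by
  rw [← map_cj] at hu; exact hu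

omit [Finite G] in
theorem mul_mem_fix (hG : Good p (Y.map π)) {x g k : G} (hx : x ∈ A) (e : π g = π k) (hk : k ∈ fixMod Y x) :
    g ∈ fixMod Y x := by
  have : g * k⁻¹ ∈ A := h.ker ▸ MonoidHom.mem_ker.2 (by simp [e])
  simpa using mul_mem (h.A_le_fix hG hx this) hk

omit [Finite G] in
theorem sq_inv (hG : Good p (Y.map π)) {a b u v x : G} (hab : BG.cj a Y ≠ BG.cj b Y) (hu : u ∈ BG.cj a Y)
    (hv : v ∈ BG.cj b Y) (hn : BG.cj (u * v * u) (BG.cj a Y) = BG.cj b Y) (hx : x ∈ BG.cj a Y ⊓ A) :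
    (u * v * u) ^ 2 * x * ((u * v * u) ^ 2)⁻¹ * x ∈ Y ⊓ center G := by
  have ca := fun {s t : G} => mul_comm_of_abelian (x := s) (y := t) (h.cj a).elem.abelian
  set y := x⁻¹ * v * x * v⁻¹ with hy
  replace hx := mem_inf.1 hx
  have y1 : y ∈ BG.cj b Y := mul_mem (conj_mem_of_norm' ((h.cj b).norm hx.2) hv) (inv_mem hv)
  have y2 : y ∈ A := by
    have := mul_mem (inv_mem hx.2) (conj_mem_of_norm (h.nA ⊤ (mem_top v)) hx.2)
    simpa [hy, mul_assoc] using this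
  set z := y⁻¹ * u * y * u⁻¹ with hz
  have z1 : z ∈ BG.cj a Y := mul_mem (conj_mem_of_norm' ((h.cj a).norm y2) hu) (inv_mem hu)
  have e1 : u * v * u * x * (u * v * u)⁻¹ = x * y * z := by
    calc u * v * u * x * (u * v * u)⁻¹ = u * v * (u * x) * (u * v * u)⁻¹ := by group
      _ = u * v * (x * u) * (u * v * u)⁻¹ := by rw [ca hu hx.1]
      _ = u * x * y * u⁻¹ := by rw [hy]; group
      _ = x * y * z := by rw [ca hu hx.1, hz]; group
  have e2 : x * y * z ∈ BG.cj b Y := by rw [← e1, ← hn]; exact conj_mem_cj _ hx.1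
  have c1 : x * y * x⁻¹ * y⁻¹ ∈ Y ⊓ center G := h.A_le_fix hG y2 hx.2
  have c2 : x * z ∈ Y ⊓ center G := by
    refine h.inf_le hG hab ⟨mul_mem hx.1 z1, ?_⟩
    have := mul_mem (inv_mem y1) (mul_mem (inv_mem (cen_cj b c1)) e2)
    simpa [mul_assoc] using this
  -- work modulo the central subgroup
  have : (Y ⊓ center G).Normal := H04.normal_of_le_center inf_le_right
  set ρ := QuotientGroup.mk' (Y ⊓ center G)
  have mr : ∀ g, g ∈ Y ⊓ center G ↔ ρ g = 1 := fun g => (QuotientGroup.eq_one_iff g).symm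
  rw [mr] at c1 c2 ⊢
  simp only [map_mul, map_inv, map_pow] at c1 c2 ⊢
  have r1 := congrArg ρ e1
  have r2 := congrArg ρ hy
  have r3 := congrArg ρ hz
  have r4 := congrArg ρ (ca hu hx.1)
  have r5 := congrArg ρ (mul_comm_of_abelian (h.cj b).elem.abelian hv y1)
  simp only [map_mul, map_inv] at r1 r2 r3 r4 r5
  generalize ρ x = X at *
  generalize ρ y = Y' at *
  generalize ρ z = Z at *
  generalize ρ u = U at *
  generalize ρ v = V at *
  have d1 : X * Y' = Y' * X := by rw [mul_inv_eq_one, mul_inv_eq_iff_eq_mul] at c1; exact c1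
  have d2 : Z = X⁻¹ := eq_inv_of_mul_eq_one_right c2
  have d3 : U * V * U * X * (U * V * U)⁻¹ = Y' := by rw [r1, d2, d1]; group
  have d4 : U * Y' * U⁻¹ = Y' * X⁻¹ := by rw [← d2, r3]; group
  have d5 : V * X * V⁻¹ = X * Y' := by rw [r2]; group
  calc (U * V * U) ^ 2 * X * ((U * V * U) ^ 2)⁻¹ * X
      = U * V * U * (U * V * U * X * (U * V * U)⁻¹) * (U * V * U)⁻¹ * X := by rw [pow_two]; group
    _ = U * (V * (U * Y' * U⁻¹) * V⁻¹) * U⁻¹ * X := by rw [d3]; group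
    _ = U * (V * Y' * V⁻¹ * (V * X * V⁻¹)⁻¹) * U⁻¹ * X := by rw [d4]; group
    _ = U * X⁻¹ * U⁻¹ * X := by rw [r5, d5]; group
    _ = 1 := by rw [← inv_inj, show (U * X⁻¹ * U⁻¹ * X)⁻¹ = X⁻¹ * (U * X) * U⁻¹ by group, r4]; group

theorem fpf [hp : Fact p.Prime] (hG : Good p (Y.map π)) {g x : G} (hg : ¬ ∃ k, orderOf g = p ^ k) (hx : x ∈ A)
    (hf : g ∈ fixMod Y x) : x ∈ Y ⊓ center G := by
  obtain ⟨r, hr, hd, hrp⟩ : ∃ r, r.Prime ∧ r ∣ orderOf g ∧ r ≠ p := by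
    by_contra e
    push Not at e
    exact hg ⟨_, Nat.eq_prime_pow_of_unique_prime_dvd (orderOf_pos g).ne' fun h1 h2 => e _ h1 h2⟩
  have o1 : orderOf (g ^ (orderOf g / r)) = r := orderOf_pow_orderOf_div (orderOf_pos g).ne' hd
  have o2 : orderOf (π (g ^ (orderOf g / r))) = r := by
    refine ((Nat.dvd_prime hr).1 ((orderOf_map_dvd π _).trans o1.dvd)).resolve_left fun e => ?_
    have : g ^ (orderOf g / r) ∈ A := h.ker ▸ MonoidHom.mem_ker.2 (orderOf_eq_one_iff.1 e)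
    exact hrp (pg_prime_eq hp.out h.pg hr (o1 ▸ orderOf_dvd_card this))
  obtain ⟨g₁, g₂, hne, u₁, h1, u₂, h2, h3⟩ := hG.fpf _ (by rwa [o2]) (by rwa [o2])
  obtain ⟨a, rfl⟩ := h.surj g₁
  obtain ⟨b, rfl⟩ := h.surj g₂
  obtain ⟨u, hu, rfl⟩ := lift h1
  obtain ⟨v, hv, rfl⟩ := lift h2
  have hab : BG.cj a Y ≠ BG.cj b Y := fun e => hne (h.cj_eq_iff'.2 e)
  have nA : ∀ w, π w ≠ 1 → w ∉ A := fun w e1 e2 => e1 (MonoidHom.mem_ker.1 (h.ker ▸ e2))
  rcases h3 with ⟨e1, e2, e3⟩ | ⟨e1, e2, e3⟩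
  · have f1 : u * v ∈ fixMod Y x := h.mul_mem_fix hG hx (by rw [map_mul, e3]) (pow_mem hf _)
    have f2 : v ∈ fixMod Y x := by
      refine h.inf_le hG hab (mem_inf.2 ⟨?_, ?_⟩)
      · have := mul_mem (conj_mem_of_norm' (le_norm _ hu) (cen_cj a f1))
          (mul_mem (inv_mem hu) (conj_mem_of_norm ((h.cj a).norm hx) hu))
        simpa [mul_assoc] using this
      · have := mul_mem hv (conj_mem_of_norm ((h.cj b).norm hx) (inv_mem hv))
        simpa [mul_assoc] using this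
    have f3 : u ∈ fixMod Y x := by simpa using mul_mem f1 (inv_mem f2)
    exact h.inf_le hG hab ⟨h.mem_of_fix hG hu (nA u e1) hx f3, h.mem_of_fix hG hv (nA v e2) hx f2⟩
  · have hn : BG.cj (u * v * u) (BG.cj a Y) = BG.cj b Y := by
      rw [cj_cj, ← h.cj_eq_iff', map_mul, ← cj_cj, map_mul, map_mul, e3]
    have f1 : (u * v * u) ^ 2 ∈ fixMod Y x :=
      h.mul_mem_fix hG hx (by rw [map_pow, map_mul, map_mul, e2]) (pow_mem hf _)
    obtain ⟨s, hs, t, ht, rfl⟩ := h.decomp hG hab hx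
    rw [← hn, ← h.cjA (u * v * u), ← cj_inf] at ht
    obtain ⟨t, ht', rfl⟩ := mem_cj'.1 ht
    have c1 := h.sq_inv hG hab hu hv hn hs
    have c2 := h.sq_inv hG hab hu hv hn ht'
    have c3 := h.A_le_fix hG hs.2 (conj_mem_of_norm (h.nA ⊤ (mem_top (u * v * u))) ht'.2)
    generalize u * v * u = n at *
    have : (Y ⊓ center G).Normal := H04.normal_of_le_center inf_le_right
    obtain ⟨e, he⟩ := pg_card hp.out h.pg
    obtain ⟨m, hm⟩ := exists_pow_eq_self_of_coprime (x := s * (n * t * n⁻¹)) (n := 2)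
      (Nat.Coprime.coprime_dvd_right (he ▸ orderOf_dvd_card hx) (Nat.Coprime.pow_right _
        ((Nat.coprime_primes Nat.prime_two hp.out).2 e1.symm)))
    rw [← hm]
    refine pow_mem ?_ m
    set ρ := QuotientGroup.mk' (Y ⊓ center G)
    have mr : ∀ g, g ∈ Y ⊓ center G ↔ ρ g = 1 := fun g => (QuotientGroup.eq_one_iff g).symm
    rw [mem_fixMod] at f1 c3
    rw [mr] at c1 c2 c3 f1 ⊢
    simp only [map_mul, map_inv, map_pow] at c1 c2 c3 f1 ⊢
    generalize ρ s = S at *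
    generalize ρ t = T at *
    generalize ρ n = N at *
    have d1 := eq_inv_of_mul_eq_one_left c1
    have d2 := eq_inv_of_mul_eq_one_left c2
    have d3 : N * T * N⁻¹ * S = S * (N * T * N⁻¹) := by
      rw [mul_inv_eq_one, mul_inv_eq_iff_eq_mul] at c3; exact c3
    have d4 : N ^ 2 * (S * (N * T * N⁻¹)) * (N ^ 2)⁻¹ = (N * T * N⁻¹ * S)⁻¹ := by
      calc _ = N ^ 2 * S * (N ^ 2)⁻¹ * (N * (N ^ 2 * T * (N ^ 2)⁻¹) * N⁻¹) := by group
        _ = _ := by rw [d1, d2]; group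
    rw [d4, d3, ← mul_inv_rev, inv_eq_one] at f1
    rw [pow_two, f1]

theorem good [hp : Fact p.Prime] (hO : ∀ K : Subgroup H, K.Normal → IsPGroup p K → K = ⊥)
    (hc : (∃ (F : Type) (_ : Field F) (_ : Fintype F), Fintype.card F = (Y ⊓ A).relIndex Y ∧
      Nonempty (H ≃* SL(2, F))) ∨ (p = 2 ∧ ∃ (F : Type) (_ : Field F) (_ : Fintype F) (m : ℕ),
        Fintype.card F = 2 ^ (2 * m + 1) ∧ Fintype.card F = (Y ⊓ A).relIndex Y ∧
          Nonempty (H ≃* ↥(Lie.Sz F (2 ^ (m + 1))))) ∨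
      (p = 2 ∧ ∃ r : ℕ, r.Prime ∧ r ≠ 2 ∧ Nonempty (H ≃* DihedralGroup r))) : Good p (Y.map π) := by
  have : Finite H := Finite.of_surjective π h.surj
  have hc1 : Nat.card (Y.map π) = (Y ⊓ A).relIndex Y := by
    rw [inf_comm, inf_relIndex_right, ← h.ker, relIndex_ker]
  have hE := H04.IsElementaryAbelian.map h.elem π
  have two : p = 2 → Nat.card (Y.map π) = 2 → Good p (Y.map π) := by
    rintro rfl e
    obtain ⟨g, hg⟩ := h.exists_gen
    exact good_card_two e (g := π g) (by rw [← map_cj, ← Subgroup.map_sup, hg, map_top_of_surjective _ h.surj]) hO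
  rcases hc with ⟨F, _, _, h1, ⟨e⟩⟩ | ⟨h0, F, _, _, m, h1, h2, ⟨e⟩⟩ | ⟨h0, r, h1, h2, ⟨e⟩⟩
  · exact Good.comap e (good_sl2 (H04.IsElementaryAbelian.map hE _).pg
      (by rw [card_map_of_injective e.injective, hc1, h1]))
  · rcases Nat.eq_zero_or_pos m with rfl | hm
    · exact two h0 (by rw [hc1, ← h2, h1]; rfl)
    · have : H12.Sz.SzF F m := ⟨hm, h1⟩
      subst h0
      exact Good.comap (e.trans H12.Sz.lieEquiv.symm) (good_sz (H04.IsElementaryAbelian.map hE _)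
        (by rw [card_map_of_injective (MulEquiv.injective _), hc1, h2]))
  · refine two h0 ?_
    subst h0
    obtain ⟨k, hk⟩ := pg_card Nat.prime_two hE.pg
    have h3 := card_dvd_top (Y.map π)
    have : NeZero r := ⟨h1.ne_zero⟩
    rw [Nat.card_congr e.toEquiv, DihedralGroup.nat_card, hk] at h3
    have h4 := (Nat.Coprime.pow_left k ((Nat.coprime_primes Nat.prime_two h1).2 h2.symm)).dvd_of_dvd_mul_right h3
    rw [← hk] at h4
    refine ((Nat.dvd_prime Nat.prime_two).1 h4).resolve_left fun e1 => h.not_le ?_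
    rw [← h.ker, ← Subgroup.map_eq_bot_iff]; exact BG.card_eq_one.1 e1

end FL

theorem frakL [hp : Fact p.Prime] {M L : Subgroup G} (hL : IsInFrakL p M L) :
    FL p ((largestPReducedOf p M).subgroupOf L) (pCore p L) (QuotientGroup.mk' (pCore p L)) ∧
      Good p (((largestPReducedOf p M).subgroupOf L).map (QuotientGroup.mk' (pCore p L))) := by
  obtain ⟨h1, h2, h3, h4, -, ⟨h5, h6⟩, h7⟩ := hL
  set Y := largestPReducedOf p M
  have eA : (pCoreOf p L).subgroupOf L = pCore p L := comap_map_eq_self_of_injective L.subtype_injective _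
  have eN : N_(Y.subgroupOf L) = N_(Y).subgroupOf L := (subgroupOf_normalizer_eq h1).symm
  have eI : (Y ⊓ pCoreOf p L).subgroupOf L = Y.subgroupOf L ⊓ pCore p L := by rw [← eA]; rfl
  have hF : FL p (Y.subgroupOf L) (pCore p L) (QuotientGroup.mk' (pCore p L)) := by
    refine ⟨(H26.elemAb_subgroupOf_iff h1).2 (H26.pRed_Y M).elem, H26.isPGroup_pCore, QuotientGroup.mk'_surjective _,
      QuotientGroup.ker_mk' _, fun B hB e => ?_, ?_, fun B hB e => ?_, fun e => h5.ne ?_, fun X e1 e2 => ?_⟩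
    · rw [map_injective L.subtype_injective h2]
      exact normalClosure_le_normal (by rwa [eI])
    · rw [eN, ← eA]; exact comap_mono h3
    · exact eq_top_iff.2 (h4.1.ge.trans (normalClosure_le_normal e))
    · rw [eN, subgroupOf_eq_top] at e; exact inf_eq_left.2 e
    · rw [eN]
      have := h6 (X.map L.subtype) (by rw [← map_subgroupOf_eq_of_le h1]; exact map_mono e1)
        (lt_of_le_of_ne (map_subtype_le X) fun e => e2 (map_injective L.subtype_injective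
          (by rw [e, ← MonoidHom.range_eq_map, range_subtype])))
      exact map_le_iff_le_comap.1 (this.trans inf_le_right)
  refine ⟨hF, hF.good (fun K hK hp => ?_) ?_⟩
  · have := H26.le_pCore (hp.comap_of_ker_isPGroup (QuotientGroup.mk' (pCore p L))
      (by rw [QuotientGroup.ker_mk']; exact H26.isPGroup_pCore))
    rw [← map_comap_eq_self_of_surjective (QuotientGroup.mk'_surjective _) K, Subgroup.map_eq_bot_iff,
      QuotientGroup.ker_mk']
    exact this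
  · have : (Y.subgroupOf L ⊓ pCore p L).relIndex (Y.subgroupOf L) = (Y ⊓ pCoreOf p L).relIndex Y := by
      rw [← eI, relIndex_subgroupOf h1]
    rwa [this]

end H03
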