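import Mathlib
import Cfsg.Agent.H14.PK

/-!
Groups of shape `2^{1+6}.L3(2)`: coordinates (namespace `H03.HE`).
`qm`, `Cl`, `kap`, `ap`, `Act`, `Pre`, `Rel`, `el`, `CM`, `chk`, `Rel.cm`, `ok`, `ok_spec`.
-/

set_option autoImplicit false
set_option maxRecDepth 100000

namespace H03.HE
open H13 H14.PK

def SG : ℕ := nat_lit 0xf0f00f0ff0f00f0f0f0ff0f00f0ff0f0f0f00f0ff0f00f0f0f0ff0f00f0ff0f03c3cc3c33c3cc3c3c3c33c3cc3c33c3c3c3cc3c33c3cc3c3c3c33c3cc3c33c3ccccc3333cccc33333333cccc3333cccccccc3333cccc33333333cccc3333cccc0000ffff0000ffffffff0000ffff00000000ffff0000ffffffff0000ffff000033cccc3333cccc33cc3333cccc3333cc33cccc3333cccc33cc3333cccc3333ccff0000ffff0000ff00ffff0000ffff00ff0000ffff0000ff00ffff0000ffff000ff0f00f0ff0f00ff00f0ff0f00f0ff00ff0f00f0ff0f00ff00f0ff0f00f0ff0c33c3cc3c33c3cc33cc3c33c3cc3c33cc33c3cc3c33c3cc33cc3c33c3cc3c33ccc33cc33cc33cc3333cc33cc33cc33cccc33cc33cc33cc3333c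c33cc33cc33cc00ff00ff00ff00ffff00ff00ff00ff0000ff00ff00ff00ffff00ff00ff00ff00f00ff00ff00ff00f0ff00ff00ff00ff0f00ff00ff00ff00f0ff00ff00ff00ff03cc33cc33cc33cc3c33cc33cc33cc33c3cc33cc33cc33cc3c33cc33cc33cc33c0f0f0f0f0f0f0f0ff0f0f0f0f0f0f0f00f0f0f0f0f0f0f0ff0f0f0f0f0f0f0f0c3c3c3c3c3c3c3c33c3c3c3c3c3c3c3cc3c3c3c3c3c3c3c33c3c3c3c3c3c3c3c3333333333333333cccccccccccccccc3333333333333333ccccccccccccccccffffffffffffffff0000000000000000ffffffffffffffff000000000000000033cc33cccc33cc33cc33cc3333cc33cc33cc33cccc33cc33cc33cc3333cc33ccff00ff0000ff00ff00ff00ffff00ff00ff00ff0000ff00ff00ff00ffff00ff000ff00ff0f00ff00ff00ff00f0ff00ff00ff00ff0f00ff00ff00ff00f0ff00ff0c33cc33c3cc33cc33cc33cc3c33cc33cc33cc33c3cc33cc33cc33cc3c33cc33cf0f0f0f00f0f0f0f0f0f0f0ff0f0f0f0f0f0f0f00f0f0f0f0f0f0f0ff0f0f0f03c3c3c3cc3c3c3c3c3c3c3c33c3c3c3c3c3c3c3cc3c3c3c3c3c3c3c33c3c3c3ccccccccc3333333333333333cccccccccccccccc33333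33333333333cccccccc00000000ffffffffffffffff0000000000000000ffffffffffffffff000000000f0ff0f0f0f00f0ff0f00f0f0f0ff0f00f0ff0f0f0f00f0ff0f00f0f0f0ff0f0c3c33c3c3c3cc3c33c3cc3c3c3c33c3cc3c33c3c3c3cc3c33c3cc3c3c3c33c3c3333cccccccc3333cccc33333333cccc3333cccccccc3333cccc33333333ccccffff00000000ffff0000ffffffff0000ffff00000000ffff0000ffffffff0000cc3333cc33cccc3333cccc33cc3333cccc3333cc33cccc3333cccc33cc3333cc00ffff00ff0000ffff0000ff00ffff0000ffff00ff0000ffff0000ff00ffff00f00f0ff00ff0f00f0ff0f00ff00f0ff0f00f0ff00ff0f00f0ff0f00ff00f0ff03cc3c33cc33c3cc3c33c3cc33cc3c33c3cc3c33cc33c3cc3c33c3cc33cc3c33ccc33cc3333cc33cccc33cc3333cc33cccc33cc3333cc33cccc33cc3333cc33cc00ff00ffff00ff0000ff00ffff00ff0000ff00ffff00ff0000ff00ffff00ff00f00ff00f0ff00ff0f00ff00f0ff00ff0f00ff00f0ff00ff0f00ff00f0ff00ff03cc33cc3c33cc33c3cc33cc3c33cc33c3cc33cc3c33cc33c3cc33cc3c33cc33c0f0f0f0ff0f0f0f00f0f0f0ff0f0f0f00f0f0f0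ff0f0f0f00f0f0f0ff0f0f0f0c3c3c3c33c3c3c3cc3c3c3c33c3c3c3cc3c3c3c33c3c3c3cc3c3c3c33c3c3c3c33333333cccccccc33333333cccccccc33333333cccccccc33333333ccccccccffffffff00000000ffffffff00000000ffffffff00000000ffffffff00000000f0f00f0f0f0ff0f0f0f00f0f0f0ff0f0f0f00f0f0f0ff0f0f0f00f0f0f0ff0f03c3cc3c3c3c33c3c3c3cc3c3c3c33c3c3c3cc3c3c3c33c3c3c3cc3c3c3c33c3ccccc33333333cccccccc33333333cccccccc33333333cccccccc33333333cccc0000ffffffff00000000ffffffff00000000ffffffff00000000ffffffff000033cccc33cc3333cc33cccc33cc3333cc33cccc33cc3333cc33cccc33cc3333ccff0000ff00ffff00ff0000ff00ffff00ff0000ff00ffff00ff0000ff00ffff000ff0f00ff00f0ff00ff0f00ff00f0ff00ff0f00ff00f0ff00ff0f00ff00f0ff0c33c3cc33cc3c33cc33c3cc33cc3c33cc33c3cc33cc3c33cc33c3cc33cc3c33c0f0ff0f00f0ff0f00f0ff0f00f0ff0f00f0ff0f00f0ff0f00f0ff0f00f0ff0f0c3c33c3cc3c33c3cc3c33c3cc3c33c3cc3c33c3cc3c33c3cc3c33c3cc3c33c3c3333cccc3333cccc3333cccc3333cccc3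333cccc3333cccc3333cccc3333ccccffff0000ffff0000ffff0000ffff0000ffff0000ffff0000ffff0000ffff0000cc3333cccc3333cccc3333cccc3333cccc3333cccc3333cccc3333cccc3333cc00ffff0000ffff0000ffff0000ffff0000ffff0000ffff0000ffff0000ffff00f00f0ff0f00f0ff0f00f0ff0f00f0ff0f00f0ff0f00f0ff0f00f0ff0f00f0ff03cc3c33c3cc3c33c3cc3c33c3cc3c33c3cc3c33c3cc3c33c3cc3c33c3cc3c33c33cc33cc33cc33cc33cc33cc33cc33cc33cc33cc33cc33cc33cc33cc33cc33ccff00ff00ff00ff00ff00ff00ff00ff00ff00ff00ff00ff00ff00ff00ff00ff000ff00ff00ff00ff00ff00ff00ff00ff00ff00ff00ff00ff00ff00ff00ff00ff0c33cc33cc33cc33cc33cc33cc33cc33cc33cc33cc33cc33cc33cc33cc33cc33cf0f0f0f0f0f0f0f0f0f0f0f0f0f0f0f0f0f0f0f0f0f0f0f0f0f0f0f0f0f0f0f03c3c3c3c3c3c3c3c3c3c3c3c3c3c3c3c3c3c3c3c3c3c3c3c3c3c3c3c3c3c3c3ccccccccccccccccccccccccccccccccccccccccccccccccccccccccccccccccc0000000000000000000000000000000000000000000000000000000000000000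

/-- product in the extraspecial group -/
def qm (a b : ℕ) : ℕ := Nat.xor (Nat.xor a b) (Nat.land (Nat.shiftRight SG (Nat.add (Nat.mul 128 a) b)) 1)

/-- conjugation -/
def cj (a b : ℕ) : ℕ := Nat.xor b (Nat.xor (qm a b) (qm b a))

/-- inversion -/
def qi (a : ℕ) : ℕ := Nat.xor a (qm a a)

/-- the automorphism with the given images of the generators -/
noncomputable def ap (X c : ℕ) : ℕ := force c fun c =>
  force (qm (c % 2) (c / 2 % 2 * get 7 X 0)) fun r => force (qm r (c / 4 % 2 * get 7 X 1)) fun r =>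
  force (qm r (c / 8 % 2 * get 7 X 2)) fun r => force (qm r (c / 16 % 2 * get 7 X 3)) fun r =>
  force (qm r (c / 32 % 2 * get 7 X 4)) fun r => qm r (c / 64 % 2 * get 7 X 5)

def XF : ℕ := nat_lit 4380934013956
def XG : ℕ := nat_lit 551096419330

theorem all2 {f : ℕ → ℕ → Bool} {m n : ℕ} (h : allLt (fun a => allLt (f a) n) m = true) : ∀ a < m, ∀ b < n, f a b = true :=
  fun a ha => allLt_iff.1 (allLt_iff.1 h a ha)

/-- the product formula -/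
def qs (a b : ℕ) : ℕ := (a % 2 + b % 2 + (a / 4 % 2 * (b / 2 % 2) + a / 8 % 2 * (b / 2 % 2) +
    a / 16 % 2 * (b / 2 % 2) + a / 32 % 2 * (b / 2 % 2) + a / 64 % 2 * (b / 2 % 2) + a / 8 % 2 * (b / 4 % 2) +
    a / 16 % 2 * (b / 4 % 2) + a / 32 % 2 * (b / 4 % 2) + a / 64 % 2 * (b / 4 % 2) + a / 16 % 2 * (b / 8 % 2) +
    a / 32 % 2 * (b / 8 % 2) + a / 64 % 2 * (b / 8 % 2) + a / 32 % 2 * (b / 16 % 2) + a / 64 % 2 * (b / 16 % 2) +
    a / 64 % 2 * (b / 32 % 2)) + (a / 2 % 2 * (b / 2 % 2) + a / 4 % 2 * (b / 4 % 2) + a / 8 % 2 * (b / 8 % 2) +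
    a / 16 % 2 * (b / 16 % 2) + a / 32 % 2 * (b / 32 % 2) + a / 64 % 2 * (b / 64 % 2))) % 2 +
    2 * ((a / 2 % 2 + b / 2 % 2) % 2) + 4 * ((a / 4 % 2 + b / 4 % 2) % 2) + 8 * ((a / 8 % 2 + b / 8 % 2) % 2) +
    16 * ((a / 16 % 2 + b / 16 % 2) % 2) + 32 * ((a / 32 % 2 + b / 32 % 2) % 2) + 64 * ((a / 64 % 2 + b / 64 % 2) % 2)

theorem qm_spec : ∀ a < 128, ∀ b < 128, qm a b = qs a b :=
  fun a ha b hb => Nat.eq_of_beq_eq_true (all2 (f := fun a b => Nat.beq (qm a b) (qs a b)) (by decide +kernel) a ha b hb)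

theorem qm_lt {a b : ℕ} (ha : a < 128) (hb : b < 128) : qm a b < 128 := by rw [qm_spec a ha b hb, qs]; omega

theorem cj_spec : ∀ a < 128, ∀ b < 128, cj a b < 128 ∧ cj a b / 2 = b / 2 ∧ qm a b = qm (cj a b) a := fun a ha b hb => by
  have := all2 (f := fun a b => band (band (Nat.blt (cj a b) 128) (Nat.beq (cj a b / 2) (b / 2))) (Nat.beq (qm a b) (qm (cj a b) a)))
    (m := 128) (n := 128) (by decide +kernel) a ha b hb
  simpa [and_assoc] using this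

theorem qi_spec : ∀ a < 128, qi a < 128 ∧ qm a (qi a) = 0 := by decide +kernel

theorem l7 (T i : ℕ) : get 7 T i < 128 := get_lt 7 T i

theorem sel_lt (b T i : ℕ) : b % 2 * get 7 T i < 128 := by
  have := l7 T i
  rcases Nat.mod_two_eq_zero_or_one b with e | e <;> rw [e] <;> omega

theorem ap_lt (X c : ℕ) : ap X c < 128 :=
  qm_lt (qm_lt (qm_lt (qm_lt (qm_lt (qm_lt (by omega) (sel_lt _ _ _)) (sel_lt _ _ _)) (sel_lt _ _ _)) (sel_lt _ _ _))
    (sel_lt _ _ _)) (sel_lt _ _ _)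

variable {G : Type*} [Group G]

/-- seven anticommuting elements of order four with product one -/
structure Cl (z : G) (γ : ℕ → G) : Prop where
  z2 : z * z = 1
  z1 : z ≠ 1
  sq : ∀ i < 6, γ i * γ i = z
  zc : ∀ i < 6, γ i * z = z * γ i
  ac : ∀ i < 6, ∀ j < i, γ i * γ j = z * (γ j * γ i)

/-- the coded elements of the extraspecial group -/
def kap (z : G) (γ : ℕ → G) (a : ℕ) : G :=
  z ^ (a % 2) * γ 0 ^ (a / 2 % 2) * γ 1 ^ (a / 4 % 2) * γ 2 ^ (a / 8 % 2) * γ 3 ^ (a / 16 % 2) * γ 4 ^ (a / 32 % 2) *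
    γ 5 ^ (a / 64 % 2)

variable {z : G} {γ : ℕ → G} {x f g a : G} {X q0 μ : ℕ}

theorem kap_zero : kap z γ 0 = 1 := by simp [kap]

theorem kap_one : kap z γ 1 = z := by simp [kap]

theorem kap_gen {i : ℕ} (hi : i < 6) : kap z γ (2 ^ (i + 1)) = γ i := by interval_cases i <;> simp [kap]

theorem kap_mem {W : Subgroup G} (hz : z ∈ W) (h : ∀ i < 6, γ i ∈ W) (a : ℕ) : kap z γ a ∈ W :=
  mul_mem (mul_mem (mul_mem (mul_mem (mul_mem (mul_mem (pow_mem hz _) (pow_mem (h 0 (by decide)) _))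
    (pow_mem (h 1 (by decide)) _)) (pow_mem (h 2 (by decide)) _)) (pow_mem (h 3 (by decide)) _))
    (pow_mem (h 4 (by decide)) _)) (pow_mem (h 5 (by decide)) _)

namespace Cl

variable (h : Cl z γ)
include h

theorem zmov {i : ℕ} (hi : i < 6) (m n : ℕ) (x : G) : γ i ^ m * (z ^ n * x) = z ^ n * (γ i ^ m * x) := by
  rw [← mul_assoc, (Commute.pow_pow (h.zc i hi) m n).eq, mul_assoc]

theorem sw {i j : ℕ} (hj : j < 6) (hi : i < j) (m n : ℕ) (x : G) :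
    γ j ^ m * (γ i ^ n * x) = z ^ (m * n) * (γ i ^ n * (γ j ^ m * x)) := by
  have h1 : ∀ m : ℕ, γ j ^ m * γ i = z ^ m * γ i * γ j ^ m := by
    intro m
    induction m with
    | zero => simp
    | succ m ih =>
      rw [pow_succ', mul_assoc, ih, mul_assoc, ← pow_one (γ j), h.zmov hj, pow_one, ← mul_assoc (γ j), h.ac j hj i hi]
      simp only [pow_succ, mul_assoc]
  have h2 : SemiconjBy (γ j ^ m) (γ i) (z ^ m * γ i) := h1 m
  have h3 := (h2.pow_right n).eq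
  rw [(Commute.pow_left (h.zc i (hi.trans hj)).symm m).mul_pow, ← pow_mul] at h3
  rw [← mul_assoc, h3]; simp only [mul_assoc]

theorem zp (n : ℕ) : z ^ (n % 2) = z ^ n := (pow_eq_pow_mod n (by rw [pow_two, h.z2])).symm

theorem gp {i : ℕ} (hi : i < 6) (m n : ℕ) :
    γ i ^ ((m % 2 + n % 2) % 2) = z ^ (m % 2 * (n % 2)) * γ i ^ (m % 2 + n % 2) := by
  rcases Nat.mod_two_eq_zero_or_one m with e | e <;> rcases Nat.mod_two_eq_zero_or_one n with e' | e' <;>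
    simp [e, e', pow_two, h.sq i hi, h.z2]

theorem kap_mul {a b : ℕ} (ha : a < 128) (hb : b < 128) : kap z γ (qm a b) = kap z γ a * kap z γ b := by
  have k : ∀ e0 e1 e2 e3 e4 e5 e6 : ℕ, kap z γ (e0 % 2 + 2 * (e1 % 2) + 4 * (e2 % 2) + 8 * (e3 % 2) + 16 * (e4 % 2) +
      32 * (e5 % 2) + 64 * (e6 % 2)) = z ^ (e0 % 2) * γ 0 ^ (e1 % 2) * γ 1 ^ (e2 % 2) * γ 2 ^ (e3 % 2) * γ 3 ^ (e4 % 2) *
      γ 4 ^ (e5 % 2) * γ 5 ^ (e6 % 2) := fun e0 e1 e2 e3 e4 e5 e6 => by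
    generalize hn : e0 % 2 + 2 * (e1 % 2) + 4 * (e2 % 2) + 8 * (e3 % 2) + 16 * (e4 % 2) + 32 * (e5 % 2) + 64 * (e6 % 2) = n
    rw [kap, show n % 2 = e0 % 2 by omega, show n / 2 % 2 = e1 % 2 by omega, show n / 4 % 2 = e2 % 2 by omega,
      show n / 8 % 2 = e3 % 2 by omega, show n / 16 % 2 = e4 % 2 by omega, show n / 32 % 2 = e5 % 2 by omega,
      show n / 64 % 2 = e6 % 2 by omega]
  rw [qm_spec a ha b hb, qs, k, h.zp, h.gp (i := 0) (by decide), h.gp (i := 1) (by decide), h.gp (i := 2) (by decide),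
    h.gp (i := 3) (by decide), h.gp (i := 4) (by decide), h.gp (i := 5) (by decide)]
  unfold kap
  generalize a % 2 = e, a / 2 % 2 = a0, a / 4 % 2 = a1, a / 8 % 2 = a2, a / 16 % 2 = a3, a / 32 % 2 = a4, a / 64 % 2 = a5,
    b % 2 = e', b / 2 % 2 = b0, b / 4 % 2 = b1, b / 8 % 2 = b2, b / 16 % 2 = b3, b / 32 % 2 = b4, b / 64 % 2 = b5
  have p : ∀ (g x : G) (m n : ℕ), g ^ m * (g ^ n * x) = g ^ (m + n) * x := fun g x m n => by rw [pow_add, mul_assoc]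
  rw [← mul_one (γ 5 ^ (a5 + b5)), ← mul_one (γ 5 ^ b5)]
  simp only [mul_assoc, h.zmov (i := 0) (by decide), h.zmov (i := 1) (by decide), h.zmov (i := 2) (by decide),
    h.zmov (i := 3) (by decide), h.zmov (i := 4) (by decide), h.zmov (i := 5) (by decide),
    h.sw (i := 0) (j := 1) (by decide) (by decide), h.sw (i := 0) (j := 2) (by decide) (by decide), h.sw (i := 0) (j := 3) (by decide) (by decide), h.sw (i := 0) (j := 4) (by decide) (by decide), h.sw (i := 0) (j := 5) (by decide) (by decide),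
    h.sw (i := 1) (j := 2) (by decide) (by decide), h.sw (i := 1) (j := 3) (by decide) (by decide), h.sw (i := 1) (j := 4) (by decide) (by decide), h.sw (i := 1) (j := 5) (by decide) (by decide),
    h.sw (i := 2) (j := 3) (by decide) (by decide), h.sw (i := 2) (j := 4) (by decide) (by decide), h.sw (i := 2) (j := 5) (by decide) (by decide),
    h.sw (i := 3) (j := 4) (by decide) (by decide), h.sw (i := 3) (j := 5) (by decide) (by decide),
    h.sw (i := 4) (j := 5) (by decide) (by decide), p]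
  congr 1
  rw [← h.zp, ← h.zp (_ + _)]
  congr 1
  generalize a0 * b0 = c0, a1 * b1 = c1, a2 * b2 = c2, a3 * b3 = c3, a4 * b4 = c4, a5 * b5 = c5
  omega

theorem kap_eq_one {a : ℕ} (ha : a < 128) (e : kap z γ a = 1) : a = 0 := by
  have : ∀ a < 128, a = 0 ∨ a = 1 ∨ ∃ k < 128, qm k a = qm 1 (qm a k) := by decide +kernel
  rcases this a ha with h0 | rfl | ⟨k, hk, h0⟩
  · exact h0
  · exact absurd (kap_one.symm.trans e) h.z1
  · have := congrArg (kap z γ) h0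
    rw [h.kap_mul hk ha, h.kap_mul (by decide) (qm_lt ha hk), h.kap_mul ha hk, e, kap_one, mul_one, one_mul,
      right_eq_mul] at this
    exact absurd this h.z1

theorem kap_qi {a : ℕ} (ha : a < 128) : kap z γ (qi a) = (kap z γ a)⁻¹ :=
  eq_inv_of_mul_eq_one_right (by rw [← h.kap_mul ha (qi_spec a ha).1, (qi_spec a ha).2, kap_zero])

theorem kap_inj {a b : ℕ} (ha : a < 128) (hb : b < 128) (e : kap z γ a = kap z γ b) : a = b := by
  have := all2 (f := fun a b => bor (Nat.beq a b) (Nat.blt 0 (qm a (qi b)))) (m := 128) (n := 128) (by decide +kernel) a ha b hb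
  simp only [bor_eq_true, Nat.beq_eq, Nat.blt_eq] at this
  refine this.resolve_right (h.kap_eq_one (qm_lt ha (qi_spec b hb).1) ?_).not_gt
  rw [h.kap_mul ha (qi_spec b hb).1, e, h.kap_qi hb, mul_inv_cancel]

theorem kap_cj {a b : ℕ} (ha : a < 128) (hb : b < 128) : kap z γ a * kap z γ b * (kap z γ a)⁻¹ = kap z γ (cj a b) := by
  rw [← h.kap_mul ha hb, (cj_spec a ha b hb).2.2, h.kap_mul (cj_spec a ha b hb).1 ha, mul_inv_cancel_right]

theorem kap_z {a : ℕ} (ha : a < 128) : kap z γ a * z = z * kap z γ a := by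
  have : ∀ b < 128, cj b 1 = 1 := by decide +kernel
  have e := h.kap_cj ha (b := 1) (by decide)
  rwa [this a ha, kap_one, mul_inv_eq_iff_eq_mul] at e

end Cl

/-- the action of `x` on the generators -/
def Act (z : G) (γ : ℕ → G) (x : G) (X : ℕ) : Prop := x * z = z * x ∧ ∀ i < 6, x * γ i * x⁻¹ = kap z γ (get 7 X i)

theorem Act.kap (h : Act z γ x X) (c : Cl z γ) (a : ℕ) : x * kap z γ a * x⁻¹ = kap z γ (ap X a) := by
  have s2 : ∀ b k, k < 6 → HE.kap z γ (b % 2 * get 7 X k) = x * γ k ^ (b % 2) * x⁻¹ := fun b k hk => by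
    rcases Nat.mod_two_eq_zero_or_one b with e | e
    · simp [e, kap_zero]
    · simp [e, h.2 k hk]
  have s3 : HE.kap z γ (a % 2) = x * z ^ (a % 2) * x⁻¹ := by
    rcases Nat.mod_two_eq_zero_or_one a with e | e
    · simp [e, kap_zero]
    · simp [e, kap_one, h.1]
  have l0 := qm_lt (show a % 2 < 128 by omega) (sel_lt (a / 2) X 0)
  have l1 := qm_lt l0 (sel_lt (a / 4) X 1)
  have l2 := qm_lt l1 (sel_lt (a / 8) X 2)
  have l3 := qm_lt l2 (sel_lt (a / 16) X 3)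
  have l4 := qm_lt l3 (sel_lt (a / 32) X 4)
  simp only [ap, force_eq]
  rw [c.kap_mul l4 (sel_lt _ _ _), c.kap_mul l3 (sel_lt _ _ _), c.kap_mul l2 (sel_lt _ _ _), c.kap_mul l1 (sel_lt _ _ _),
    c.kap_mul l0 (sel_lt _ _ _), c.kap_mul (by omega) (sel_lt _ _ _), s2 _ _ (by decide), s2 _ _ (by decide), s2 _ _ (by decide),
    s2 _ _ (by decide), s2 _ _ (by decide), s2 _ _ (by decide), s3]
  unfold HE.kap
  group

theorem Act.kap' (h : Act z γ x X) (c : Cl z γ) (a : ℕ) : x * HE.kap z γ a = HE.kap z γ (ap X a) * x := by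
  rw [← h.kap c, inv_mul_cancel_right]

end H03.HE
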