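import Mathlib
import Cfsg.Agent.BG.Quo3
import Cfsg.Agent.H04.Rank2
import Cfsg.Agent.H03.Frobenius
import Cfsg.Agent.H21.Homo3
import Cfsg.Agent.S0205

/-! Groups with a metacyclic Sylow 2-subgroup with a cyclic quotient of order `> 2`. -/

namespace H03
open Cfsg BG Subgroup
open scoped commutatorElement

variable {G : Type*} [Group G] [Finite G]

theorem le_cent_of_card_le_two {A D : Subgroup G} (hD : Nat.card D ≤ 2) (hA : A ≤ N_(D)) : A ≤ C_(D) := by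
  intro a ha
  refine mem_cent.2 fun d hd => ?_
  by_cases h1 : d = 1
  · simp [h1]
  have h2 : Nat.card D = 2 := by
    have := one_lt_card (ne_bot_of_mem hd h1); omega
  obtain ⟨y, -, hy⟩ := (Nat.card_eq_two_iff' (1 : D)).1 h2
  have e1 := hy ⟨d, hd⟩ (fun e => h1 (congrArg Subtype.val e))
  have e2 := hy ⟨a * d * a⁻¹, conj_mem_of_norm (hA ha) hd⟩ (fun e => h1 (by
    have := congrArg Subtype.val e
    simpa using this))
  have : a * d * a⁻¹ = d := congrArg Subtype.val (e2.trans e1.symm)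
  exact (mul_inv_eq_iff_eq_mul.1 this).symm

omit [Finite G] in
theorem mem_of_pow_odd {N : Subgroup G} {x : G} {e i : ℕ} (hx : orderOf x = 2 ^ e) (hi : Odd i) (h : x ^ i ∈ N) :
    x ∈ N := by
  obtain ⟨m, hm⟩ := exists_pow_eq_self_of_coprime (x := x) (n := i)
    (by rw [hx]; exact Nat.Coprime.pow_right _ (Odd.coprime_two_right hi))
  rw [← hm]; exact N.pow_mem h _

theorem conj_eq_pow_odd {g v : G} {e : ℕ} (hv : orderOf v = 2 ^ e) (hg : g ∈ N_(zpowers v)) :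
    ∃ k : ℕ, Odd k ∧ g * v * g⁻¹ = v ^ k := by
  obtain ⟨k, hk⟩ := (mem_powers_iff_mem_zpowers.2 (conj_mem_of_norm hg (mem_zpowers v)))
  simp only at hk
  rcases Nat.even_or_odd k with h | h
  · have h1 : orderOf (v ^ k) = orderOf v := by rw [hk, orderOf_conj]
    rcases e with _ | e
    · have : v = 1 := orderOf_eq_one_iff.1 (by simpa using hv)
      exact ⟨1, odd_one, by simp [this]⟩
    · exfalso
      have h2 : (v ^ k) ^ 2 ^ e = 1 := by
        obtain ⟨l, rfl⟩ := h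
        rw [← pow_mul, ← orderOf_dvd_iff_pow_eq_one, hv]
        exact ⟨l, by ring⟩
      have := orderOf_dvd_of_pow_eq_one h2
      rw [h1, hv, Nat.pow_dvd_pow_iff_le_right one_lt_two] at this
      omega
  · exact ⟨k, h, hk.symm⟩

theorem ord_two {P : Subgroup G} (hP : IsPGroup 2 P) {x : G} (hx : x ∈ P) : ∃ e, orderOf x = 2 ^ e := by
  obtain ⟨n, hn⟩ := pg_card Nat.prime_two hP
  obtain ⟨e, -, he⟩ := (Nat.dvd_prime_pow Nat.prime_two).1 (hn ▸ orderOf_dvd_card hx)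
  exact ⟨e, he⟩

structure Meta (S N : Subgroup G) (b : G) : Prop where
  pg : IsPGroup 2 S
  le : N ≤ S
  norm : S ≤ N_(N)
  cyc : IsCyclic N
  hb : b ∈ S
  gen : S ≤ N ⊔ zpowers b
  sq : b ^ 2 ∉ N

namespace Meta
variable {S N P X : Subgroup G} {b : G}

omit [Finite G] in
theorem cj (h : Meta S N b) (g : G) : Meta (cj g S) (cj g N) (g * b * g⁻¹) where
  pg := isPGroup_cj.2 h.pg
  le := cj_mono g h.le
  norm := by rw [← cj_norm]; exact cj_mono g h.norm
  cyc := isCyclic_cj.2 h.cyc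
  hb := conj_mem_cj g h.hb
  gen := by rw [← cj_zpowers, ← cj_sup]; exact cj_mono g h.gen
  sq := by rw [conj_pow, conj_mem_cj_iff]; exact h.sq

theorem mem (h : Meta S N b) {s : G} (hs : s ∈ S) : ∃ n ∈ N, ∃ i : ℕ, s = n * b ^ i := by
  obtain ⟨n, hn, a, ha, rfl⟩ := (mem_sup_norm ((zpowers_le.2 h.hb).trans h.norm)).1 (h.gen hs)
  obtain ⟨i, rfl⟩ := mem_powers_iff_mem_zpowers.2 ha
  exact ⟨n, hn, i, rfl⟩

theorem norm_zp (h : Meta S N b) {v : G} (hv : v ∈ N) : S ≤ N_(zpowers v) :=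
  h.norm.trans (norm_le_norm_of_cyclic h.cyc (zpowers_le.2 hv))

omit [Finite G] in
theorem comm (h : Meta S N b) {u v : G} (hu : u ∈ N) (hv : v ∈ N) : u * v = v * u :=
  mul_comm_of_abelian (abelian_of_cyclic h.cyc) hu hv

omit [Finite G] in
theorem der (h : Meta S N b) : ⁅S, S⁆ ≤ N := by
  have hb : zpowers b ≤ N_(N) := (zpowers_le.2 h.hb).trans h.norm
  exact (der_mono h.gen).trans (der_sup_le (le_norm N) hb (der_le N) (comm_le_left hb)
    (by rw [abelian_iff_der.1 (abelian_of_cyclic (cyclic_zpowers b))]; exact bot_le))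

theorem four (h : Meta S N b) {y v : G} (hy : y ∈ S) (hy2 : y ^ 2 ∈ N) (hv : v ∈ N) (hv4 : v ^ 4 = 1) :
    y * v = v * y := by
  obtain ⟨n, hn, i, rfl⟩ := h.mem hy
  have hbi : b ^ i ∈ N_(N) := h.norm (S.pow_mem h.hb i)
  have h1 : (b ^ 2) ^ i ∈ N := by
    have : (b ^ 2) ^ i = (n * (b ^ i * n * (b ^ i)⁻¹))⁻¹ * (n * b ^ i) ^ 2 := by
      rw [← pow_mul, mul_comm 2 i, pow_mul, pow_two, pow_two]; group
    rw [this]; exact N.mul_mem (N.inv_mem (N.mul_mem hn (conj_mem_of_norm hbi hn))) hy2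
  rcases Nat.even_or_odd i with ⟨j, rfl⟩ | hi
  · obtain ⟨e, he⟩ := ord_two h.pg (h.le hv)
    obtain ⟨k, ⟨l, rfl⟩, hk⟩ := conj_eq_pow_odd he (h.norm_zp hv (S.pow_mem h.hb j))
    have h2 : b ^ (j + j) * v * (b ^ (j + j))⁻¹ = v := by
      have : b ^ (j + j) * v * (b ^ (j + j))⁻¹ = b ^ j * (b ^ j * v * (b ^ j)⁻¹) * (b ^ j)⁻¹ := by
        rw [pow_add]; group
      rw [this, hk, ← conj_pow, hk, ← pow_mul,
        show (2 * l + 1) * (2 * l + 1) = 4 * (l * l + l) + 1 by ring, pow_succ, pow_mul, hv4]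
      simp
    calc n * b ^ (j + j) * v = n * (b ^ (j + j) * v * (b ^ (j + j))⁻¹) * b ^ (j + j) := by group
      _ = v * (n * b ^ (j + j)) := by rw [h2, h.comm hn hv, mul_assoc]
  · obtain ⟨e, he⟩ := ord_two h.pg (S.pow_mem h.hb 2)
    exact absurd (mem_of_pow_odd he hi h1) h.sq

omit [Finite G] in
theorem gens (h : Meta S N b) (hP : P ≤ S) : ∃ w y, zpowers w = P ⊓ N ∧ y ∈ P ∧ P ≤ zpowers w ⊔ zpowers y := by
  obtain ⟨w, hw⟩ := cyclic_iff.1 (cyclic_of_le h.cyc (inf_le_right : P ⊓ N ≤ N))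
  obtain ⟨y, hy, h1⟩ := (cyclic_quo_iff (hP.trans h.norm)).1
    (cyclic_of_le ((cyclic_quo_iff h.norm).2 ⟨b, h.hb, h.gen⟩) (quo_mono N hP))
  refine ⟨w, y, hw, hy, ?_⟩
  have := dedekind' (H := N) (zpowers_le.2 hy) (Or.inr ((zpowers_le.2 (hP hy)).trans h.norm))
  rw [hw, inf_comm, ← this]
  exact le_inf h1 le_rfl

end Meta

theorem cent_of_comm_le_phi {P X : Subgroup G} (hP : IsPGroup 2 P) (hX : Odd (Nat.card X)) (hn : X ≤ N_(P))
    (h : ⁅P, X⁆ ≤ frattiniOf P) : X ≤ C_(P) := by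
  have h1 := coprime_comm_sup_cent hn (pg_coprime Nat.prime_two hP hX.not_two_dvd_nat).symm
    (Or.inr (pg_sol Nat.prime_two hP))
  have := eq_of_le_sup_phi (inf_le_left : P ⊓ C_(X) ≤ P) (by
    rw [sup_comm]; exact h1.ge.trans (sup_le_sup_right h _))
  exact cent_symm (this.ge.trans inf_le_right)

theorem irr_of_gens {P X U : Subgroup G} {w y : G} (hP : IsPGroup 2 P) (hX : Odd (Nat.card X)) (hn : X ≤ N_(P))
    (hc : ¬ X ≤ C_(P)) (hw : w ∈ P) (hy : y ∈ P) (hg : P ≤ zpowers w ⊔ zpowers y) (hU : U ≤ P) (hXU : X ≤ N_(U)) :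
    U ≤ frattiniOf P ∨ U = P := by
  by_contra hcon
  push Not at hcon
  have hΦ : P ≤ N_(frattiniOf P) := norm_phi (le_norm P)
  have hXΦ : X ≤ N_(frattiniOf P) := norm_phi hn
  have hE : IsElementaryAbelian 2 (quo (frattiniOf P) P) :=
    (elem_quo_iff hΦ).2 ⟨der_le_phi Nat.prime_two hP, fun x hx => pow_mem_phi Nat.prime_two hP hx⟩
  have h4 : Nat.card (quo (frattiniOf P) P) ≤ 4 := by
    have e1 : ∀ u ∈ P, Nat.card (quo (frattiniOf P) (zpowers u)) ≤ 2 := fun u hu =>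
      (hE.of_le (quo_mono _ (zpowers_le.2 hu))).card_le_of_cyclic Nat.prime_two (cyclic_quo _ (cyclic_zpowers u))
    have e2 := quo_mono (frattiniOf P) hg
    rw [quo_sup ((zpowers_le.2 hw).trans hΦ) ((zpowers_le.2 hy).trans hΦ)] at e2
    have e3 := Nat.le_of_dvd (Nat.mul_pos (card_pos _) (card_pos _)) (card_sup_dvd (le_norm_of_cent
      (le_cent_of_abelian hE.abelian (quo_mono _ (zpowers_le.2 hy)) (quo_mono _ (zpowers_le.2 hw)))))
    have := Nat.mul_le_mul (e1 w hw) (e1 y hy)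
    exact (card_le e2).trans (e3.trans this)
  obtain ⟨C, hC, hXC⟩ := hE.maschke Nat.prime_two (quo_mono _ hU) (quo_le_norm _ hn) (quo_le_norm _ hXU)
    (not_dvd_card_quo _ hX.not_two_dvd_nat)
  have h1 := one_lt_card (quo_ne_bot (hU.trans hΦ) hcon.1)
  have h2 : C ≠ ⊥ := by
    rintro rfl
    have := hC.sup
    rw [sup_bot_eq] at this
    have h3 := (quo_le_quo_iff hΦ (hU.trans hΦ)).1 this.ge
    exact hcon.2 (eq_of_le_sup_phi hU (by rwa [sup_comm]))
  have h3 := one_lt_card h2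
  have h5 := hC.card
  have h6 : Nat.card C ≤ 2 := by nlinarith
  have h7 : Nat.card (quo (frattiniOf P) U) ≤ 2 := by nlinarith
  have h8 := le_cent_sup (le_cent_of_card_le_two h7 (quo_le_norm _ hXU)) (le_cent_of_card_le_two h6 hXC)
  rw [hC.sup] at h8
  exact hc (cent_of_comm_le_phi hP hX hn (comm_le_of_quo hΦ hXΦ (cent_symm h8)))

/-- The subgroup of elements of `P` whose `m`-th power lies in `Z`. -/
def powSub (P Z : Subgroup G) (m : ℕ) (h : ∀ u ∈ P, ∀ v ∈ P, u ^ m ∈ Z → v ^ m ∈ Z → (u * v) ^ m ∈ Z) :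
    Subgroup G where
  carrier := {u | u ∈ P ∧ u ^ m ∈ Z}
  mul_mem' := fun ha hb => ⟨P.mul_mem ha.1 hb.1, h _ ha.1 _ hb.1 ha.2 hb.2⟩
  one_mem' := ⟨P.one_mem, by simp [Z.one_mem]⟩
  inv_mem' := fun ha => ⟨P.inv_mem ha.1, by rw [inv_pow]; exact Z.inv_mem ha.2⟩

omit [Finite G] in
theorem mem_powSub {P Z : Subgroup G} {m : ℕ} {h} {u : G} : u ∈ powSub P Z m h ↔ u ∈ P ∧ u ^ m ∈ Z := Iff.rfl

omit [Finite G] in
theorem norm_powSub {P Z X : Subgroup G} {m : ℕ} {h} (h1 : X ≤ N_(P)) (h2 : X ≤ N_(Z)) : X ≤ N_(powSub P Z m h) :=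
  le_norm_iff.2 fun _ ha _ hk => ⟨conj_mem_of_norm (h1 ha) hk.1, by
    rw [conj_pow]; exact conj_mem_of_norm (h2 ha) hk.2⟩

/-- Data of a subgroup `P` of a metacyclic group with a nontrivial odd automorphism group `X`. -/
structure MX (S N P X : Subgroup G) (b w y : G) : Prop where
  m : Meta S N b
  le : P ≤ S
  odd : Odd (Nat.card X)
  norm : X ≤ N_(P)
  nc : ¬ X ≤ C_(P)
  hw : zpowers w = P ⊓ N
  hy : y ∈ P
  gen : P ≤ zpowers w ⊔ zpowers y

namespace MX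
variable {S N P X : Subgroup G} {b w y : G} (h : MX S N P X b w y)
include h

omit [Finite G] in
theorem pg : IsPGroup 2 P := pg_le h.m.pg h.le
omit [Finite G] in
theorem wP : w ∈ P := (h.hw.le (mem_zpowers w)).1
omit [Finite G] in
theorem wN : w ∈ N := (h.hw.le (mem_zpowers w)).2

theorem irr {U : Subgroup G} (hU : U ≤ P) (hXU : X ≤ N_(U)) : U ≤ frattiniOf P ∨ U = P :=
  irr_of_gens h.pg h.odd h.norm h.nc h.wP h.hy h.gen hU hXU

theorem comm_eq : ⁅P, X⁆ = P :=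
  (h.irr (comm_le_left h.norm) (right_le_norm_comm _ _)).resolve_left fun e =>
    h.nc (cent_of_comm_le_phi h.pg h.odd h.norm e)

theorem w_not : w ∉ frattiniOf P := fun e => by
  have : zpowers y = P := eq_of_le_sup_phi (zpowers_le.2 h.hy)
    (h.gen.trans (by rw [sup_comm]; exact sup_le_sup_left (zpowers_le.2 e) _))
  have : Fact (Nat.Prime 2) := ⟨Nat.prime_two⟩
  exact h.nc (H04.le_cent_of_isCyclic_two h.pg (cyclic_iff.2 ⟨y, ‹_›⟩) h.odd h.norm)

theorem all_pow {Z : Subgroup G} {m : ℕ} (h0 : ∀ u ∈ P, ∀ v ∈ P, u ^ m ∈ Z → v ^ m ∈ Z → (u * v) ^ m ∈ Z)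
    (h2 : X ≤ N_(Z)) {u : G} (hu : u ∈ P) (hu' : u ∉ frattiniOf P) (hm : u ^ m ∈ Z) : ∀ v ∈ P, v ^ m ∈ Z := by
  rcases h.irr (U := powSub P Z m h0) (fun _ e => e.1) (norm_powSub h.norm h2) with e | e
  · exact absurd (e ⟨hu, hm⟩) hu'
  · exact fun v hv => (e.ge hv).2

omit [Finite G] in
theorem der_le_w : ⁅P, P⁆ ≤ zpowers w := by
  rw [h.hw]; exact le_inf (der_le P) ((der_mono h.le).trans h.m.der)

theorem abelian : IsMulCommutative P := by
  have : Fact (Nat.Prime 2) := ⟨Nat.prime_two⟩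
  have hc : IsCyclic ↥⁅P, P⁆ := cyclic_of_le (cyclic_zpowers w) h.der_le_w
  have h1 : X ≤ C_(⁅P, P⁆) := H04.le_cent_of_isCyclic_two (pg_le h.pg (der_le P)) hc h.odd (norm_der h.norm)
  have h2 : P ≤ C_(⁅P, P⁆) := by
    conv_lhs => rw [← h.comm_eq]
    exact (comm_mono le_rfl h1).trans (comm_le_right (norm_cent (le_norm_der P)))
  have hcm : ∀ u ∈ P, ∀ v ∈ P, ∀ t ∈ P, Commute ⁅u, v⁆ t := fun u hu v hv t ht =>
    mem_cent.1 (h2 ht) _ (commutator_mem_commutator hu hv)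
  have hpow : ∀ u ∈ P, ∀ v ∈ P, ∀ m, (u * v) ^ m = u ^ m * v ^ m * ⁅v, u⁆ ^ m.choose 2 := fun u hu v hv m =>
    H04.mul_pow_eq_of_commute (hcm _ hv _ hu _ hu) (hcm _ hv _ hu _ hv) m
  by_contra hna
  -- the least `e` with `w ^ 2 ^ e ∈ P'`
  obtain ⟨e0, he0⟩ := ord_two h.pg h.wP
  have hex : ∃ e, w ^ 2 ^ e ∈ ⁅P, P⁆ := ⟨e0, by rw [← he0, pow_orderOf_eq_one]; exact one_mem _⟩
  obtain ⟨e, he, hmin⟩ : ∃ e, w ^ 2 ^ e ∈ ⁅P, P⁆ ∧ ∀ f < e, w ^ 2 ^ f ∉ ⁅P, P⁆ := by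
    classical exact ⟨Nat.find hex, Nat.find_spec hex, fun f hf => Nat.find_min hex hf⟩
  have hz : ∀ c ∈ ⁅P, P⁆, ∃ k : ℕ, c = (w ^ 2 ^ e) ^ k := by
    intro c hc
    obtain ⟨k, rfl⟩ := mem_powers_iff_mem_zpowers.2 (h.der_le_w hc)
    simp only at hc ⊢
    rcases Nat.eq_zero_or_pos k with rfl | hk
    · exact ⟨0, by simp⟩
    obtain ⟨f, l, hl, rfl⟩ := Nat.exists_eq_two_pow_mul_odd hk.ne'
    by_cases hf : f < e
    · obtain ⟨e1, he1⟩ := ord_two h.pg (P.pow_mem h.wP (2 ^ f))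
      exact absurd (mem_of_pow_odd he1 hl (by rwa [← pow_mul])) (hmin f hf)
    · obtain ⟨d, rfl⟩ := Nat.exists_eq_add_of_le (not_lt.1 hf)
      exact ⟨2 ^ d * l, by rw [← pow_mul, pow_add, mul_assoc]⟩
  have hall : ∀ v ∈ P, v ^ 2 ^ e ∈ ⁅P, P⁆ := h.all_pow (fun u hu v hv h3 h4 => by
    rw [hpow u hu v hv]
    exact mul_mem (mul_mem h3 h4) (pow_mem (commutator_mem_commutator hv hu) _)) (norm_der h.norm) h.wP h.w_not he
  have hwy : w * y ≠ y * w := fun e1 => hna (abelian_of_le (abelian_sup (abelian_of_cyclic (cyclic_zpowers w))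
    (abelian_of_cyclic (cyclic_zpowers y)) (by rw [cent_zpowers]; exact zpowers_le.2 (mem_cent1.2 e1))) h.gen)
  rcases e with _ | _ | e
  · exact h.w_not (der_le_phi Nat.prime_two h.pg (by simpa using he))
  · simp only [zero_add, pow_one] at he hz hall
    have h5 : ⁅w, y⁆ ^ 2 = 1 := by
      rw [← H04.commutatorElement_pow_left (hcm _ h.wP _ h.hy _ h.wP), commutatorElement_eq_one_iff_mul_comm]
      exact mem_cent.1 (h2 h.hy) _ he
    have h6 : ∀ c ∈ ⁅P, P⁆, c ^ 2 = 1 := by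
      have : ⁅P, P⁆ ≤ zpowers ⁅w, y⁆ := by
        have hn : P ≤ N_(zpowers ⁅w, y⁆) := le_norm_of_cent (le_cent_mono h2 le_rfl
          (zpowers_le.2 (commutator_mem_commutator h.wP h.hy)))
        refine (der_mono h.gen).trans (der_sup_le ((zpowers_le.2 h.wP).trans hn) ((zpowers_le.2 h.hy).trans hn)
          ?_ ?_ ?_)
        · rw [abelian_iff_der.1 (abelian_of_cyclic (cyclic_zpowers w))]; exact bot_le
        · refine Subgroup.commutator_le.2 ?_
          rintro _ ⟨i, rfl⟩ _ ⟨j, rfl⟩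
          simp only
          rw [H04.commutatorElement_zpow_left (hcm _ h.wP _ (zpow_mem h.hy j) _ h.wP),
            H04.commutatorElement_zpow_right (hcm _ h.wP _ h.hy _ h.hy)]
          exact zpow_mem (zpow_mem (mem_zpowers _) _) _
        · rw [abelian_iff_der.1 (abelian_of_cyclic (cyclic_zpowers y))]; exact bot_le
      intro c hc
      obtain ⟨i, rfl⟩ := this hc
      simp only
      rw [← zpow_natCast, ← zpow_mul, mul_comm, zpow_mul, zpow_natCast, h5, one_zpow]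
    refine hwy (h.m.four (h.le h.hy) ((der_mono h.le).trans h.m.der (hall y h.hy)) h.wN ?_).symm
    rw [show 4 = 2 * 2 from rfl, pow_mul]; exact h6 _ he
  · set z := w ^ 2 ^ (e + 1 + 1) with hzdef
    have hz2 : z ∉ zpowers (z ^ 2) := by
      intro h3
      obtain ⟨i, hi⟩ := mem_powers_iff_mem_zpowers.2 h3
      simp only at hi
      obtain ⟨e1, he1⟩ := ord_two h.pg (der_le P he)
      have hz1 : z = 1 := by
        rcases Nat.eq_zero_or_pos i with rfl | hi0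
        · simpa using hi.symm
        · have : z ^ (2 * i - 1) ∈ (⊥ : Subgroup G) := by
            rw [mem_bot]
            have : z ^ (2 * i - 1) * z = 1 * z := by
              rw [← pow_succ, Nat.sub_add_cancel (by omega), pow_mul, hi, one_mul]
            exact mul_right_cancel this
          exact mem_bot.1 (mem_of_pow_odd he1 ⟨i - 1, by omega⟩ this)
      obtain ⟨k, hk⟩ := hz _ (commutator_mem_commutator h.wP h.hy)
      rw [hz1, one_pow, commutatorElement_eq_one_iff_mul_comm] at hk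
      exact hwy hk
    have hch : ∃ t, (2 ^ (e + 1 + 1)).choose 2 = 2 * t := by
      rw [Nat.choose_two_right]
      refine ⟨2 ^ e * (2 ^ (e + 1 + 1) - 1), ?_⟩
      rw [Nat.div_eq_iff_eq_mul_left two_pos ⟨2 ^ (e + 1) * (2 ^ (e + 1 + 1) - 1), by ring⟩]; ring
    obtain ⟨t, ht⟩ := hch
    have h7 : ∀ u ∈ P, ∀ v ∈ P, ⁅u, v⁆ ^ (2 ^ (e + 1 + 1)).choose 2 ∈ zpowers (z ^ 2) := by
      intro u hu v hv
      obtain ⟨k, hk⟩ := hz _ (commutator_mem_commutator hu hv)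
      rw [hk, ht, ← pow_mul z, show k * (2 * t) = 2 * (k * t) by ring, pow_mul z]
      exact pow_mem (mem_zpowers _) _
    have h0 : ∀ u ∈ P, ∀ v ∈ P, u ^ 2 ^ (e + 1 + 1) ∈ zpowers (z ^ 2) → v ^ 2 ^ (e + 1 + 1) ∈ zpowers (z ^ 2) →
        (u * v) ^ 2 ^ (e + 1 + 1) ∈ zpowers (z ^ 2) := fun u hu v hv h3 h4 => by
      rw [hpow u hu v hv]; exact mul_mem (mul_mem h3 h4) (h7 _ hv _ hu)
    have h8 : ⁅P, X⁆ ≤ powSub P _ _ h0 := by
      refine Subgroup.commutator_le.2 fun u hu x hx => ⟨comm_le_left h.norm (commutator_mem_commutator hu hx), ?_⟩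
      have hv : x * u⁻¹ * x⁻¹ ∈ P := conj_mem_of_norm (h.norm hx) (inv_mem hu)
      have : ⁅u, x⁆ = u * (x * u⁻¹ * x⁻¹) := by rw [commutatorElement_def]; group
      rw [this, hpow u hu _ hv, conj_pow, inv_pow, ← mem_cent.1 (h1 hx) _ (inv_mem (hall u hu))]
      simpa using h7 _ hv _ hu
    rw [h.comm_eq] at h8
    exact hz2 (h8 h.wP).2

theorem cent_eq : P ⊓ C_(X) = ⊥ := by
  have := (coprime_abelian_dprod h.norm (pg_coprime Nat.prime_two h.pg h.odd.not_two_dvd_nat).symm h.abelian).disj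
  rwa [h.comm_eq, inf_eq_left.2 inf_le_left] at this

theorem exp {m : ℕ} (hm : w ^ m = 1) : ∀ v ∈ P, v ^ m = 1 := by
  have := h.all_pow (Z := ⊥) (m := m) (fun u hu v hv h1 h2 => by
    rw [mem_bot] at h1 h2 ⊢
    rw [Commute.mul_pow (mul_comm_of_abelian h.abelian hu hv), h1, h2, one_mul]) le_norm_bot h.wP h.w_not hm
  simpa using this

theorem comm_w {s n : G} (hs : s ∈ S) (hn : n ∈ zpowers w) : ⁅n, s⁆ ∈ frattiniOf P := by
  have hn' := h.hw.le hn
  obtain ⟨e, he⟩ := ord_two h.pg hn'.1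
  obtain ⟨k, ⟨l, rfl⟩, hk⟩ := conj_eq_pow_odd he (h.m.norm_zp hn'.2 hs)
  have : ⁅n, s⁆ = ((n ^ l) ^ 2)⁻¹ := by
    have : ⁅n, s⁆ = n * (s * n * s⁻¹)⁻¹ := by rw [commutatorElement_def]; group
    rw [this, hk, ← pow_mul, mul_comm l 2]; group
  rw [this]; exact inv_mem (pow_mem_phi Nat.prime_two h.pg (pow_mem hn'.1 l))

theorem comm_le_phi {s : G} (hs : s ∈ S) (hsn : s ∈ N_(P)) (hy : ⁅y, s⁆ ∈ frattiniOf P) :
    ∀ u ∈ P, ⁅u, s⁆ ∈ frattiniOf P := by
  have hΦ : P ≤ N_(frattiniOf P) := norm_phi (le_norm P)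
  have hsΦ : s ∈ N_(frattiniOf P) := norm_le_norm_phi P hsn
  have : P ≤ coquo (frattiniOf P) C_[qmk _ ⟨s, hsΦ⟩] := by
    have key : ∀ u ∈ P, ⁅u, s⁆ ∈ frattiniOf P → u ∈ coquo (frattiniOf P) C_[qmk _ ⟨s, hsΦ⟩] := fun u hu e =>
      mem_coquo.2 ⟨hΦ hu, mem_cent1.2 (by
        rw [← commutatorElement_eq_one_iff_mul_comm, ← map_commutatorElement, qmk_eq_one]; exact e)⟩
    exact h.gen.trans (sup_le (zpowers_le.2 (key w h.wP (h.comm_w hs (mem_zpowers w)))) (zpowers_le.2 (key y h.hy hy)))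
  intro u hu
  obtain ⟨h1, h2⟩ := mem_coquo.1 (this hu)
  rw [mem_cent1, ← commutatorElement_eq_one_iff_mul_comm, ← map_commutatorElement, qmk_eq_one] at h2
  exact h2

theorem false_of_N {s : G} (hs : s ∈ N) (hsn : s ∈ N_(P)) (hs2 : s ^ 2 ∈ P) (hy : ⁅y, s⁆ ∉ frattiniOf P) : False := by
  have hc : ⁅y, s⁆ ∈ zpowers w := by
    rw [h.hw]
    exact ⟨comm_le_left (zpowers_le.2 hsn) (commutator_mem_commutator h.hy (mem_zpowers s)),
      h.m.der (commutator_mem_commutator (h.le h.hy) (h.m.le hs))⟩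
  have hcN := (h.hw.le hc).2
  have h1 : y * s * y⁻¹ = ⁅y, s⁆ * s := by rw [commutatorElement_def]; group
  have h2 : ⁅y, s⁆ ^ 2 = 1 := by
    have e1 : y * s ^ 2 * y⁻¹ = s ^ 2 := by rw [mul_comm_of_abelian h.abelian h.hy hs2]; group
    rw [← conj_pow, h1, Commute.mul_pow (h.m.comm hcN hs)] at e1
    simpa using e1
  obtain ⟨k, hk⟩ := mem_powers_iff_mem_zpowers.2 hc
  simp only at hk
  rcases Nat.even_or_odd k with ⟨l, rfl⟩ | hk'
  · rw [← hk, pow_add, ← sq] at hy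
    exact hy (pow_mem_phi Nat.prime_two h.pg (pow_mem h.wP l))
  obtain ⟨e, he⟩ := ord_two h.pg (pow_mem h.wP 2)
  have h3 : w ^ 2 = 1 := mem_bot.1 (mem_of_pow_odd he hk' (by
    rw [← pow_mul, mul_comm, pow_mul, hk, h2]; exact one_mem _))
  have h4 := h.m.four (h.le h.hy) (by rw [h.exp h3 y h.hy]; exact one_mem _) hs
    (by rw [show 4 = 2 * 2 from rfl, pow_mul]; exact h.exp h3 _ hs2)
  rw [commutatorElement_eq_one_iff_mul_comm.2 h4] at hy
  exact hy (one_mem _)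

theorem eq_top (hK : ∀ s ∈ S, s ∈ N_(P) → (∀ u ∈ P, ⁅u, s⁆ ∈ frattiniOf P) → s ∈ P) : P = S := by
  by_contra hne
  have hlt := nil_lt_norm (pg_nil Nat.prime_two h.m.pg) (lt_of_le_of_ne h.le hne)
  have hq := quo_ne_bot (inf_le_right : S ⊓ N_(P) ≤ N_(P)) (not_le_of_gt hlt)
  obtain ⟨q, hq1, hq2⟩ := exists_orderOf_eq_prime Nat.prime_two
    (pg_dvd Nat.prime_two (pgroup_quo P (pg_le h.m.pg inf_le_left)) hq)
  obtain ⟨s, hs, hsn, rfl⟩ := mem_quo.1 hq1
  have hs1 : s ∉ P := fun e => by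
    rw [(qmk_eq_one (z := ⟨s, hsn⟩)).2 e] at hq2; simp at hq2
  have hs2 : s ^ 2 ∈ P := by
    rw [← qmk_eq_one (z := ⟨s ^ 2, pow_mem hsn 2⟩), qmk_pow hsn, ← hq2, pow_orderOf_eq_one]
  have caseA : s ∉ N ⊔ zpowers y := by
    intro e
    obtain ⟨n, hn, a, ha, rfl⟩ := (mem_sup_norm ((zpowers_le.2 (h.le h.hy)).trans h.m.norm)).1 e
    have haP : a ∈ P := zpowers_le.2 h.hy ha
    have hnn : n ∈ N_(P) := by simpa using mul_mem hsn (inv_mem (le_norm P haP))
    refine h.false_of_N hn hnn ?_ fun e1 => hs1 (mul_mem (hK n (h.m.le hn) hnn (h.comm_le_phi (h.m.le hn) hnn e1)) haP)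
    have : n ^ 2 = (n * a) ^ 2 * a⁻¹ * (n⁻¹ * a⁻¹ * n) := by rw [sq, sq]; group
    rw [this]
    exact mul_mem (mul_mem hs2 (inv_mem haP)) (conj_mem_of_norm' hnn (inv_mem haP))
  have hsN := h.m.norm hs.1
  have hyN := h.m.norm (h.le h.hy)
  have hcyc := (cyclic_quo_iff h.m.norm).2 ⟨b, h.m.hb, h.m.gen⟩
  have caseB : y ∈ N ⊔ zpowers s := by
    obtain ⟨i, hi⟩ := pg_card Nat.prime_two (pgroup_quo N (pg_le h.m.pg (zpowers_le.2 hs.1)))
    obtain ⟨j, hj⟩ := pg_card Nat.prime_two (pgroup_quo N (pg_le h.m.pg (zpowers_le.2 (h.le h.hy))))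
    rcases le_total i j with e | e
    · exact absurd ((quo_le_quo_iff (zpowers_le.2 hsN) (zpowers_le.2 hyN)).1 (le_of_card_dvd_of_cyclic hcyc
        (quo_mono N (zpowers_le.2 hs.1)) (quo_mono N (zpowers_le.2 (h.le h.hy)))
        (by rw [hi, hj]; exact pow_dvd_pow 2 e)) (mem_zpowers s)) caseA
    · exact (quo_le_quo_iff (zpowers_le.2 hyN) (zpowers_le.2 hsN)).1 (le_of_card_dvd_of_cyclic hcyc
        (quo_mono N (zpowers_le.2 (h.le h.hy))) (quo_mono N (zpowers_le.2 hs.1))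
        (by rw [hi, hj]; exact pow_dvd_pow 2 e)) (mem_zpowers y)
  obtain ⟨n, hn, a, ha, hna⟩ := (mem_sup_norm (zpowers_le.2 hsN)).1 caseB
  obtain ⟨k, rfl⟩ := mem_powers_iff_mem_zpowers.2 ha
  simp only at hna
  rcases Nat.even_or_odd k with ⟨l, rfl⟩ | hk
  · have h1 : s ^ (l + l) ∈ P := by rw [← two_mul, pow_mul]; exact pow_mem hs2 l
    have h2 : n ∈ zpowers w := by
      rw [h.hw]; refine mem_inf.2 ⟨?_, hn⟩
      have : n = y * (s ^ (l + l))⁻¹ := by rw [← hna]; group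
      rw [this]; exact mul_mem h.hy (inv_mem h1)
    refine hs1 (hK s hs.1 hsn (h.comm_le_phi hs.1 hsn ?_))
    have : ⁅y, s⁆ = ⁅n, s⁆ := by rw [← hna, commutatorElement_def, commutatorElement_def]; group
    rw [this]; exact h.comm_w hs.1 h2
  · obtain ⟨e, he⟩ := ord_two h.m.pg hs.1
    refine caseA (mem_of_pow_odd he hk ?_)
    have : s ^ k = n⁻¹ * y := by rw [← hna]; group
    rw [this]; exact mul_mem (mem_sup_left (inv_mem hn)) (mem_sup_right (mem_zpowers y))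

theorem homocyclic (hPS : P = S) {x : G} (hx : zpowers x = X) :
    ∃ m, 2 ≤ m ∧ Nonempty (P ≃* Multiplicative (ZMod (2 ^ m) × ZMod (2 ^ m))) := by
  obtain ⟨m, hm⟩ := ord_two h.pg h.wP
  have hexp := h.exp (m := 2 ^ m) (by rw [← hm, pow_orderOf_eq_one])
  have h2 : 2 ≤ m := by
    by_contra e
    have : b ^ 2 = 1 := by
      have := hexp b (hPS ▸ h.m.hb)
      interval_cases m
      · simp only [pow_zero, pow_one] at this; simp [this]
      · simpa using this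
    exact h.m.sq (this ▸ one_mem _)
  obtain ⟨n, rfl⟩ : ∃ n, m = n + 1 := ⟨m - 1, by omega⟩
  have hxn : x ∈ N_(P) := h.norm (hx ▸ mem_zpowers x)
  have hw' : x * w * x⁻¹ ∈ P := conj_mem_of_norm hxn h.wP
  have hw1 : w ^ 2 ^ n ≠ 1 := fun e => by
    have := orderOf_dvd_of_pow_eq_one e
    rw [hm, Nat.pow_dvd_pow_iff_le_right one_lt_two] at this; omega
  have hd := H04.inf_zpowers_eq_bot (hexp w h.wP) (hexp _ hw') hw1 (by rw [conj_pow]; simpa using hw1) (fun e => by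
    refine hw1 (mem_bot.1 (h.cent_eq.le (mem_inf.2 ⟨pow_mem h.wP _, ?_⟩)))
    rw [← hx, cent_zpowers, mem_cent1]
    rw [conj_pow] at e
    conv_lhs => rw [e]
    group)
  have hcm := mul_comm_of_abelian h.abelian h.wP hw'
  have hcent : zpowers (x * w * x⁻¹) ≤ C_(zpowers w) := by
    rw [cent_zpowers]; exact zpowers_le.2 (mem_cent1.2 hcm.symm)
  have hsup : zpowers w ⊔ zpowers (x * w * x⁻¹) = P := by
    refine eq_of_le_of_card_le (sup_le (zpowers_le.2 h.wP) (zpowers_le.2 hw')) ?_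
    rw [card_sup_of_disj (le_norm_of_cent hcent) hd, card_zpowers, card_zpowers, orderOf_conj]
    refine (card_le h.gen).trans ((Nat.le_of_dvd (Nat.mul_pos (card_pos _) (card_pos _)) (card_sup_dvd
      (le_norm_of_cent (le_cent_of_abelian h.abelian (zpowers_le.2 h.hy) (zpowers_le.2 h.wP))))).trans ?_)
    rw [card_zpowers, card_zpowers]
    exact Nat.mul_le_mul_left _ (hm ▸ Nat.le_of_dvd (by positivity) (orderOf_dvd_of_pow_eq_one (hexp y h.hy)))
  have hc : ∀ (a : zpowers w) (c : zpowers (x * w * x⁻¹)),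
      Commute ((zpowers w).subtype a) ((zpowers (x * w * x⁻¹)).subtype c) := fun a c => mem_cent.1 (hcent c.2) _ a.2
  have h1 := MonoidHom.noncommCoprod_range _ _ hc
  rw [range_subtype, range_subtype, hsup] at h1
  have e := (MonoidHom.ofInjective ((MonoidHom.noncommCoprod_injective _ _ hc).2
    ⟨subtype_injective _, subtype_injective _, by
      rw [range_subtype, range_subtype]; exact disjoint_iff.2 hd⟩)).trans (MulEquiv.subgroupCongr h1)
  have e1 := zmodCyclicMulEquiv (inferInstance : IsCyclic (zpowers w))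
  have e2 := zmodCyclicMulEquiv (inferInstance : IsCyclic (zpowers (x * w * x⁻¹)))
  rw [Nat.card_zpowers, hm] at e1
  rw [Nat.card_zpowers, orderOf_conj, hm] at e2
  exact ⟨n + 1, h2, ⟨(((MulEquiv.prodMultiplicative _ _).trans (e1.prodCongr e2)).trans e).symm⟩⟩

end MX

omit [Finite G] in
theorem odd_of_isPiElt {x : G} (h : IsPiElt ({2} : Set ℕ)ᶜ x) : Odd (orderOf x) :=
  Nat.not_even_iff_odd.1 fun e => h 2 Nat.prime_two e.two_dvd rfl

theorem exists_max_aut (h : ¬ HasNormalPComplement 2 G) : ∃ (P : Subgroup G) (x : G), IsPGroup 2 P ∧ x ∈ N_(P) ∧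
    Odd (orderOf x) ∧ x ∉ C_(P) ∧ ∀ s ∈ N_(P), (∃ e, orderOf s = 2 ^ e) → (∀ u ∈ P, ⁅u, s⁆ ∈ frattiniOf P) → s ∈ P := by
  have : Fact (Nat.Prime 2) := ⟨Nat.prime_two⟩
  obtain ⟨S⟩ : Nonempty (Sylow 2 G) := inferInstance
  obtain ⟨D, hD, -, -, q, hq, hq2, g, hg, ⟨k, hk⟩, hgc⟩ := exists_not_commute_of_not_hasNPC S h
  obtain ⟨P, ⟨hP, x, hx, hxo, hxc⟩, hmax⟩ := Set.Finite.exists_maximalFor (fun P : Subgroup G => Nat.card P)
    {P : Subgroup G | IsPGroup 2 P ∧ ∃ x ∈ N_(P), Odd (orderOf x) ∧ x ∉ C_(P)} (Set.toFinite _)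
    ⟨D, pg_le S.isPGroup' hD, g, hg, hk ▸ (hq.odd_of_ne_two hq2).pow, hgc⟩
  refine ⟨P, x, hP, hx, hxo, hxc, fun s hs ⟨e, he⟩ hsP => ?_⟩
  have hΦ : P ≤ N_(frattiniOf P) := norm_phi (le_norm P)
  have hH := norm_le_norm_phi P
  set K := N_(P) ⊓ coquo (frattiniOf P) C_(quo (frattiniOf P) P) with hKdef
  have memK : ∀ t ∈ N_(P), t ∈ K ↔ ∀ u ∈ P, ⁅t, u⁆ ∈ frattiniOf P := fun t ht => by
    rw [← qmk_mem_cent_iff (hH ht) hΦ, qmk_mem_iff_coquo]
    exact ⟨fun e => e.2, fun e => ⟨ht, e⟩⟩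
  have hPK : P ≤ K := fun t ht => (memK t (le_norm P ht)).2 fun u hu =>
    der_le_phi Nat.prime_two hP (commutator_mem_commutator ht hu)
  have hsK : s ∈ K := (memK s hs).2 fun u hu => by
    rw [← commutatorElement_inv]; exact inv_mem (hsP u hu)
  have hHK : N_(P) ≤ N_(K) := norm_inf (le_norm _) (le_norm_coquo hH (norm_cent (quo_norm_le _ _)))
  have hodd : ∀ t ∈ K, Odd (orderOf t) → t ∈ C_(P) := fun t ht ho =>
    cent_of_comm_le_phi hP (X := zpowers t) (by rwa [card_zpowers]) (zpowers_le.2 ht.1) (by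
      rw [comm_comm]; exact comm_le_of_quo ((zpowers_le.2 ht.1).trans hH) hΦ
        ((quo_le_iff ((zpowers_le.2 ht.1).trans hH)).2 (zpowers_le.2 ht.2))) (mem_zpowers t)
  obtain ⟨T, hT, hle⟩ := sylow_superset Nat.prime_two (pg_sup hP (pg_of_card (A := zpowers s)
    (by rw [card_zpowers, he])) (zpowers_le.2 hs)) (sup_le hPK (zpowers_le.2 hsK))
  have hF := sylow_frattini Nat.prime_two hT inf_le_left hHK
  obtain ⟨c, hc, n, hn, rfl⟩ := (mem_sup_norm (inf_le_left.trans hHK)).1 (hF.ge hx)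
  have hn' : piPart ({2} : Set ℕ)ᶜ n ∉ C_(P) := by
    intro e1
    have e2 : piPart ({2} : Set ℕ)ᶜ n ∈ K := (memK _ (piPart_mem _ hn.1)).2 fun u hu => by
      rw [commutatorElement_eq_one_iff_mul_comm.2 (mem_cent.1 e1 u hu).symm]; exact one_mem _
    have hn2 := piPart_mem ({2} : Set ℕ) hn.1
    have hq : qmk K ⟨c * n, hHK hx⟩ = qmk K ⟨piPart {2} n, hHK hn2⟩ := by
      rw [qmk_eq_iff]
      have : (c * n)⁻¹ * piPart {2} n = (piPart ({2} : Set ℕ)ᶜ n)⁻¹ * ((piPart {2} n)⁻¹ * c⁻¹ * piPart {2} n) := by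
        have := piPart_mul_compl {2} n
        generalize piPart {2} n = a at this ⊢
        generalize piPart ({2} : Set ℕ)ᶜ n = a' at this ⊢
        rw [← this]; group
      simp only
      rw [this]; exact mul_mem (inv_mem e2) (conj_mem_of_norm' (hHK hn2) (inv_mem hc))
    have o1 := orderOf_qmk_dvd (hHK hx)
    have o2 := orderOf_qmk_dvd (hHK hn2)
    rw [← hq] at o2
    have o3 : IsPiElt ({2} : Set ℕ)ᶜ (c * n) := fun r hr hd e3 => by
      rw [Set.mem_singleton_iff.1 e3] at hd; exact hxo.not_two_dvd_nat hd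
    have := Nat.eq_one_of_dvd_coprimes ((isPiElt_piPart {2} n).coprime o3) o2 o1
    rw [orderOf_eq_one_iff, qmk_eq_one] at this
    exact hxc (hodd _ this hxo)
  have hPT : P ≤ T := le_sup_left.trans hle
  have := hmax ⟨hT.pg Nat.prime_two, _, piPart_mem _ hn.2, odd_of_isPiElt (isPiElt_piPart _ n),
    fun e1 => hn' (cent_anti hPT e1)⟩ (card_le hPT)
  rw [eq_of_le_of_card_le hPT this]
  exact hle (mem_sup_right (mem_zpowers s))

theorem sol_of_homocyclic (S : Sylow 2 G) {m : ℕ} (hm : 2 ≤ m)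
    (e : (S : Subgroup G) ≃* Multiplicative (ZMod (2 ^ m) × ZMod (2 ^ m))) : Group.IsSolvable G := by
  have : Fact (Nat.Prime 2) := ⟨Nat.prime_two⟩
  set O := piCoreOf ({2} : Set ℕ)ᶜ (⊤ : Subgroup G) with hO
  have hn : (⊤ : Subgroup G) ≤ N_(O) := le_norm_pcore _ _
  have hO2 : ¬ 2 ∣ Nat.card O := pcore_not_dvd Nat.prime_two _
  have hodd : ∀ {K : Subgroup G}, ¬ 2 ∣ Nat.card K → Group.IsSolvable K := fun hK =>
    Cfsg.Agent.S0205.result (Nat.not_even_iff_odd.1 fun e => hK e.two_dvd)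
  have hS := hall_quo hn (isSylowIn_top Nat.prime_two S)
  rw [quo_top] at hS
  obtain ⟨T, hT⟩ := IsSylowIn.exists_sylow_top hS Nat.prime_two
  have e1 := quoEquiv (N := O) (X := S) (le_top.trans hn)
    (by rw [inf_comm]; exact pg_inf_eq_bot Nat.prime_two S.isPGroup' hO2)
  obtain ⟨h1, -, h3⟩ := H21.homocyclic_normal T hm ((MulEquiv.subgroupCongr hT).trans (e1.symm.trans e)) (by
    intro K hK hKo
    have h2 : coquo O K ≤ O := le_pcore_p' Nat.prime_two (by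
      rw [card_coquo]; exact fun e => ((Nat.Prime.dvd_mul Nat.prime_two).1 e).elim hO2 hKo.not_two_dvd_nat) le_top
      (le_norm_coquo hn (by rw [Subgroup.normalizer_eq_top_iff.2 hK]; exact le_top))
    exact coquo_eq_self_iff.1 (le_antisymm h2 (le_coquo K)))
  have hq : Group.IsSolvable (QT O) := by
    have a1 : Group.IsSolvable (T : Subgroup (QT O)) := pg_sol Nat.prime_two T.isPGroup'
    have a2 : Group.IsSolvable (QT O ⧸ (T : Subgroup (QT O))) :=
      Cfsg.Agent.S0205.result (by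
        rw [← Subgroup.index]; rcases h3 with e | e <;> rw [e] <;> decide)
    exact Group.isSolvable_of_ker_le_range (T : Subgroup (QT O)).subtype (QuotientGroup.mk' (T : Subgroup (QT O))) (by simp)
  have := sol_of_quo hn (hodd (not_dvd_of_le hO2 inf_le_left)) (by rw [quo_top]; infer_instance)
  exact Group.isSolvable_of_surjective (f := (⊤ : Subgroup G).subtype) fun g => ⟨⟨g, trivial⟩, rfl⟩

theorem sol_of_meta (S : Sylow 2 G) {N : Subgroup G} {b : G} (h : Meta (S : Subgroup G) N b) : Group.IsSolvable G := by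
  have : Fact (Nat.Prime 2) := ⟨Nat.prime_two⟩
  by_cases hnpc : HasNormalPComplement 2 G
  · obtain ⟨P, K, hK, hc⟩ := hnpc
    have a1 : Group.IsSolvable K := Cfsg.Agent.S0205.result (by
      rw [← hc.index_eq_card]; exact Nat.not_even_iff_odd.1 fun e => P.not_dvd_index e.two_dvd)
    have a2 : Group.IsSolvable (P : Subgroup G) := pg_sol Nat.prime_two P.isPGroup'
    have := sol_sup a2 a1 (by rw [Subgroup.normalizer_eq_top_iff.2 hK]; exact le_top)
    rw [hc.sup_eq_top] at this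
    exact Group.isSolvable_of_surjective (f := (⊤ : Subgroup G).subtype) fun g => ⟨⟨g, trivial⟩, rfl⟩
  obtain ⟨P, x, hP, hx, hxo, hxc, hK⟩ := exists_max_aut hnpc
  obtain ⟨g, -, hg⟩ := sylow_subJ Nat.prime_two (isSylowIn_top Nat.prime_two S) hP le_top
  have hm := h.cj g
  obtain ⟨w, y, hw, hy, hgen⟩ := hm.gens hg
  have hX : MX _ _ P (zpowers x) _ w y := ⟨hm, hg, by rwa [card_zpowers], zpowers_le.2 hx,
    fun e => hxc (e (mem_zpowers x)), hw, hy, hgen⟩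
  have hPS := hX.eq_top fun s hs hsn hc => hK s hsn (ord_two hm.pg hs) hc
  obtain ⟨m, hm2, ⟨e⟩⟩ := hX.homocyclic hPS rfl
  exact sol_of_homocyclic S hm2 ((cjEquiv g _).trans ((MulEquiv.subgroupCongr hPS.symm).trans e))

end H03
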