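import Mathlib
/-! Cyclic vectors, pole placement, and products of two cyclic classes of linear maps. -/

set_option autoImplicit false

namespace H03.Ore

open Module Polynomial LinearMap

variable {F V W : Type*} [Field F] [AddCommGroup V] [Module F V] [AddCommGroup W] [Module F W]

/-- `u` is a cyclic vector of `A` -/
def Cyc (A : End F V) (u : V) : Prop := ∀ U : Submodule F V, u ∈ U → (∀ x ∈ U, A x ∈ U) → U = ⊤

theorem Cyc.fb {A : End F V} {u : V} (h : Cyc A u) (φ : V →ₗ[F] F) {c : F} (hc : c ≠ 0) :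
    Cyc (A + φ.smulRight u) (c • u) := fun U h1 h2 => by
  rw [U.smul_mem_iff hc] at h1
  exact h U h1 fun x hx => by simpa using U.sub_mem (h2 x hx) (U.smul_mem (φ x) h1)

theorem Cyc.step {A B : End F V} {u : V} (h : Cyc A u) (hB : Function.Surjective B) (hc : Commute A B) :
    Cyc A (B u) := fun U h1 h2 => by
  have := h (U.comap B) h1 fun x hx => by
    rw [Submodule.mem_comap, ← End.mul_apply, ← hc.eq]; exact h2 _ hx
  refine eq_top_iff.2 fun y _ => ?_
  obtain ⟨x, rfl⟩ := hB y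
  exact (this.ge Submodule.mem_top : x ∈ U.comap B)

theorem Cyc.conj {A : End F V} {B : End F W} {u : V} (h : Cyc A u) (P : V ≃ₗ[F] W) (hP : ∀ x, P (A x) = B (P x)) :
    Cyc B (P u) := fun U h1 h2 => by
  have := h (U.comap P.toLinearMap) h1 fun x hx => by
    rw [Submodule.mem_comap, LinearEquiv.coe_coe, hP]; exact h2 _ hx
  refine eq_top_iff.2 fun y _ => ?_
  obtain ⟨x, rfl⟩ := P.surjective y
  exact (this.ge Submodule.mem_top : x ∈ U.comap P.toLinearMap)

theorem divX_it (p : F[X]) (k i : ℕ) : (divX^[k] p).coeff i = p.coeff (i + k) := by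
  induction k generalizing i with
  | zero => rfl
  | succ k ih => rw [Function.iterate_succ_apply', coeff_divX, ih, add_assoc, add_comm 1]

variable [FiniteDimensional F V] [FiniteDimensional F W]

theorem Cyc.nf {A : End F V} {u : V} (h : Cyc A u) {n : ℕ} (hn : finrank F V = n) :
    ∃ (φ : V →ₗ[F] F) (c : ℕ → V) (b : Basis (Fin n) F V), c 0 = u ∧ c n = 0 ∧ (∀ i, b i = c i) ∧
      ∀ i : Fin n, A (c i) + φ (c i) • u = c (i + 1) := by
  let c : ℕ → V := fun i => aeval A (divX^[n - i] A.charpoly) u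
  have h0 : c 0 = u := by
    have : divX^[n - 0] A.charpoly = 1 := Polynomial.ext fun i => by
      rw [divX_it, coeff_one]
      split_ifs with e
      · rw [e, zero_add, Nat.sub_zero, ← hn, ← A.charpoly_natDegree]; exact A.charpoly_monic
      · exact coeff_eq_zero_of_natDegree_lt (by rw [A.charpoly_natDegree]; omega)
    simp only [c, this, map_one, End.one_apply]
  have h1 : c n = 0 := by simp [c, A.aeval_self_charpoly]
  have h2 : ∀ i : Fin n, A (c i) + (divX^[n - (i + 1)] A.charpoly).coeff 0 • u = c (i + 1) := fun i => by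
    simp only [c]
    conv_rhs => rw [← X_mul_divX_add (divX^[n - (i + 1)] A.charpoly)]
    rw [show n - i = n - (i + 1) + 1 by omega, Function.iterate_succ_apply', map_add, map_mul, aeval_X, aeval_C,
      Algebra.algebraMap_eq_smul_one]
    rfl
  have h3 : ∀ i ≤ n, c i ∈ Submodule.span F (Set.range fun i : Fin n => c i) := fun i hi => by
    rcases hi.lt_or_eq with hi | rfl
    exacts [Submodule.subset_span ⟨⟨i, hi⟩, rfl⟩, h1 ▸ zero_mem _]
  have h4 := h (.span F (Set.range fun i : Fin n => c i)) (h0 ▸ h3 0 n.zero_le) fun x hx => (Submodule.span_le (p := Submodule.comap A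
      (.span F (Set.range fun i : Fin n => c i)))).2 (by
    rintro _ ⟨i, rfl⟩
    change A (c i) ∈ Submodule.span F _
    exact (eq_sub_of_add_eq (h2 i)).symm ▸ sub_mem (h3 _ i.2) (Submodule.smul_mem _ _ (h0 ▸ h3 0 n.zero_le))) hx
  let b := basisOfTopLeSpanOfCardEqFinrank _ h4.ge (by simp [hn])
  have h5 : ∀ i, b i = c i := fun i => by simp [b]
  exact ⟨b.constr F fun i => (divX^[n - (i + 1)] A.charpoly).coeff 0, c, b, h0, h1, h5, fun i => by
    rw [← h2, ← h5, b.constr_basis]⟩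

/-- pole placement -/
theorem Cyc.place {A : End F V} {B : End F W} {u : V} {w : W} (h : Cyc A u) (h' : Cyc B w)
    (hn : finrank F V = finrank F W) :
    ∃ (φ : V →ₗ[F] F) (P : V ≃ₗ[F] W), P u = w ∧ ∀ x, P ((A + φ.smulRight u) x) = B (P x) := by
  obtain ⟨φ, c, b, h0, h1, h2, h3⟩ := h.nf hn
  obtain ⟨ψ, d, e, k0, k1, k2, k3⟩ := h'.nf rfl
  obtain ⟨P, hP⟩ : ∃ P : V ≃ₗ[F] W, ∀ i, P (b i) = e i := ⟨b.equiv e (.refl _), fun i => b.equiv_apply _ _ _⟩
  have h4 : ∀ i ≤ finrank F W, P (c i) = d i := fun i hi => by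
    rcases hi.lt_or_eq with hi | hi
    · rw [← h2 ⟨i, hi⟩, ← k2 ⟨i, hi⟩, hP]
    · rw [hi, h1, k1, map_zero]
  have h5 : P u = w := by rw [← h0, ← k0]; exact h4 0 (Nat.zero_le _)
  refine ⟨φ - ψ ∘ₗ P.toLinearMap, P, h5, fun x => LinearMap.congr_fun (b.ext
    (f₁ := P.toLinearMap ∘ₗ (A + (φ - ψ ∘ₗ P.toLinearMap).smulRight u)) (f₂ := B ∘ₗ P.toLinearMap) fun i => ?_) x⟩
  have := h4 (i + 1) i.2
  rw [← h3, ← k3, ← h4 i i.2.le] at this
  rw [map_add, map_smul, h5, ← h2] at this
  change P (A (b i) + (φ (b i) - ψ (P (b i))) • u) = B (P (b i))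
  rw [map_add, map_smul, h5, sub_smul, ← add_sub_assoc, this, add_sub_cancel_right]

theorem card_cyc [Finite F] {w : W} (hw : w ≠ 0) :
    Nat.card (End F W)ˣ < 2 * {Z : (End F W)ˣ | Cyc Z.1 w}.ncard := by
  have := Module.finite_of_finite F (M := W)
  have : Finite (End F W) := .of_injective _ DFunLike.coe_injective
  obtain ⟨k, hk⟩ : ∃ k, finrank F W = k + 1 := ⟨_, (Nat.succ_pred_eq_of_pos (finrank_pos_iff_exists_ne_zero.2 ⟨w, hw⟩)).symm⟩
  obtain ⟨e, he⟩ : ∃ e : Basis (Fin (k + 1)) F W, e 0 = w := by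
    let e := finBasisOfFinrankEq F W hk
    obtain ⟨g, hg⟩ := Submodule.exists_linearEquiv_restrict_eq
      ((LinearEquiv.toSpanNonzeroSingleton F W _ (e.ne_zero 0)).symm ≪≫ₗ LinearEquiv.toSpanNonzeroSingleton F W w hw)
    refine ⟨e.map g, ?_⟩
    have := hg (LinearEquiv.toSpanNonzeroSingleton F W _ (e.ne_zero 0) 1)
    rw [LinearEquiv.trans_apply, LinearEquiv.symm_apply_apply] at this
    simpa using this.symm
  let C : W → End F W := fun y => e.constr F (Fin.snoc (fun i => e i.succ) y)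
  have c1 : ∀ y (i : Fin k), C y (e i.castSucc) = e i.succ := fun y i => by simp [C]
  have c2 : ∀ y, C y (e (Fin.last k)) = y := fun y => by simp [C]
  have c3 : ∀ y, Cyc (C y) w := fun y U h1 h2 => eq_top_iff.2 (e.span_eq ▸ Submodule.span_le.2 (by
    rintro _ ⟨i, rfl⟩
    induction i using Fin.induction with
    | zero => exact he ▸ h1
    | succ i ih => exact c1 y i ▸ h2 _ ih))
  have c4 : ∀ y : {y // e.repr y 0 ≠ 0}, IsUnit (C y) := fun ⟨y, hy⟩ => (isUnit_iff_range_eq_top _).2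
    (eq_top_iff.2 (e.span_eq ▸ Submodule.span_le.2 (by
      have h1 : ∀ i : Fin k, e i.succ ∈ range (C y) := fun i => ⟨_, c1 y i⟩
      rintro _ ⟨i, rfl⟩
      refine Fin.cases ?_ h1 i
      have h2 : ∑ i, e.repr y i • e i ∈ range (C y) := ⟨_, (c2 y).trans (e.sum_repr y).symm⟩
      rwa [Fin.sum_univ_succ, Submodule.add_mem_iff_left _
        (Submodule.sum_mem _ fun i _ => Submodule.smul_mem _ _ (h1 i)), Submodule.smul_mem_iff _ hy] at h2)))
  let f : MulAction.stabilizer (End F W)ˣ w × {y // e.repr y 0 ≠ 0} → {Z : (End F W)ˣ | Cyc Z.1 w} := fun p =>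
    ⟨p.1.1 * (c4 p.2).unit * p.1.1⁻¹, by
      have := (c3 p.2).conj (B := (p.1.1 * (c4 p.2).unit * p.1.1⁻¹).1) (GeneralLinearGroup.toLinearEquiv p.1.1)
        fun x => by simp [← End.mul_apply]
      rwa [show GeneralLinearGroup.toLinearEquiv p.1.1 w = w from p.1.2] at this⟩
  have hf : Function.Injective f := fun ⟨⟨P, hP⟩, y⟩ ⟨⟨Q, hQ⟩, z⟩ h => by
    have h1 : P * (c4 y).unit * P⁻¹ = Q * (c4 z).unit * Q⁻¹ := congrArg Subtype.val h
    obtain rfl : P = Q := Units.ext (e.ext fun i => by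
      induction i using Fin.induction with
      | zero => exact he ▸ hP.trans hQ.symm
      | succ i ih =>
        have := congrArg (fun Z : (End F W)ˣ => Z.1 (P.1 (e i.castSucc))) h1
        conv_rhs at this => rw [ih]
        simpa only [← End.mul_apply, Units.val_mul, Units.inv_mul_cancel_right, IsUnit.unit_spec,
          End.mul_apply _ (C _), c1] using this)
    have h2 : C y = C z := congrArg Units.val (mul_left_cancel (mul_right_cancel h1))
    rw [Subtype.ext ((c2 y).symm.trans (h2 ▸ c2 z) : y.1 = z.1)]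
  have h1 := Nat.card_le_card_of_injective f hf
  have h2 : Nat.card W ≤ 2 * Nat.card {y // e.repr y 0 ≠ 0} := by
    rw [two_mul, ← Nat.card_sum]
    classical
    refine Nat.card_le_card_of_injective (fun y => if h : e.repr y 0 = 0 then .inl ⟨y + e 0, by simp [h]⟩
      else .inr ⟨y, h⟩) fun y z h => ?_
    dsimp only at h
    split_ifs at h <;> simpa using h
  have h3 := (MulAction.stabilizer (End F W)ˣ w).index_mul_card
  have h4 : (MulAction.stabilizer (End F W)ˣ w).index < Nat.card W := by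
    rw [MulAction.index_stabilizer, ← Set.ncard_univ]
    exact Set.ncard_lt_ncard (Set.ssubset_univ_iff.2 fun h => by
      obtain ⟨g, hg⟩ := h.ge (Set.mem_univ (0 : W))
      exact hw ((smul_eq_zero_iff_eq g).1 hg))
  rw [Nat.card_prod, Nat.card_coe_set_eq] at h1
  have := Nat.card_pos (α := MulAction.stabilizer (End F W)ˣ w)
  nlinarith

theorem two_cyc [Finite F] {w : W} (hw : w ≠ 0) (N : (End F W)ˣ) :
    ∃ Z : (End F W)ˣ, Cyc Z.1 (Z.1 w) ∧ Cyc (Z * N).1 (Z.1 w) := by
  have := Module.finite_of_finite F (M := W)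
  have : Finite (End F W) := .of_injective _ DFunLike.coe_injective
  have s : ∀ Z : (End F W)ˣ, Function.Surjective Z.1 := fun Z => range_eq_top.1 ((isUnit_iff_range_eq_top _).1 Z.isUnit)
  have h1 := card_cyc (F := F) hw
  have h2 := card_cyc (F := F) ((smul_ne_zero_iff_ne N⁻¹).2 hw)
  rw [← Set.ncard_preimage_of_injective_subset_range (mul_left_injective N) fun x _ => mul_right_surjective N x] at h2
  by_contra h
  have h3 := Set.ncard_union_eq (s := {Z : (End F W)ˣ | Cyc Z.1 w}) (t := (· * N) ⁻¹' {Z | Cyc Z.1 (N⁻¹ • w)})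
    (Set.disjoint_left.2 fun Z h4 h5 => h ⟨Z, Cyc.step h4 (s Z) (.refl _), by
      simpa [Units.smul_def, ← End.mul_apply] using Cyc.step h5 (s (Z * N)) (.refl _)⟩)
  have := Set.ncard_le_card ({Z : (End F W)ˣ | Cyc Z.1 w} ∪ (· * N) ⁻¹' {Z | Cyc Z.1 (N⁻¹ • w)})
  omega

end H03.Ore
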