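import Mathlib
import Cfsg.Agent.H03.Ore
/-! Every non-scalar map of determinant one is a commutator of maps of determinant one. -/

set_option autoImplicit false

namespace H03.Ore

open Module Polynomial LinearMap

variable {F V W W' : Type*} [Field F] [AddCommGroup V] [Module F V] [AddCommGroup W] [Module F W]
  [AddCommGroup W'] [Module F W'] [FiniteDimensional F V] [FiniteDimensional F W] [FiniteDimensional F W']

/-- `a ⊕ G` -/
abbrev pm (a : F) (G : End F W) : End F (F × W) := prodMap (a • (1 : End F F)) G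

theorem det_pm (a : F) (G : End F W) : (pm a G).det = a * G.det := by simp [det_prodMap]

omit [FiniteDimensional F V] [FiniteDimensional F W] in
theorem det_eq {A : End F V} {B : End F W} (P : V ≃ₗ[F] W) (h : ∀ x, P (A x) = B (P x)) : A.det = B.det := by
  rw [← det_conj A P]
  congr 1
  ext x
  simp [h]

theorem surj_of_det {A : End F V} (h : A.det ≠ 0) : Function.Surjective A :=
  range_eq_top.1 ((isUnit_iff_range_eq_top _).1 (A.isUnit_iff_isUnit_det.2 h.isUnit))

omit [FiniteDimensional F W] in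
theorem cyc_prod {a : F} {G : End F W} {w : W} (h : Cyc G w) (ha : Function.Surjective (G - a • (1 : End F W))) :
    Cyc (pm a G) (1, w) := fun U h1 h2 => by
  have h3 := h.step ha ((Commute.refl G).sub_right ((Commute.one_right G).smul_right a)) (U.comap (inr F F W))
    (by simpa using U.sub_mem (h2 _ h1) (U.smul_mem a h1)) fun x hx => by simpa using h2 _ hx
  have h4 : ∀ x, (0, x) ∈ U := fun x => (h3.ge Submodule.mem_top : x ∈ U.comap (inr F F W))
  exact eq_top_iff.2 fun ⟨c, x⟩ _ => by simpa using U.add_mem (U.smul_mem c h1) (h4 (x - c • w))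

/-- a conjugate of `a ⊕ G` times `M` lies in any prescribed cyclic class of the right determinant -/
theorem core [Finite F] {M : End F (F × W)} (hM : M.det ≠ 0) (hN : Function.Injective (snd F F W ∘ₗ M ∘ₗ inr F F W))
    (hw : (M (1, 0)).2 ≠ 0) {a : F} (h0 : a ≠ 0) {G : End F W'} {w : W'} (hG : Cyc G w) (hd : G.det ≠ 0)
    (ha : Function.Surjective (G - a • (1 : End F W'))) (hr : finrank F W = finrank F W') {A : End F V} {v : V} (hA : Cyc A v)
    (hr' : finrank F (F × W) = finrank F V) (hd' : A.det = a * G.det * M.det) :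
    ∃ (X : End F (F × W)) (Q : (F × W) ≃ₗ[F] F × W') (P : (F × W) ≃ₗ[F] V),
      (∀ x, Q (X x) = pm a G (Q x)) ∧ ∀ x, P ((X * M) x) = A (P x) := by
  obtain ⟨N, hN⟩ := (isUnit_iff_ker_eq_bot _).2 (ker_eq_bot.2 hN)
  obtain ⟨Z, z1, z2⟩ := two_cyc hw N
  obtain ⟨φ, P, -, hP⟩ := z1.place hG hr
  obtain ⟨Y, hY⟩ : ∃ Y, Y = Z.1 + φ.smulRight (Z.1 (M (1, 0)).2) := ⟨_, rfl⟩
  rw [← hY] at hP
  have y1 : Y.det = G.det := det_eq P hP
  have y2 : Y (M (1, 0)).2 = (1 + φ (M (1, 0)).2) • Z.1 (M (1, 0)).2 := by simp [hY, add_smul]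
  have y3 : Cyc (Y * N.1) (Y (M (1, 0)).2) := by
    have := z2.fb (φ ∘ₗ N.1) (c := 1 + φ (M (1, 0)).2) fun e => hw ((injective_iff_surjective.2
      (surj_of_det (y1 ▸ hd))) (by rw [y2, e, zero_smul, map_zero]))
    rw [← y2] at this
    convert this using 1
    ext x
    simp [hY]
  let X := pm a Y
  have x1 : Cyc (X * M) (1, 0) := fun U h1 h2 => by
    have h3 : ∀ x ∈ U, (0, Y (M x).2) ∈ U := fun x hx => by
      simpa [X, Prod.map] using U.sub_mem (h2 x hx) (U.smul_mem (a * (M x).1) h1)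
    have h4 := y3 (U.comap (inr F F W)) (h3 _ h1) fun x hx => by simpa [hN] using h3 _ hx
    exact eq_top_iff.2 fun ⟨c, x⟩ _ => by
      simpa using U.add_mem (U.smul_mem c h1) (h4.ge Submodule.mem_top : x ∈ U.comap (inr F F W))
  obtain ⟨ψ, R, -, hR⟩ := x1.place hA hr'
  have x2 : X.det = a * G.det := by rw [det_pm, y1]
  have x3 : (X * M).det ≠ 0 := by rw [map_mul, x2]; positivity
  obtain ⟨I, hI⟩ := ((X * M).isUnit_iff_isUnit_det.2 x3.isUnit).exists_left_inv
  have t1 : transvection (ψ ∘ₗ I) (1, 0) * X * M = X * M + ψ.smulRight (1, 0) := LinearMap.ext fun x => by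
    have : I (X (M x)) = x := LinearMap.congr_fun hI x
    simp only [End.mul_apply, transvection.apply, comp_apply, this, LinearMap.add_apply, smulRight_apply]
  have t2 : ψ (I (1, 0)) = 0 := by
    have := det_eq R hR
    rw [← t1, mul_assoc, map_mul, hd', ← x2, ← map_mul _ X, transvection.det, mul_left_eq_self₀] at this
    simpa using this.resolve_right x3
  obtain ⟨J, hJ⟩ := ((isUnit_iff_range_eq_top (Y - a • (1 : End F W))).2 (eq_top_iff.2 fun y _ => by
    obtain ⟨z, hz⟩ := ha (P y)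
    obtain ⟨z, rfl⟩ := P.surjective z
    exact ⟨z, P.injective (by simpa [hP] using hz)⟩)).exists_left_inv
  refine ⟨transvection (ψ ∘ₗ I) (1, 0) * X, LinearEquiv.transvection (f := -(ψ ∘ₗ I ∘ₗ X ∘ₗ inr F F W ∘ₗ J ∘ₗ snd F F W))
    (v := (1, 0)) (by simp [Prod.mk_zero_zero]) ≪≫ₗ (LinearEquiv.refl F F).prodCongr P, R, fun ⟨c, x⟩ => ?_, fun x => by rw [t1, hR]⟩
  have h1 : J (Y x) = x + a • J x := by simpa [sub_eq_iff_eq_add] using LinearMap.congr_fun hJ x
  have h2 : ψ (I (a * c, Y x)) = ψ (I (0, Y x)) := by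
    have : ((a * c, Y x) : F × W) = (a * c) • (1, 0) + (0, Y x) := by simp
    rw [this, map_add, map_add, map_smul, map_smul, t2, smul_zero, zero_add]
  have h3 : ((0, Y x + a • Y (J x)) : F × W) = (0, Y x) + a • (0, Y (J x)) := by simp
  have h4 : ψ (I (0, Y x + a • Y (J x))) = ψ (I (0, Y x)) + a * ψ (I (0, Y (J x))) := by
    rw [h3, map_add, map_add, map_smul, map_smul, smul_eq_mul]
  refine Prod.ext ?_ ?_
  · change a * c + ψ (I (a * c, Y x)) * 1 + -ψ (I (a * 0, Y (J (Y x + _ • 0)))) * 1 =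
      a * (c + -ψ (I (a * 0, Y (J x))) * 1)
    rw [smul_zero, add_zero, mul_zero, h1, map_add, map_smul, h4, h2]
    ring
  · change P (Y x + _ • 0 + _ • 0) = G (P (x + _ • 0))
    simp [hP]

theorem exists_G {k : ℕ} {a : F} {f : F[X]} (hf : f.Monic) (hk : f.natDegree = k) (ha : f.eval a ≠ 0) :
    ∃ (G : End F (Fin k → F)) (w : Fin k → F), Cyc G w ∧ G.det = (-1) ^ k * f.coeff 0 ∧
      Function.Surjective (G - a • (1 : End F (Fin k → F))) := by
  let pb := AdjoinRoot.powerBasis hf.ne_zero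
  have := pb.finite
  let P : AdjoinRoot f ≃ₗ[F] Fin k → F := .ofFinrankEq _ _ (by simp [pb.finrank, pb, hk])
  let G := Algebra.lmul F _ (AdjoinRoot.root f)
  have h1 : ∀ x, P (G x) = P.conj G (P x) := fun x => by simp
  refine ⟨P.conj G, P 1, Cyc.conj (fun U h2 h3 => ?_) P h1, ?_, fun y => ?_⟩
  · refine eq_top_iff.2 (pb.basis.span_eq ▸ Submodule.span_le.2 ?_)
    rintro _ ⟨⟨i, hi⟩, rfl⟩
    rw [pb.basis_eq_pow]
    change pb.gen ^ i ∈ U
    clear hi
    induction i with
    | zero => simpa using h2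
    | succ i ih => exact pow_succ' pb.gen i ▸ h3 _ ih
  · have := Algebra.PowerBasis.norm_gen_eq_coeff_zero_minpoly pb
    rw [AdjoinRoot.minpoly_powerBasis_gen_of_monic hf] at this
    rw [← det_eq P h1, ← hk]
    exact this
  · refine ⟨P (-(f.eval a)⁻¹ • (AdjoinRoot.mk f (f /ₘ (X - C a)) * P.symm y)), ?_⟩
    have h2 := congrArg (AdjoinRoot.mk f) (modByMonic_add_div f (X - C a))
    rw [modByMonic_X_sub_C_eq_C_eval, AdjoinRoot.mk_self, map_add, map_mul, map_sub, AdjoinRoot.mk_X,
      AdjoinRoot.mk_C, AdjoinRoot.mk_C] at h2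
    rw [LinearMap.sub_apply, ← h1, LinearMap.smul_apply, End.one_apply, ← map_smul, ← map_sub, ← P.eq_symm_apply]
    simp only [G, Algebra.coe_lmul_eq_mul, mul_apply', Algebra.smul_def, AdjoinRoot.algebraMap_eq, map_neg]
    have h3 : AdjoinRoot.of f (f.eval a)⁻¹ * AdjoinRoot.of f (f.eval a) = 1 := by
      rw [← map_mul, inv_mul_cancel₀ ha, map_one]
    linear_combination (-(AdjoinRoot.of f (f.eval a)⁻¹ * P.symm y)) * h2 + P.symm y * h3

omit [FiniteDimensional F W] in
/-- coordinates adapted to a non-scalar map -/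
theorem coords {M : End F V} (hM : M.det ≠ 0) (h : ¬ ∃ c : F, M = c • 1) :
    ∃ (W : Submodule F V) (e : V ≃ₗ[F] F × W), Function.Injective (snd F F W ∘ₗ e.conj M ∘ₗ inr F F W) ∧
      (e.conj M (1, 0)).2 ≠ 0 := by
  have hi := injective_iff_surjective.2 (surj_of_det hM)
  obtain ⟨v, hv⟩ : ∃ v, LinearIndependent F ![v, M v] := by
    by_contra! h1
    exact h (exists_eq_smul_id_of_forall_notLinearIndependent h1)
  rw [LinearIndependent.pair_iff] at hv
  obtain ⟨f, f1, f2⟩ := Submodule.exists_dual_map_eq_bot_of_notMem (p := F ∙ (M v - v)) (x := M v) (fun h => by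
    obtain ⟨c, hc⟩ := Submodule.mem_span_singleton.1 h
    have := hv c (1 - c) (by linear_combination (norm := module) (-1 : F) • hc)
    simpa [this.1] using this.2) inferInstance
  have f3 : f v = f (M v) := by
    have := f2.le (Submodule.mem_map_of_mem (Submodule.mem_span_singleton_self _))
    rw [Submodule.mem_bot, map_sub] at this
    exact (sub_eq_zero.1 this).symm
  let e : (F × ker f) ≃ₗ[F] V := .ofBijective ((toSpanSingleton F V (M v)).coprod (ker f).subtype) ⟨by
    refine (injective_iff_map_eq_zero _).2 fun ⟨c, x, hx⟩ h => ?_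
    obtain rfl : c = 0 := by simpa [mem_ker.1 hx, f1] using congrArg f h
    simpa using h, fun y => ⟨(f y / f (M v), ⟨y - (f y / f (M v)) • M v, by simp [f1]⟩), by simp⟩⟩
  have he : ∀ x, e x = x.1 • M v + x.2 := fun x => rfl
  have key : ∀ y, (e.symm (M y)).2 = 0 → ∃ c : F, y = c • v := fun y h => ⟨(e.symm (M y)).1, hi (by
    simpa [h] using he (e.symm (M y)))⟩
  refine ⟨ker f, e.symm, (injective_iff_map_eq_zero _).2 fun ⟨x, hx⟩ h => ?_, fun h => ?_⟩
  · obtain ⟨c, hc⟩ := key (e (0, ⟨x, hx⟩)) h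
    obtain rfl : x = c • v := by simpa [he] using hc
    obtain rfl : c = 0 := by simpa [f3, f1] using hx
    simp
  · obtain ⟨c, hc⟩ := key (e (1, 0)) h
    simpa using (hv c (-1) (by simpa [he, ← sub_eq_add_neg, sub_eq_zero] using hc.symm)).2

theorem comm_of_not_scalar [Finite F] {M : End F V} (hM : M.det = 1) (h : ¬ ∃ c : F, M = c • 1) {a : F} {f : F[X]}
    (hf : f.Monic) (hk : f.natDegree + 1 = finrank F V) (ha : f.eval a ≠ 0)
    (hd : a * ((-1) ^ f.natDegree * f.coeff 0) = 1) :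
    ∃ X R : End F V, X.det = 1 ∧ R.det = 1 ∧ X * M * R = R * X := by
  obtain ⟨W, e, h1, h2⟩ := coords (hM ▸ one_ne_zero) h
  obtain ⟨G, w, g1, g2, g3⟩ := exists_G hf rfl ha
  rw [← g2] at hd
  have h3 : (e.conj M).det = 1 := by rw [← hM]; exact det_conj M e
  have h4 : finrank F W = finrank F (Fin f.natDegree → F) := by
    have := e.finrank_eq
    simp at this ⊢
    omega
  obtain ⟨X, Q, P, q1, q2⟩ := core (h3 ▸ one_ne_zero) h1 h2 (left_ne_zero_of_mul_eq_one hd) g1
    (right_ne_zero_of_mul_eq_one hd) g3 h4 (cyc_prod g1 g3) (by simp [h4]) (by rw [det_pm, h3, mul_one])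
  let S := Q ≪≫ₗ P.symm
  have h5 : (S : End F (F × W)).det ≠ 0 := (LinearEquiv.isUnit_det' S).ne_zero
  let D : End F (F × W) := Q.symm.conj (pm (S : End F (F × W)).det⁻¹ 1)
  refine ⟨e.symm.conj X, e.symm.conj (S * D), ?_, ?_, ?_⟩
  · rw [← hd, ← det_pm, ← det_eq Q q1]; exact det_conj X e.symm
  · refine (det_conj (S * D : End F (F × W)) e.symm).trans ?_
    rw [map_mul, show D.det = _ from det_conj (pm (S : End F (F × W)).det⁻¹ (1 : End F (Fin f.natDegree → F))) Q.symm, det_pm, map_one, mul_one, mul_inv_cancel₀ h5]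
  · have h7 : ∀ x, X (D x) = D (X x) := fun x => Q.injective (by
      simp [D, LinearEquiv.conj_apply, q1, mul_left_comm])
    refine LinearMap.ext fun x => e.injective (P.injective ?_)
    have := q2 (S (D (e x)))
    simp only [End.mul_apply, LinearEquiv.conj_apply, comp_apply, LinearEquiv.coe_coe, LinearEquiv.symm_symm,
      LinearEquiv.apply_symm_apply] at this ⊢
    rw [this, ← h7]
    simp [S, q1]

open Matrix in
theorem scalar_block {d h : ℕ} (c : F) {J Y : Matrix (Fin d) (Fin d) F} (h1 : Y * J = c ^ (h + 1) • (J * Y))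
    (h2 : (-1) ^ (h * d) * J.det = 1) (h3 : (c ^ ((h + 1) * h / 2)) ^ d * Y.det ^ (h + 1) = 1) {n : ℕ}
    (hn : n = d * (h + 1)) :
    ∃ A B : Matrix (Fin n) (Fin n) F, A.det = 1 ∧ B.det = 1 ∧ B * A = c • (A * B) := by
  let e : Fin n ≃ Fin d × Fin (h + 1) := (finCongr hn).trans finProdFinEquiv.symm
  let A := (blockDiagonal fun i : Fin (h + 1) => if i = 0 then J else 1).submatrix _root_.id
    (Equiv.prodCongrRight fun _ => finRotate (h + 1) : Equiv.Perm (Fin d × Fin (h + 1)))
  let B := blockDiagonal fun i : Fin (h + 1) => c ^ i.1 • Y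
  refine ⟨A.submatrix e e, B.submatrix e e, ?_, ?_, ?_⟩
  · rw [det_submatrix_equiv_self, det_permute', det_blockDiagonal, Equiv.Perm.sign_prodCongrRight, ← h2]
    simp [sign_finRotate, apply_ite det, pow_mul]
  · rw [det_submatrix_equiv_self, det_blockDiagonal, ← h3]
    simp only [Matrix.det_smul, Finset.prod_mul_distrib, Finset.prod_pow, Finset.prod_pow_eq_pow_sum]
    simp [Fin.sum_univ_eq_sum_range (fun i => i), Finset.sum_range_id]
  · rw [submatrix_mul_equiv, submatrix_mul_equiv]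
    refine congrArg (submatrix · e e) (?_ : _ = c • (A * B))
    ext ⟨a, i⟩ ⟨b, j⟩
    have h4 : (c ^ (j + 1).1 • Y * if j + 1 = 0 then J else 1) = c • ((if j + 1 = 0 then J else 1) * c ^ j.1 • Y) := by
      rcases eq_or_ne j (Fin.last h) with rfl | h5
      · simp [h1, smul_smul, pow_succ']
      · have h6 := Fin.val_add_one_of_lt (Fin.lt_last_iff_ne_last.2 h5)
        simp [show j + 1 ≠ 0 from fun e => by simp [e] at h6, h6, smul_smul, pow_succ']
    by_cases h5 : i = j + 1
    · have := congrFun₂ h4 a b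
      rw [Matrix.smul_apply, Matrix.mul_apply, Matrix.mul_apply] at this
      simpa [A, B, Matrix.mul_apply, blockDiagonal_apply, Fintype.sum_prod_type, h5] using this
    · simp [A, B, Matrix.mul_apply, blockDiagonal_apply, Fintype.sum_prod_type, h5]

open Matrix in
theorem scalar_comm [Finite F] {n : ℕ} (hn : n ≠ 0) {c : F} (hc : c ^ n = 1) :
    ∃ A B : Matrix (Fin n) (Fin n) F, A.det = 1 ∧ B.det = 1 ∧ B * A = c • (A * B) := by
  obtain ⟨m, rfl⟩ := Nat.exists_eq_succ_of_ne_zero hn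
  by_cases h : c ^ ((m + 1) * m / 2) = 1
  · exact scalar_block (d := 1) (h := m) c (J := (-1 : F) ^ m • 1) (Y := 1) (by simp [hc]) (by simp [← mul_pow])
      (by simp [h]) (by simp)
  obtain ⟨k, rfl⟩ : Odd m := Nat.not_even_iff_odd.1 fun ⟨k, hk⟩ => h (by
    rw [hk, ← two_mul, mul_left_comm, Nat.mul_div_cancel_left _ two_pos, pow_mul, two_mul, ← hk, hc, one_pow])
  have h0 : c ^ (k + 1) ≠ 1 := fun e => h (by
    rw [show 2 * k + 1 + 1 = 2 * (k + 1) by ring, mul_assoc, Nat.mul_div_cancel_left _ two_pos, pow_mul, e, one_pow])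
  have h1 : c ^ (k + 1) = -1 := (sq_eq_one_iff.1 (by rw [← hc, Nat.succ_eq_add_one]; ring)).resolve_left h0
  cases nonempty_fintype F
  obtain ⟨x, y, hxy⟩ := FiniteField.exists_root_sum_quadratic (f := X ^ 2) (g := X ^ 2 - C c) (degree_X_pow 2)
    (degree_X_pow_sub_C two_pos _) (FiniteField.odd_card_of_char_ne_two fun e => h0 (by
      have := ringChar.of_eq e
      rw [h1, CharTwo.neg_eq]))
  refine scalar_block (d := 2) (h := k) c (J := !![0, -1; 1, 0]) (Y := !![x, y; y, -x]) (by simp [h1])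
    (by simp [pow_mul']) ?_ (by omega)
  have h2 : x * -x - y * y = -1 * c := by simp at hxy; linear_combination -hxy
  rw [← pow_mul, Nat.div_mul_cancel (mul_comm k _ ▸ (Nat.even_mul_succ_self k).two_dvd), det_fin_two_of, h2, mul_pow,
    pow_mul, h1, ← mul_assoc, ← pow_add, ← pow_succ, show k + (k + 1) + 1 = 2 * (k + 1) by ring, pow_mul]
  simp

end H03.Ore
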