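import Mathlib
import Cfsg.Agent.H02.L3

/-!
Self-centralising elements of order six in `PSL₂(q)` (namespace `H03.P6`): `psl6`.
-/

set_option autoImplicit false

namespace H03.P6
open Cfsg BG Subgroup H02.L3 L L.Dk
open scoped MatrixGroups

theorem psl6 {F : Type*} [Field F] [Fintype F] (t : PSL(2, F)) (ht : orderOf t = 6) (hC : centralizer {t} = zpowers t) :
    Fintype.card F = 11 ∨ Fintype.card F = 13 := by
  obtain ⟨p, _⟩ := CharP.exists F
  have := Fact.mk (CharP.char_is_prime F p)
  obtain h | h | ⟨T, h⟩ := cent_cases p (c := t) (by rintro rfl; simp at ht)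
  · have d := ht ▸ orderOf_dvd_of_pow_eq_one (h.pow t (mem_cent1_self t))
    rcases (Nat.dvd_prime this.out).1 d with e | e
    · omega
    · exact absurd (e ▸ this.out) (by decide)
  · have := h.card
    rw [hC, Nat.card_zpowers, ht] at this
    rcases dd_cases (F := F) with e | e <;> rw [e.2] at this <;> omega
  · have := h.ord; omega

end H03.P6
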