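import Mathlib
import Cfsg.Agent.H01.Hall

/-! Subgroups of symmetric groups containing Sylow subgroups: cycles, four-groups and the
equivalence classes generated by three-cycles. -/

namespace H03.Sym

open Equiv Equiv.Perm Finset Subgroup MulAction
open scoped Pointwise

section grp
variable {G : Type*} [Group G] [Finite G]

theorem relIndex_dvd_of_norm {N D M : Subgroup G} [M.Normal] (h : N ≤ normalizer (D : Set G))
    (hD : D ≤ M) : N.relIndex D ∣ N.relIndex M := by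
  have hL : D ≤ normalizer (D : Set G) ⊓ M := le_inf le_normalizer hD
  have := (normal_subgroupOf_iff_le_normalizer hL).2 inf_le_left
  have h1 := H01.relIndex_dvd_index_of_normal_right ((N ⊓ M).subgroupOf (normalizer (D : Set G) ⊓ M))
    (D.subgroupOf (normalizer (D : Set G) ⊓ M))
  rw [relIndex_subgroupOf hL, ← inf_relIndex_right, inf_assoc, inf_eq_right.2 hD, inf_relIndex_right] at h1
  rw [← inf_relIndex_right N M, ← relIndex_mul_relIndex _ _ M (inf_le_inf_right M h) inf_le_right]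
  exact h1.mul_right _

omit [Finite G] in
theorem conj_into {p : ℕ} (hp : p.Prime) {N D E : Subgroup G} (hE : IsPGroup p E) (h : E ≤ D)
    (hN : ¬ p ∣ N.relIndex D) : ∃ d ∈ D, ∀ x ∈ E, d * x * d⁻¹ ∈ N := by
  have := Fact.mk hp
  obtain ⟨y, hy⟩ := (hE.comap_subtype (K := D)).nonempty_fixed_point_of_prime_not_dvd_card
    (D ⧸ N.subgroupOf D) hN
  obtain ⟨d, rfl⟩ := QuotientGroup.mk_surjective y
  refine ⟨d⁻¹, inv_mem d.2, fun x hx => ?_⟩
  have : ((x⁻¹ * d)⁻¹ * d : G) ∈ N := (QuotientGroup.eq (s := N.subgroupOf D)).1 (hy ⟨⟨x, h hx⟩⁻¹, inv_mem hx⟩)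
  simpa [mul_assoc] using this

omit [Finite G] in
theorem dvd_orderOf_of_fix {α : Type*} [MulAction G α] {p : ℕ} (hp : p.Prime) {h : G} {a : α}
    (h1 : h ^ p • a = a) (h2 : h • a ≠ a) : p ∣ orderOf h := by
  by_contra h3
  obtain ⟨k, hk⟩ := exists_pow_eq_self_of_coprime (x := h) (n := p) (hp.coprime_iff_not_dvd.2 h3)
  exact h2 (hk ▸ (stabilizer G a).pow_mem h1 k)

end grp

variable {α : Type*} [Fintype α] [DecidableEq α] {H : Subgroup (Perm α)}

/-- permutations supported in `U` -/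
def fixU (U : Finset α) : Subgroup (Perm α) where
  carrier := {g | g.support ⊆ U}
  one_mem' := by simp
  mul_mem' hg hk := (support_mul_le _ _).trans (union_subset hg hk)
  inv_mem' hg := by simpa using hg

theorem mem_fixU {U : Finset α} {g : Perm α} : g ∈ fixU U ↔ g.support ⊆ U := Iff.rfl

theorem fix_of_not_mem {U : Finset α} {g : Perm α} (h : g.support ⊆ U) {x : α} (hx : x ∉ U) : g x = x :=
  notMem_support.1 fun e => hx (h e)

/-- `U` is invariant under `H` -/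
def Inv (H : Subgroup (Perm α)) (U : Finset α) : Prop := ∀ h ∈ H, ∀ x ∈ U, h x ∈ U

theorem inv_fixU (U : Finset α) : Inv (fixU U) U := fun h hh x hx => by
  by_contra e
  exact e (by rwa [h.injective (fix_of_not_mem hh e)])

theorem Inv.supp_conj {U : Finset α} (hU : Inv H U) {h g : Perm α} (hh : h ∈ H) (hg : g.support ⊆ U) :
    (h * g * h⁻¹).support ⊆ U := by
  rw [support_conj]
  intro x hx
  obtain ⟨y, hy, rfl⟩ := mem_map.1 hx
  exact hU h hh y (hg hy)

omit [Fintype α] in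
theorem Inv.le_stab {U : Finset α} (hU : Inv H U) : H ≤ stabilizer (Perm α) U := fun h hh =>
  eq_of_subset_of_card_le (fun x hx => by
    obtain ⟨y, hy, rfl⟩ := mem_smul_finset.1 hx
    exact hU h hh y hy) (by simp)

theorem conj_into_U {p : ℕ} (hp : p.Prime) {M E : Subgroup (Perm α)} [M.Normal] {U : Finset α}
    (hH : ¬ p ∣ H.relIndex M) (hU : Inv H U) (hE : IsPGroup p E) (h : E ≤ fixU U ⊓ M) :
    ∃ d ∈ fixU U, ∀ x ∈ E, d * x * d⁻¹ ∈ H := by
  obtain ⟨d, hd, h'⟩ := conj_into hp hE h fun e => hH (e.trans (relIndex_dvd_of_norm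
    (fun g hg => mem_normalizer_fintype fun x hx => ⟨hU.supp_conj hg hx.1, Normal.conj_mem ‹_› _ hx.2 _⟩)
    inf_le_right))
  exact ⟨d, hd.1, h'⟩

theorem exists_cycle {s : Finset α} (h : 2 ≤ #s) : ∃ f : Perm α, f.IsCycle ∧ f.support = s := by
  obtain ⟨f, h1, h2⟩ := s.exists_cycleOn
  have h3 : (s : Set α).Nontrivial := by rwa [nontrivial_coe, ← one_lt_card_iff_nontrivial]
  exact ⟨f, isCycle_iff_exists_isCycleOn.2 ⟨s, h3, h1, fun x hx => h2 (mem_support.2 hx)⟩,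
    h2.antisymm fun x hx => mem_support.2 (h1.apply_ne h3 hx)⟩

theorem cycle_even {f : Perm α} (hf : f.IsCycle) (h : Odd #f.support) : f ∈ alternatingGroup α := by
  rw [mem_alternatingGroup, hf.sign, h.neg_one_pow, neg_neg]

theorem cycle_mem {p e : ℕ} (hp : p.Prime) (he : e ≠ 0) {M : Subgroup (Perm α)} [M.Normal] {U : Finset α}
    (hH : ¬ p ∣ H.relIndex M) (hU : Inv H U) (h : p ^ e ≤ #U)
    (hM : M = ⊤ ∨ (p ≠ 2 ∧ M = alternatingGroup α)) :
    ∃ f ∈ H, f.IsCycle ∧ #f.support = p ^ e ∧ f.support ⊆ U := by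
  obtain ⟨s, hs, h1⟩ := exists_subset_card_eq h
  obtain ⟨f, h2, rfl⟩ := exists_cycle (h1 ▸ Nat.one_lt_pow he hp.one_lt : 2 ≤ #s)
  obtain ⟨d, hd, h3⟩ := conj_into_U hp hH hU (E := zpowers f)
    (.of_card (by rw [Nat.card_zpowers, h2.orderOf, h1])) (zpowers_le.2 ⟨hs, by
      rcases hM with rfl | ⟨h4, rfl⟩
      exacts [trivial, cycle_even h2 (h1 ▸ (hp.odd_of_ne_two h4).pow)]⟩)
  exact ⟨_, h3 f (mem_zpowers f), h2.conj, by rw [card_support_conj, h1], (inv_fixU U).supp_conj hd hs⟩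

theorem cyc_ind {x : Perm α} (hx : x.IsCycle) {P : α → Prop} {a : α} (ha : a ∈ x.support) (h0 : P a)
    (h : ∀ z ∈ x.support, P z → P (x z)) : ∀ z ∈ x.support, P z := fun z hz => by
  obtain ⟨i, rfl⟩ := hx.exists_pow_eq (mem_support.1 ha) (mem_support.1 hz)
  clear hz
  induction i with
  | zero => exact h0
  | succ i ih => rw [pow_succ']; exact h _ (pow_apply_mem_support.2 ha) ih

theorem overlap {s : ℕ} (hs : 2 ≤ s) {𝒮 : Finset α → Prop} (h1 : ∀ S, 𝒮 S → #S = s)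
    (h2 : ∀ h ∈ H, ∀ S, 𝒮 S → 𝒮 (h • S)) (h3 : ∀ U, Inv H U → s ≤ #U → ∃ S, 𝒮 S ∧ S ⊆ U)
    {c : Perm α} (hc : c ∈ H) (hc' : c.IsCycle) (hq : (#c.support).Prime) (hsq : s < #c.support) :
    ∃ S S', 𝒮 S ∧ 𝒮 S' ∧ (∃ x ∈ S, x ∈ S') ∧ (∃ x ∈ S, x ∉ S') ∧ ∃ x ∈ S', x ∉ S := by
  classical
  by_contra! H'
  have blk : ∀ g ∈ H, ∀ S, 𝒮 S → ∀ x ∈ S, g x ∈ S → g • S = S := fun g hg S hS x hx hx' => by
    have := H' _ _ hS (h2 g hg S hS) ⟨_, hx', smul_mem_smul_finset hx⟩
    by_cases e : S ⊆ g • S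
    · exact (eq_of_subset_of_card_le e (by simp)).symm
    · exact eq_of_subset_of_card_le (this (not_subset.1 e)) (by simp)
  obtain ⟨z, hz, S, hS, hz'⟩ : ∃ z ∈ c.support, ∃ S, 𝒮 S ∧ z ∈ S := by
    by_contra! e
    obtain ⟨S, hS, h4⟩ := h3 {x | ∀ S, 𝒮 S → x ∉ S} (fun h hh x hx => by
      simp only [mem_filter, mem_univ, true_and] at hx ⊢
      exact fun S hS e => hx _ (h2 _ (inv_mem hh) S hS) (by rwa [inv_smul_mem_iff.symm, inv_inv]))
      (hsq.le.trans (card_le_card fun x hx => by simpa using e x hx))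
    obtain ⟨x, hx⟩ := card_pos.1 (show 0 < #S by rw [h1 S hS]; omega)
    exact (mem_filter.1 (h4 hx)).2 S hS hx
  have key : c • S = S := by
    by_cases e : S ⊆ c.support
    · obtain ⟨w, hw, hw'⟩ := exists_mem_ne (show 1 < #S by rw [h1 S hS]; omega) z
      obtain ⟨i, rfl⟩ := hc'.exists_pow_eq (mem_support.1 hz) (mem_support.1 (e hw))
      have h4 : ¬ orderOf c ∣ i := fun h => hw' (by rw [orderOf_dvd_iff_pow_eq_one.1 h]; rfl)
      rw [← hc'.orderOf] at hq
      obtain ⟨k, hk⟩ := exists_pow_eq_self_of_coprime ((hq.coprime_iff_not_dvd.2 h4).symm)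
      exact hk ▸ (stabilizer _ S).pow_mem (blk _ (pow_mem hc i) S hS z hz' hw) k
    · obtain ⟨w, hw, hw'⟩ := not_subset.1 e
      exact blk c hc S hS w hw (by rwa [notMem_support.1 hw'])
  have := card_le_card (cyc_ind hc' hz hz' fun y _ hy => key ▸ smul_mem_smul_finset hy : c.support ⊆ S)
  rw [h1 S hS] at this
  omega

theorem even_of_cycles {x y : Perm α} (hx : x ∈ H) (hy : y ∈ H) (cx : x.IsCycle) (cy : y.IsCycle)
    (h1 : ∃ z ∈ x.support, z ∈ y.support) (h2 : ∃ z ∈ x.support, z ∉ y.support)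
    (h3 : ∃ z ∈ y.support, z ∉ x.support) : 2 ∣ Nat.card H := by
  obtain ⟨b, hb, hb'⟩ := h3
  have key : ∀ x : Perm α, x.IsCycle → (∃ z ∈ x.support, z ∈ y.support) →
      (∃ z ∈ x.support, z ∉ y.support) → ∃ a ∈ x.support, a ∉ y.support ∧ x a ∈ y.support := by
    rintro x cx ⟨z, hz, hz'⟩ ⟨a, ha, ha'⟩
    by_contra! e
    exact cyc_ind cx (P := (· ∉ y.support)) ha ha' e z hz hz'
  obtain ⟨a, a1, a2, a3⟩ := key x cx h1 h2
  obtain ⟨a', b1, b2, b3⟩ := key x⁻¹ cx.inv (by simpa using h1) (by simpa using h2)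
  rw [support_inv] at b1
  obtain ⟨i, hi⟩ := cy.exists_pow_eq (mem_support.1 a3) (mem_support.1 hb)
  obtain ⟨j, hj⟩ := cx.exists_pow_eq (mem_support.1 a1) (mem_support.1 b1)
  obtain ⟨k, hk⟩ := cy.exists_pow_eq (mem_support.1 hb) (mem_support.1 b3)
  obtain ⟨l, hl⟩ := cx.exists_pow_eq (mem_support.1 b1) (mem_support.1 (apply_mem_support.2 a1))
  have f1 : ∀ n, (y ^ n) a = a := pow_apply_eq_self_of_apply_eq_self (notMem_support.1 a2)
  have f2 : ∀ n, (y ^ n) a' = a' := pow_apply_eq_self_of_apply_eq_self (notMem_support.1 b2)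
  have f3 : ∀ n, (x ^ n) b = b := pow_apply_eq_self_of_apply_eq_self (notMem_support.1 hb')
  have e1 : (x ^ l * y ^ k * x ^ j * y ^ i) a = x a := by simp only [Perm.mul_apply, f1, hj, f2, hl]
  have e2 : (x ^ l * y ^ k * x ^ j * y ^ i) (x a) = a := by
    simp only [Perm.mul_apply, hi, f3, hk]
    rw [← Perm.mul_apply, ← (Commute.self_pow x l).inv_left.eq, Perm.mul_apply, hl]; simp
  refine (dvd_orderOf_of_fix Nat.prime_two (a := a) ?_ (fun e => mem_support.1 a1 (e1.symm.trans e))).trans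
    (H.orderOf_dvd_natCard (mul_mem (mul_mem (mul_mem (pow_mem hx l) (pow_mem hy k)) (pow_mem hx j))
      (pow_mem hy i)))
  rw [sq, Perm.smul_def, Perm.mul_apply, e1, e2]

/-- `S` is the support of a four-group in `H` -/
def Four (H : Subgroup (Perm α)) (S : Finset α) : Prop :=
  #S = 4 ∧ ∀ x ∈ S, ∀ y ∈ S, ∃ u ∈ H, u x = y ∧ u * u = 1 ∧ u.support ⊆ S ∧ (x ≠ y → u.support = S)

theorem Four.smul {S : Finset α} (hS : Four H S) {h : Perm α} {K : Subgroup (Perm α)}
    (hh : ∀ u ∈ H, h * u * h⁻¹ ∈ K) : Four K (h • S) := ⟨by simp [hS.1], fun x hx y hy => by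
  obtain ⟨x, hx', rfl⟩ := mem_smul_finset.1 hx
  obtain ⟨y, hy', rfl⟩ := mem_smul_finset.1 hy
  obtain ⟨u, h1, h2, h3, h4, h5⟩ := hS.2 x hx' y hy'
  have e : (h * u * h⁻¹).support = h • u.support := by rw [support_conj, map_eq_image]; rfl
  exact ⟨_, hh u h1, by simp [h2], by rw [conj_mul, h3]; simp, e ▸ smul_finset_subset_smul_finset h4,
    fun h6 => by rw [e, h5 fun h7 => h6 (by rw [h7])]⟩⟩

theorem exists_four_group {S : Finset α} (hS : #S = 4) : ∃ E : Subgroup (Perm α), IsPGroup 2 E ∧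
    E ≤ fixU S ⊓ alternatingGroup α ∧ Four E S := by
  let V := Multiplicative (ZMod 2 × ZMod 2)
  obtain ⟨e⟩ : Nonempty (V ≃ {x // x ∈ S}) := Fintype.card_eq.1 (by simp [hS, V])
  let ψ := (extendDomainHom e).comp (toPermHom V V)
  have h1 : ∀ g x, ψ g (e x) = e (g * x) := fun g x => extendDomain_apply_image _ e x
  have h2 : ∀ g, (ψ g).support ⊆ S := fun g x hx => by
    by_contra h
    exact mem_support.1 hx (extendDomain_apply_not_subtype _ e h)
  refine ⟨ψ.range, (IsPGroup.of_card (n := 2) (by simp [V])).of_surjective _ ψ.rangeRestrict_surjective,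
    ?_, hS, fun x hx y hy => ?_⟩
  · rintro _ ⟨g, rfl⟩
    refine ⟨h2 g, (sign_extendDomain _ e).trans ?_⟩
    revert g; decide
  · obtain ⟨x, hx⟩ := e.surjective ⟨x, hx⟩
    obtain ⟨y, hy⟩ := e.surjective ⟨y, hy⟩
    obtain rfl := congrArg Subtype.val hx
    obtain rfl := congrArg Subtype.val hy
    refine ⟨_, ⟨y * x⁻¹, rfl⟩, by rw [h1, inv_mul_cancel_right], ?_, h2 _, fun h => (h2 _).antisymm fun z hz => ?_⟩
    · rw [← map_mul, (by decide : ∀ g : V, g * g = 1), map_one]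
    · obtain ⟨z, hz⟩ := e.surjective ⟨z, hz⟩
      obtain rfl := congrArg Subtype.val hz
      rw [mem_support, h1]
      exact fun h' => h (by rw [← mul_inv_eq_one.1 (mul_eq_right.1 (e.injective (Subtype.ext h')))])

theorem exists_four (hH : ¬ 2 ∣ H.relIndex (alternatingGroup α)) {U : Finset α} (hU : Inv H U)
    (h : 4 ≤ #U) : ∃ S, Four H S ∧ S ⊆ U := by
  obtain ⟨S, hS, h1⟩ := exists_subset_card_eq h
  obtain ⟨E, h2, h3, h4⟩ := exists_four_group h1
  obtain ⟨d, hd, h5⟩ := conj_into_U Nat.prime_two hH hU h2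
    (h3.trans (inf_le_inf_right _ fun _ h => Subset.trans h hS))
  refine ⟨_, h4.smul h5, fun x hx => ?_⟩
  obtain ⟨x, hx', rfl⟩ := mem_smul_finset.1 hx
  exact inv_fixU U d hd x (hS hx')

theorem three_of_four {S S' : Finset α} (hS : Four H S) (hS' : Four H S') (h1 : ∃ x ∈ S, x ∈ S')
    (h2 : ∃ x ∈ S, x ∉ S') (h3 : ∃ x ∈ S', x ∉ S) : 3 ∣ Nat.card H := by
  obtain ⟨x, x1, x2⟩ := h1
  obtain ⟨a, a1, a2⟩ := h2
  obtain ⟨b, b1, b2⟩ := h3
  obtain ⟨u, u1, u2, u3, u4, -⟩ := hS.2 x x1 a a1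
  obtain ⟨v, v1, v2, v3, v4, -⟩ := hS'.2 x x2 b b1
  have e1 : u a = x := by rw [← u2, ← Perm.mul_apply, u3]; rfl
  have e2 : v b = x := by rw [← v2, ← Perm.mul_apply, v3]; rfl
  have e3 := fix_of_not_mem u4 b2
  have e4 := fix_of_not_mem v4 a2
  refine (dvd_orderOf_of_fix Nat.prime_three (a := x) ?_ ?_).trans (H.orderOf_dvd_natCard (mul_mem u1 v1))
  · simp [pow_succ, e1, e2, e3, e4, u2, v2]
  · simp only [Perm.smul_def, Perm.mul_apply, v2, e3]
    rintro rfl; exact b2 x1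

omit [Fintype α] in
theorem rot {a b c : α} (h2 : a ≠ c) (h3 : b ≠ c) :
    swap a b * swap a c = swap b c * swap b a := by
  rw [swap_comm b a, ← mul_inv_eq_iff_eq_mul, ← swap_apply_apply]
  simp [swap_apply_of_ne_of_ne h2.symm h3.symm]

/-- joined by a three-cycle of `H` -/
def R (H : Subgroup (Perm α)) (a b : α) : Prop := a = b ∨ ∃ c, a ≠ c ∧ b ≠ c ∧ swap a b * swap a c ∈ H

section
omit [Fintype α]

theorem R.refl (a : α) : R H a a := .inl rfl

theorem T_inv {a b c : α} (h : swap a b * swap a c ∈ H) : swap a c * swap a b ∈ H := by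
  simpa using inv_mem h

theorem T_mul {a b c d : α} (h : swap a b * swap a c ∈ H) (h' : swap a c * swap a d ∈ H) :
    swap a b * swap a d ∈ H := by
  simpa [mul_assoc] using mul_mem h h'

theorem R.symm {a b : α} (h : R H a b) : R H b a := by
  by_cases e : a = b
  · exact .inl e.symm
  obtain ⟨c, h1, h2, h3⟩ := h.resolve_left e
  exact .inr ⟨c, h2, h1, T_inv (rot h1 h2 ▸ h3)⟩

theorem R.three {a b c : α} (h : R H a b) (h' : R H a c) (h1 : a ≠ b) (h2 : a ≠ c) :
    swap a b * swap a c ∈ H := by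
  obtain ⟨d, d1, d2, d3⟩ := h.resolve_left h1
  obtain ⟨e, e1, e2, e3⟩ := h'.resolve_left h2
  by_cases h3 : b = c
  · simp [h3]
  by_cases h4 : d = c
  · exact h4 ▸ d3
  by_cases h5 : e = b
  · exact T_inv (h5 ▸ e3)
  by_cases h6 : d = e
  · exact T_mul d3 (T_inv (h6 ▸ e3))
  have := mul_mem (mul_mem (T_inv e3) d3) (inv_mem (T_inv e3))
  rw [← conj_mul, ← swap_apply_apply, ← swap_apply_apply] at this
  simp only [Perm.mul_apply, swap_apply_left, swap_apply_of_ne_of_ne h2.symm e2,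
    swap_apply_of_ne_of_ne h1.symm h3, swap_apply_of_ne_of_ne h1.symm (Ne.symm h5),
    swap_apply_of_ne_of_ne d1.symm h4, swap_apply_of_ne_of_ne d1.symm h6] at this
  rw [rot (Ne.symm h4) d2] at this
  rw [rot d1 d2] at d3
  rw [rot h2 h3]
  exact T_mul (T_inv this) d3

theorem R.trans {a b c : α} (h : R H a b) (h' : R H b c) : R H a c := by
  by_cases h1 : a = b
  · exact h1 ▸ h'
  by_cases h2 : b = c
  · exact h2 ▸ h
  by_cases h3 : a = c
  · exact .inl h3
  exact .inr ⟨b, h1, Ne.symm h2, T_inv (rot h3 h2 ▸ h'.three h.symm h2 (Ne.symm h1))⟩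

/-- the stabilizer of a relation -/
def stabRel (r : α → α → Prop) : Subgroup (Perm α) where
  carrier := {g | ∀ a b, r (g a) (g b) ↔ r a b}
  one_mem' _ _ := Iff.rfl
  mul_mem' hg hk a b := (hg _ _).trans (hk a b)
  inv_mem' {g} hg a b := by rw [← hg]; simp

theorem R.conj {g : Perm α} (hg : g ∈ normalizer (H : Set (Perm α))) {a b : α} (h : R H a b) :
    R H (g a) (g b) := h.imp (congrArg g) fun ⟨c, h1, h2, h3⟩ => ⟨g c, g.injective.ne h1,
  g.injective.ne h2, by rw [swap_apply_apply, swap_apply_apply, conj_mul]; exact (hg _).1 h3⟩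

theorem norm_le_stab : normalizer (H : Set (Perm α)) ≤ stabRel (R H) := fun g hg a b =>
  ⟨fun h => by simpa using h.conj (inv_mem hg), R.conj hg⟩

end

open Classical in
/-- the class of `a` -/
noncomputable def cls (H : Subgroup (Perm α)) (a : α) : Finset α := {b | R H a b}

theorem mem_cls {a b : α} : b ∈ cls H a ↔ R H a b := by simp [cls]

theorem self_mem_cls (a : α) : a ∈ cls H a := mem_cls.2 (.refl a)

theorem cls_eq {a b : α} (h : R H a b) : cls H a = cls H b := by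
  ext c; simp only [mem_cls]; exact ⟨h.symm.trans, h.trans⟩

theorem cls_smul {g : Perm α} (hg : g ∈ stabRel (R H)) (a : α) : cls H (g a) = g • cls H a := by
  ext b
  rw [← inv_smul_mem_iff, mem_cls, mem_cls, ← hg a]; simp

theorem card_cls (a : α) : #(cls H a) = 1 ∨ 3 ≤ #(cls H a) := by
  by_cases h : cls H a = {a}
  · simp [h]
  obtain ⟨b, hb, h1⟩ : ∃ b ∈ cls H a, b ≠ a := by
    by_contra! e
    exact h (eq_singleton_iff_unique_mem.2 ⟨self_mem_cls a, e⟩)
  obtain ⟨c, h2, h3, h4⟩ := (mem_cls.1 hb).resolve_left h1.symm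
  exact .inr (two_lt_card_iff.2 ⟨a, b, c, self_mem_cls a, hb, mem_cls.2 (.inr ⟨b, h1.symm, h3.symm, T_inv h4⟩),
    h1.symm, h2, h3⟩)

theorem three_eq {f : Perm α} (hf : f.IsThreeCycle) {a : α} (ha : a ∈ f.support) :
    a ≠ f a ∧ a ≠ f (f a) ∧ f = swap a (f (f a)) * swap a (f a) := by
  have h1 : a ≠ f a := (mem_support.1 ha).symm
  have h2 : a ≠ f (f a) := fun h => by
    have := dvd_orderOf_of_fix Nat.prime_two (h := f) (a := a) (by rw [sq]; exact h.symm) h1.symm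
    rw [hf.orderOf] at this; omega
  refine ⟨h1, h2, (hf.eq_swap_mul_swap_iff_mem_support.2 ha).trans ?_⟩
  rw [swap_comm a (f a), rot (f.injective.ne h1) h2, swap_comm a (f a)]

theorem R.of_three {f : Perm α} (hf : f.IsThreeCycle) (h : f ∈ H) {a b : α} (ha : a ∈ f.support)
    (hb : b ∈ f.support) : R H a b := cyc_ind hf.isCycle (P := R H a) ha (.refl a) (fun _ hz h' =>
  let ⟨h1, h2, h3⟩ := three_eq hf hz
  h'.trans (.inr ⟨_, h2, f.injective.ne h1, T_inv (h3 ▸ h)⟩)) b hb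

theorem mem_of_cls {g : Perm α} {o : α} (hg : g ∈ alternatingGroup α) (h : g.support ⊆ cls H o) :
    g ∈ H := by
  obtain ⟨k, rfl⟩ := (mem_range_ofSubtype_iff (p := (· ∈ cls H o))).2 h
  rw [mem_alternatingGroup, sign_ofSubtype, ← mem_alternatingGroup,
    ← closure_three_cycles_eq_alternating] at hg
  refine (closure_le (H.comap ofSubtype)).2 (fun c hc => ?_) hg
  have h1 : (ofSubtype c).IsThreeCycle := (cycleType_ofSubtype).trans hc
  have h2 : (ofSubtype c).support ⊆ cls H o := (mem_range_ofSubtype_iff (p := (· ∈ cls H o))).1 ⟨c, rfl⟩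
  obtain ⟨a, ha⟩ := card_pos.1 (h1.card_support ▸ three_pos)
  obtain ⟨h3, h4, h5⟩ := three_eq h1 ha
  have h6 := (mem_cls.1 (h2 ha)).symm
  exact (congrArg (· ∈ H) h5).mpr ((h6.trans (mem_cls.1 (h2 (by simpa using ha)))).three
    (h6.trans (mem_cls.1 (h2 (by simpa using ha)))) h4 h3)

theorem fixU_le_stab (o : α) : fixU (cls H o) ≤ stabRel (R H) := fun g hg a b => by
  have key : ∀ a, R H a (g a) := fun a => by
    by_cases h : a ∈ cls H o
    · exact (mem_cls.1 h).symm.trans (mem_cls.1 (inv_fixU _ g hg a h))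
    · rw [fix_of_not_mem hg h]; exact .refl a
  exact ⟨fun h => ((key a).trans h).trans (key b).symm, fun h => ((key a).symm.trans h).trans (key b)⟩

theorem cycle_cases {x : Perm α} (hx : x ∈ stabRel (R H)) (cx : x.IsCycle) {a : α} (ha : a ∈ x.support) :
    x.support ⊆ cls H a ∨ (¬ R H a (x a) ∧ #(cls H a) ∣ #x.support ∧
      ∀ b ∈ x.support, #(cls H b) = #(cls H a)) := by
  by_cases h : R H a (x a)
  · exact .inl (cyc_ind cx ha (self_mem_cls a) fun z _ hz => mem_cls.2 (h.trans ((hx _ _).2 (mem_cls.1 hz))))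
  have h1 : ∀ b ∈ x.support, #(cls H b) = #(cls H a) ∧ ¬ R H b (x b) :=
    cyc_ind cx ha ⟨rfl, h⟩ fun z _ hz => ⟨by rw [cls_smul hx, card_smul_finset, hz.1], by rw [hx]; exact hz.2⟩
  refine .inr ⟨h, ?_, fun b hb => (h1 b hb).1⟩
  rw [card_eq_sum_card_image (cls H) x.support]
  refine dvd_sum fun C hC => ?_
  obtain ⟨b, hb, rfl⟩ := mem_image.1 hC
  rw [← (h1 b hb).1]
  refine dvd_of_eq (congrArg _ (Finset.ext fun c => ?_))
  rw [mem_filter]
  refine ⟨fun hc => ⟨mem_support.2 fun e => (h1 b hb).2 ?_, (cls_eq (mem_cls.1 hc)).symm⟩,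
    fun hc => hc.2 ▸ self_mem_cls c⟩
  exact (mem_cls.1 hc).trans (e ▸ (hx _ _).2 (mem_cls.1 hc).symm)

theorem card_single_lt (hH : ¬ 3 ∣ H.relIndex (alternatingGroup α)) :
    #{a | #(cls H a) = 1} < 3 := by
  by_contra! h
  obtain ⟨f, h1, h2, h3, h4⟩ := cycle_mem (e := 1) Nat.prime_three one_ne_zero hH (fun g hg a ha => by
    simpa [cls_smul (norm_le_stab (le_normalizer hg))] using ha) h (.inr ⟨by omega, rfl⟩)
  have h5 := card_support_eq_three_iff.1 h3
  obtain ⟨a, ha⟩ := card_pos.1 (h5.card_support ▸ three_pos)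
  have h6 := card_le_card (fun b hb => mem_cls.2 (R.of_three h5 h1 ha hb) : f.support ⊆ cls H a)
  have := (mem_filter.1 (h4 ha)).2
  omega

theorem exists_smul_eq {U V W : Finset α} (hV : V ⊆ U) (hW : W ⊆ U) (h : #V = #W) :
    ∃ g ∈ fixU U, g • V = W := by
  obtain ⟨σ, hσ⟩ := exists_map_finset_eq (V.subtype (· ∈ U)) (W.subtype (· ∈ U)) (by
    simp [card_subtype, filter_true_of_mem hV, filter_true_of_mem hW, h])
  refine ⟨ofSubtype σ, (mem_range_ofSubtype_iff (p := (· ∈ U))).1 ⟨σ, rfl⟩,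
    eq_of_subset_of_card_le (fun x hx => ?_) (by simp [h])⟩
  obtain ⟨y, hy, rfl⟩ := mem_smul_finset.1 hx
  rw [Perm.smul_def, ofSubtype_apply_of_mem σ (hV hy), ← mem_subtype, ← hσ]
  exact mem_map_of_mem _ (mem_subtype.2 hy)

theorem relIndex_stab {U V : Finset α} (hV : V ⊆ U) :
    (stabilizer (Perm α) V).relIndex (fixU U) = (#U).choose #V := by
  rw [show (stabilizer (Perm α) V).relIndex (fixU U) = (stabilizer (fixU U) V).index from rfl,
    index_stabilizer, ← card_powersetCard, ← Set.ncard_coe_finset]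
  congr 1
  ext W
  rw [mem_coe, mem_powersetCard]
  refine ⟨?_, fun h => ?_⟩
  · rintro ⟨g, rfl⟩
    refine ⟨fun x hx => ?_, card_smul_finset _ _⟩
    obtain ⟨y, hy, rfl⟩ := mem_smul_finset.1 hx
    exact inv_fixU U _ g.2 y (hV hy)
  · obtain ⟨g, hg, e⟩ := exists_smul_eq hV h.1 h.2.symm
    exact ⟨⟨g, hg⟩, e⟩

theorem fixU_univ : fixU (univ : Finset α) = ⊤ := eq_top_iff.2 fun _ _ => subset_univ _

theorem index_stab (V : Finset α) : (stabilizer (Perm α) V).index = (Fintype.card α).choose #V := by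
  rw [← relIndex_top_right, ← fixU_univ, relIndex_stab (subset_univ V), card_univ]

end H03.Sym
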