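import Mathlib
import Cfsg.Agent.H03.SymA
import Cfsg.Agent.H03.Eck

/-! Hall subgroups of symmetric and alternating groups (P. Hall, J. G. Thompson). -/

namespace H03.Sym

open Equiv Equiv.Perm Finset Subgroup MulAction Cfsg H01
open scoped Pointwise

variable {α : Type*} [Fintype α] [DecidableEq α] {H : Subgroup (Perm α)} {π : Set ℕ}

omit [DecidableEq α] in
theorem inv_univ : Inv H univ := fun _ _ _ _ => mem_univ _

theorem two_three (h1 : PiNum π (Nat.card ↥(H ⊓ alternatingGroup α)))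
    (h2 : ∀ p, p.Prime → p ∈ π → ¬ p ∣ H.relIndex (alternatingGroup α)) {r s : ℕ} (hr : r.Prime)
    (hs : s.Prime) (hrs : r < s) (hr' : r ∈ π) (hs' : s ∈ π) (hn : s ≤ Fintype.card α) :
    2 ∈ π ∧ 3 ∈ π := by
  rw [← inf_relIndex_right] at h2
  generalize H ⊓ alternatingGroup α = K at h1 h2
  have := hr.two_le
  obtain ⟨c, c1, c2, c3, -⟩ := cycle_mem hs one_ne_zero (h2 s hs hs') inv_univ (by simpa)
    (.inr ⟨by omega, rfl⟩)
  rw [pow_one] at c3
  have h3 : 2 ∈ π := by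
    by_cases h : r = 2
    · exact h ▸ hr'
    obtain ⟨_, _, ⟨x, x1, x2, -, rfl⟩, ⟨y, y1, y2, -, rfl⟩, e⟩ := overlap (s := r) this
      (𝒮 := fun S => ∃ x ∈ K, x.IsCycle ∧ #x.support = r ∧ x.support = S)
      (by rintro _ ⟨x, -, -, h, rfl⟩; exact h)
      (by rintro h hh _ ⟨x, x1, x2, x3, rfl⟩
          exact ⟨_, mul_mem (mul_mem hh x1) (inv_mem hh), x2.conj, by rwa [card_support_conj],
            by rw [support_conj, map_eq_image]; rfl⟩)
      (fun U hU h' => by
        obtain ⟨x, x1, x2, x3, x4⟩ := cycle_mem hr one_ne_zero (h2 r hr hr') hU (by simpa) (.inr ⟨h, rfl⟩)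
        exact ⟨_, ⟨x, x1, x2, by simpa using x3, rfl⟩, x4⟩) c1 c2 (c3 ▸ hs) (c3 ▸ hrs)
    exact h1 2 Nat.prime_two (even_of_cycles x1 y1 x2 y2 e.1 e.2.1 e.2.2)
  refine ⟨h3, ?_⟩
  by_cases h : s = 3
  · exact h ▸ hs'
  obtain ⟨S, S', a1, a2, e⟩ := overlap (s := 4) (by omega) (𝒮 := Four K) (fun _ h => h.1)
    (fun h hh S hS => hS.smul fun u hu => mul_mem (mul_mem hh hu) (inv_mem hh))
    (fun U hU h' => exists_four (h2 2 Nat.prime_two h3) hU h') c1 c2 (c3 ▸ hs)
    (c3 ▸ hs.five_le_of_ne_two_of_ne_three (by omega) h)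
  exact h1 3 Nat.prime_three (three_of_four a1 a2 e.1 e.2.1 e.2.2)

theorem index_eq_relIndex {N : Subgroup (Perm α)} {g : Perm α} (hg : g ∈ N) (h : g ∉ alternatingGroup α) :
    N.index = N.relIndex (alternatingGroup α) := by
  have : Nontrivial α := by
    by_contra e
    exact h (by rw [Subsingleton.elim (h := by rw [not_nontrivial_iff_subsingleton] at e; infer_instance) g 1]
                exact one_mem _)
  have h1 := relIndex_mul_index (inf_le_left : N ⊓ alternatingGroup α ≤ N)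
  rw [← relIndex_mul_index inf_le_right, inf_relIndex_left, inf_relIndex_right,
    alternatingGroup.index_eq_two] at h1
  have h2 := relIndex_dvd_index_of_normal (alternatingGroup α) N
  rw [alternatingGroup.index_eq_two, Nat.dvd_prime Nat.prime_two, relIndex_eq_one] at h2
  rw [h2.resolve_left fun e => h (e hg)] at h1
  omega

omit [Fintype α] in
theorem relIndex_dvd_two {K : Subgroup (Perm α)} {S T : Finset α} (h : ∀ g ∈ K, g • S = S ∨ g • S = T) :
    (stabilizer (Perm α) S).relIndex K ∣ 2 := by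
  rw [relIndex_dvd_two_iff]
  by_cases e : ∃ a ∈ K, a • S ≠ S
  · obtain ⟨a, ha, e⟩ := e
    refine ⟨a, ha, fun b hb => (h _ (mul_mem hb ha)).imp id fun e1 => (h b hb).resolve_right fun e2 => e ?_⟩
    rw [mul_smul, ← e2] at e1
    exact smul_left_cancel b e1
  · push Not at e
    exact ⟨1, one_mem _, fun b hb => .inr (e b hb)⟩

/-- the stabilizer of the partition `{Δ, Δᶜ}` -/
def P (Δ : Finset α) : Subgroup (Perm α) := stabRel fun a b => a ∈ Δ ↔ b ∈ Δ

theorem mem_P {Δ : Finset α} {g : Perm α} : g ∈ P Δ ↔ g • Δ = Δ ∨ g • Δ = Δᶜ := by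
  refine ⟨fun h => ?_, fun h a b => ?_⟩
  · rcases Δ.eq_empty_or_nonempty with rfl | ⟨o, ho⟩
    · simp
    refine (em (g o ∈ Δ)).imp (fun e => ?_) fun e => ?_ <;> ext b <;>
      obtain ⟨b, rfl⟩ := g.surjective b <;> have := h o b <;>
      rw [← Perm.smul_def, smul_mem_smul_finset_iff] <;> simp_all
  · have : ∀ a, a ∈ Δ ↔ g a ∈ g • Δ := fun a => (smul_mem_smul_finset_iff g).symm
    rcases h with h | h <;> simp [this a, this b, h, not_iff_not]

omit [Fintype α] in
theorem stab_le_P {Δ : Finset α} : stabilizer (Perm α) Δ ≤ P Δ := fun g h a b => by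
  have : ∀ a, g a ∈ Δ ↔ a ∈ Δ := fun a => by
    conv_lhs => rw [← mem_stabilizer_iff.1 h]
    exact smul_mem_smul_finset_iff g
  simp only [this]

/-- the numerical types of proper Hall subgroups -/
def Typ (π : Set ℕ) (n m : ℕ) : Prop :=
  (n.Prime ∧ m + 1 = n ∧ ∀ r : ℕ, r.Prime → r ≤ n → (r ∈ π ↔ r < n)) ∨
    ((n = 7 ∨ n = 8) ∧ m = 4 ∧ ∀ r : ℕ, r.Prime → r ≤ n → (r ∈ π ↔ (r = 2 ∨ r = 3)))

theorem Typ.unique {n m m' : ℕ} (h : Typ π n m) (h' : Typ π n m') : m = m' := by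
  rcases h with ⟨h1, h2, h3⟩ | ⟨h1, h2, h3⟩ <;> rcases h' with ⟨h4, h5, h6⟩ | ⟨h4, h5, h6⟩
  · omega
  · have := (h3 5 (by norm_num) (by omega)).symm.trans (h6 5 (by norm_num) (by omega)); omega
  · have := (h3 5 (by norm_num) (by omega)).symm.trans (h6 5 (by norm_num) (by omega)); omega
  · omega

theorem small_primes {n : ℕ} (hn : n ≤ 8) (h2 : 2 ∈ π) (h3 : 3 ∈ π) (h5 : 5 ∉ π) (h7 : 7 ∉ π) (r : ℕ)
    (hr : r.Prime) (h : r ≤ n) : r ∈ π ↔ (r = 2 ∨ r = 3) := by
  have : r ≤ 8 := h.trans hn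
  interval_cases r <;> simp_all <;> norm_num at hr

theorem classify (h1 : PiNum π (Nat.card ↥(H ⊓ alternatingGroup α)))
    (h2 : ∀ p, p.Prime → p ∈ π → ¬ p ∣ H.relIndex (alternatingGroup α))
    (h3 : ∃ r s : ℕ, r.Prime ∧ s.Prime ∧ r ≠ s ∧ r ∈ π ∧ s ∈ π ∧ r ≤ Fintype.card α ∧ s ≤ Fintype.card α)
    (h4 : ∃ r : ℕ, r.Prime ∧ r ≤ Fintype.card α ∧ r ∉ π) :
    ∃ Δ : Finset α, H ≤ P Δ ∧ Typ π (Fintype.card α) #Δ := by
  obtain ⟨p2, p3⟩ : 2 ∈ π ∧ 3 ∈ π := by
    obtain ⟨r, s, a1, a2, a3, a4, a5, a6, a7⟩ := h3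
    rcases a3.lt_or_gt with h | h
    exacts [two_three h1 h2 a1 a2 h a4 a5 a7, two_three h1 h2 a2 a1 h a5 a4 a6]
  obtain ⟨t, t1, t2, t3⟩ := h4
  have t5 := t1.five_le_of_ne_two_of_ne_three (fun h => t3 (h ▸ p2)) (fun h => t3 (h ▸ p3))
  have hs := card_single_lt (h2 3 Nat.prime_three p3)
  have hHN : H ≤ stabRel (R H) := le_normalizer.trans norm_le_stab
  have hN : ∀ p, p.Prime → p ∈ π → ¬ p ∣ (stabRel (R H)).relIndex ⊤ := fun p hp h e => by
    obtain ⟨a, ha⟩ : ∃ a, #(cls H a) ≠ 1 := by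
      by_contra! e
      simp [e] at hs; omega
    obtain ⟨b, hb, h5⟩ := exists_mem_ne (show 1 < #(cls H a) by have := card_cls (H := H) a; omega) a
    rw [relIndex_top_right, index_eq_relIndex (fixU_le_stab a (x := swap b a) (by
      rw [mem_fixU, support_swap h5]
      exact insert_subset hb (singleton_subset_iff.2 (self_mem_cls a))))
      (by simp [mem_alternatingGroup, h5])] at e
    exact h2 p hp h (e.trans (relIndex_dvd_of_le_left _ hHN))
  have hc : ∀ a p, p.Prime → p ≤ #(cls H a) → p ∈ π := fun a p hp h => by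
    by_cases e : p = 2
    · exact e ▸ p2
    obtain ⟨s, hs, rfl⟩ := exists_subset_card_eq h
    obtain ⟨f, f1, rfl⟩ := exists_cycle hp.two_le
    have := cycle_even f1 (hp.odd_of_ne_two e)
    exact h1 _ hp (f1.orderOf ▸ orderOf_dvd_natCard _ (mem_inf.2 ⟨mem_of_cls this hs, this⟩))
  have hI : ∀ U, Inv (stabRel (R H)) U → ∀ p, p.Prime → p ∈ π → ¬ p ∣ (Fintype.card α).choose #U :=
    fun U hU p hp h e => hN p hp h (by
      rw [relIndex_top_right]; exact e.trans (index_stab U ▸ index_dvd_of_le hU.le_stab))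
  have l1 := Nat.pow_log_le_self 2 (x := Fintype.card α) (by omega)
  have l2 := Nat.lt_pow_succ_log_self one_lt_two (Fintype.card α)
  have l3 : 2 ≤ Nat.log 2 (Fintype.card α) := Nat.le_log_of_pow_le one_lt_two (by omega)
  generalize Nat.log 2 (Fintype.card α) = a at l1 l2 l3
  have l4 : 2 ^ 2 ≤ 2 ^ a := Nat.pow_le_pow_right two_pos l3
  rw [pow_succ] at l2
  obtain ⟨x, x1, x2, x3, -⟩ := cycle_mem (e := a) Nat.prime_two (by omega) (hN 2 Nat.prime_two p2) inv_univ
    l1 (.inl rfl)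
  obtain ⟨o, ho⟩ := card_pos.1 (show 0 < #x.support by omega)
  rcases cycle_cases x1 x2 ho with h | ⟨x4, x5, x6⟩
  · have h5 := card_le_card h
    have h6 : Inv (stabRel (R H)) (cls H o) := fun g hg b hb => by
      obtain ⟨z, hz⟩ := (inter_nonempty_of_card_lt_card_add_card (s := univ) (subset_univ (cls H o))
        (subset_univ (g • cls H o)) (by rw [card_smul_finset, card_univ]; omega))
      rw [← cls_smul hg, mem_inter, mem_cls, mem_cls] at hz
      exact mem_cls.2 ((hz.1.trans hz.2.symm).trans ((hg _ _).2 (mem_cls.1 hb)))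
    refine ⟨cls H o, hHN.trans (h6.le_stab.trans stab_le_P), ?_⟩
    have h7 := hI _ h6
    have h8 := hc o
    have h9 := card_le_univ (cls H o)
    generalize #(cls H o) = m at h5 h7 h8 h9
    obtain ⟨k, hk⟩ := Nat.exists_eq_add_of_le h9
    have h10 : m < t := not_le.1 fun h => t3 (h8 t t1 h)
    rw [hk, Nat.choose_symm_add] at h7
    rw [hk] at t2 l2 ⊢
    have h11 := fun p hp h => h7 p hp (h8 p hp h)
    by_cases e : k = 1
    · refine .inl ⟨prime_of_choose (by omega) (by omega) h11, by omega, fun r hr h => ⟨fun h' => ?_,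
        fun h' => h8 r hr (by omega)⟩⟩
      by_contra h12
      exact t3 (by rwa [show t = r by omega])
    · obtain ⟨rfl, rfl⟩ := ecklund (by omega) (by omega) h11
      exact .inr ⟨.inl rfl, rfl, small_primes (by omega) p2 p3 (fun h => h7 5 (by norm_num) h (by decide))
        fun h => h7 7 (by norm_num) h (by decide)⟩
  have j1 : 3 ≤ #(cls H o) := (card_cls o).resolve_left fun h => by
    have := card_le_card (fun b hb => by simp [x6 b hb, h] : x.support ⊆ univ.filter fun a => #(cls H a) = 1)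
    omega
  obtain ⟨c, -, hj⟩ := (Nat.dvd_prime_pow Nat.prime_two).1 (x3 ▸ x5)
  obtain ⟨c, rfl⟩ : ∃ d, c = d + 2 := ⟨c - 2, by
    rcases c with _ | _ | c <;> simp_all⟩
  let U : Finset α := {b | #(cls H b) = #(cls H o)}
  have hU : Inv (stabRel (R H)) U := fun g hg b hb => by simpa [U, cls_smul hg] using hb
  have sub : ∀ b ∈ U, cls H b ⊆ U := fun b hb z hz => by
    simpa [U, cls_eq (mem_cls.1 hz).symm] using hb
  have dis : ∀ {a b}, ¬ R H a b → Disjoint (cls H a) (cls H b) := fun h => disjoint_left.2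
    fun z h1 h2 => h ((mem_cls.1 h1).trans (mem_cls.1 h2).symm)
  have o1 : o ∈ U := by simp [U]
  have o2 : x o ∈ U := hU x x1 o o1
  have eU : cls H o ∪ cls H (x o) = U := (union_subset (sub _ o1) (sub _ o2)).antisymm fun b hb => by
    by_contra h
    rw [mem_union, mem_cls, mem_cls, not_or] at h
    have h5 := card_le_card (union_subset (union_subset (sub _ o1) (sub _ o2)) (sub _ hb))
    rw [card_union_of_disjoint (disjoint_union_left.2 ⟨dis h.1, dis h.2⟩), card_union_of_disjoint (dis x4),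
      (mem_filter.1 o2).2, (mem_filter.1 hb).2] at h5
    have m1 := Nat.pow_log_le_self 3 (x := #(cls H o)) (by omega)
    have m2 := Nat.lt_pow_succ_log_self (b := 3) (by omega) #(cls H o)
    obtain ⟨y, y1, y2, y3, y4⟩ := cycle_mem (e := Nat.log 3 #(cls H o) + 1) Nat.prime_three (by omega)
      (hN 3 Nat.prime_three p3) hU (by rw [pow_succ]; omega) (.inl rfl)
    obtain ⟨z, hz⟩ := card_pos.1 (show 0 < #y.support by rw [y3]; positivity)
    have h6 := (mem_filter.1 (y4 hz)).2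
    rcases cycle_cases y1 y2 hz with h7 | ⟨-, h7, -⟩
    · have := card_le_card h7
      rw [y3, h6] at this
      exact this.not_gt m2
    · rw [h6, y3, hj] at h7
      exact absurd (Nat.prime_two.dvd_of_dvd_pow ((dvd_pow_self 2 (by omega)).trans h7)) (by omega)
  have cU : #U = #(cls H o) + #(cls H o) := by
    rw [← eU, card_union_of_disjoint (dis x4), (mem_filter.1 o2).2]
  have h5 : ∀ p, p.Prime → p ≠ 2 → p ∈ π → ¬ p ∣ (#U).choose #(cls H o) := fun p hp e h d => by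
    rw [← relIndex_stab (sub _ o1)] at d
    have d1 := d.trans (relIndex_dvd_of_le_left _ (inf_le_left (b := stabRel (R H))))
    rw [← relIndex_inf_mul_relIndex, hp.dvd_mul] at d1
    rcases d1 with d1 | d1
    · refine e ((Nat.prime_dvd_prime_iff_eq hp Nat.prime_two).1 (d1.trans
        (relIndex_dvd_two (T := cls H (x o)) fun g hg => ?_)))
      rw [← cls_smul hg.1]
      exact (mem_union.1 (eU ▸ hU g hg.1 o o1)).imp (fun h => (cls_eq (mem_cls.1 h)).symm)
        fun h => (cls_eq (mem_cls.1 h)).symm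
    · exact hN p hp h (d1.trans (relIndex_dvd_of_norm
        (fun g hg => mem_normalizer_fintype fun _ => hU.supp_conj hg) le_top))
  have j4 : #(cls H o) = 4 := by
    have := central (u := 2 ^ (c + 1)) (by simp [Nat.even_pow]) (by positivity) fun p hp e h => by
      have := h5 p hp e (hc o p hp (by rwa [hj, pow_succ']))
      rwa [cU, hj, pow_succ' 2 (c + 1)] at this
    rw [hj, pow_succ', this]; rfl
  have h6 := card_le_card (fun b hb => by simpa [U] using x6 b hb : x.support ⊆ U)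
  have h7 := hI U hU 3 Nat.prime_three p3
  have h8 := card_le_univ U
  rw [cU, j4] at h5 h6 h7 h8
  have h9 : Fintype.card α = 8 := by
    have : Fintype.card α < 16 := by omega
    generalize Fintype.card α = n at *
    interval_cases n <;> simp_all [Nat.choose]
  have h10 : ∀ b, b ∈ cls H o ∪ cls H (x o) := fun b => by
    rw [eU, eq_univ_of_card U (by omega)]; exact mem_univ _
  refine ⟨cls H o, hHN.trans (le_of_eq (congrArg stabRel ?_)), .inr ⟨.inr h9, j4, small_primes h9.le p2 p3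
    (fun h => h5 5 (by norm_num) (by omega) h (by decide)) fun h => h5 7 (by norm_num) (by omega) h (by decide)⟩⟩
  ext b d
  simp only [mem_union, mem_cls] at h10 ⊢
  refine ⟨fun h => ⟨fun h' => h'.trans h, fun h' => h'.trans h.symm⟩, fun h => ?_⟩
  by_cases e : R H o b
  · exact e.symm.trans (h.1 e)
  · exact ((h10 b).resolve_left e).symm.trans ((h10 d).resolve_left fun e' => e (h.2 e'))

theorem P_hall {Δ : Finset α} (h3 : 3 ≤ Fintype.card α) (h : Typ π (Fintype.card α) #Δ) :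
    IsPiHall π (P Δ) := by
  have h1 := relIndex_mul_index (stab_le_P (Δ := Δ))
  have h2 := (Nat.dvd_prime Nat.prime_two).1 (relIndex_dvd_two (K := P Δ) fun g hg => mem_P.1 hg)
  have h4 := (P Δ).card_mul_index
  rw [index_stab] at h1
  rw [Nat.card_perm, Nat.card_eq_fintype_card (α := α)] at h4
  have key : ∀ a b, (P Δ).index = 35 → 7 ≤ Fintype.card α → Nat.card (P Δ) = 2 ^ a * 3 ^ b →
      (∀ r : ℕ, r.Prime → r ≤ Fintype.card α → (r ∈ π ↔ (r = 2 ∨ r = 3))) → IsPiHall π (P Δ) :=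
    fun a b e1 e2 e3 e4 => ⟨fun p hp hd => by
      have : p = 2 ∨ p = 3 := (hp.dvd_mul.1 (e3 ▸ hd)).imp
        (fun h => (Nat.prime_dvd_prime_iff_eq hp Nat.prime_two).1 (hp.dvd_of_dvd_pow h))
        fun h => (Nat.prime_dvd_prime_iff_eq hp Nat.prime_three).1 (hp.dvd_of_dvd_pow h)
      exact (e4 p hp (by omega)).2 this, fun p hp h hd => by
      have h5 : p = 5 ∨ p = 7 := (hp.dvd_mul.1 (show p ∣ 5 * 7 by rwa [e1] at hd)).imp
        (Nat.prime_dvd_prime_iff_eq hp (by norm_num)).1 (Nat.prime_dvd_prime_iff_eq hp (by norm_num)).1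
      have := (e4 p hp (by omega)).1 h
      omega⟩
  rcases h with ⟨h5, h6, h7⟩ | ⟨h5 | h5, h6, h7⟩
  · rw [← h6, Nat.choose_succ_self_right, h6] at h1
    obtain ⟨k, hk⟩ := h5.odd_of_ne_two (by omega)
    rw [h2.resolve_right fun e => by rw [e] at h1; omega, one_mul] at h1
    rw [h1, ← h6, Nat.factorial_succ, mul_comm, mul_right_inj' (by omega)] at h4
    refine ⟨fun p hp hd => ?_, fun p hp h hd => ?_⟩
    · have := hp.dvd_factorial.1 (h4 ▸ hd)
      exact (h7 p hp (by omega)).2 (by omega)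
    · have e := (Nat.prime_dvd_prime_iff_eq hp h5).1 (h1 ▸ hd)
      exact ((h7 p hp e.le).1 h).ne e
  · rw [h5, h6, show Nat.choose 7 4 = 35 by decide] at h1
    rw [h5, show Nat.factorial 7 = 5040 by decide] at h4
    have h8 : (P Δ).index = 35 := by rcases h2 with h | h <;> rw [h] at h1 <;> omega
    exact key 4 2 h8 (by omega) (by rw [h8] at h4; omega) h7
  · rw [h5, h6, show Nat.choose 8 4 = 70 by decide] at h1
    rw [h5, show Nat.factorial 8 = 40320 by decide] at h4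
    have h8 : (P Δ).index = 35 := by
      obtain ⟨g, -, hg⟩ := exists_smul_eq (subset_univ Δ) (subset_univ Δᶜ) (by rw [card_compl]; omega)
      obtain ⟨o, ho⟩ := card_pos.1 (show 0 < #Δ by omega)
      rw [h2.resolve_left fun e => mem_compl.1 (hg ▸ (relIndex_eq_one.1 e (mem_P.2 (.inr hg))).symm ▸ ho) ho]
        at h1
      omega
    exact key 7 2 h8 (by omega) (by rw [h8] at h4; omega) h7

theorem P_conj {Δ Δ' : Finset α} (h : #Δ = #Δ') (h2 : 2 ≤ #Δ) :
    ∃ g ∈ alternatingGroup α, ∀ x, x ∈ P Δ' ↔ g⁻¹ * x * g ∈ P Δ := by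
  obtain ⟨g, h1, rfl⟩ : ∃ g ∈ alternatingGroup α, g • Δ = Δ' := by
    obtain ⟨g, -, hg⟩ := exists_smul_eq (subset_univ Δ) (subset_univ Δ') h
    rcases Int.units_eq_one_or (sign g) with e | e
    · exact ⟨g, e, hg⟩
    obtain ⟨a, ha, b, hb, h3⟩ := one_lt_card.1 h2
    refine ⟨g * swap a b, by simp [mem_alternatingGroup, e, h3], ?_⟩
    rw [mul_smul, (inv_fixU Δ).le_stab (x := swap a b) (by
      rw [mem_fixU, support_swap h3]; exact insert_subset ha (singleton_subset_iff.2 hb)), hg]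
  refine ⟨g, h1, fun x => ⟨fun hx a b => ?_, fun hx a b => ?_⟩⟩
  · simpa [← inv_smul_mem_iff] using hx (g a) (g b)
  · simpa [← inv_smul_mem_iff] using hx (g⁻¹ a) (g⁻¹ b)

theorem Typ.two_le {n m : ℕ} (h : Typ π n m) (h3 : 3 ≤ n) : 2 ≤ m := by
  rcases h with h | h <;> omega

section grp
variable {G : Type*} [Group G] [Finite G]

theorem exists_max {K : Subgroup G} (h : IsPiSubgroup π K) : ∃ M, K ≤ M ∧ Maximal (IsPiSubgroup π) M :=
  Finite.exists_le_maximal h

theorem max_of_hall {K : Subgroup G} (h : IsPiHall π K) : Maximal (IsPiSubgroup π) K :=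
  ⟨h.1, fun _ hM e => (eq_of_isPiHall_of_le h hM e).ge⟩

theorem hall_of_max (hD : IsDPiGroup π G) {K : Subgroup G} (h : Maximal (IsPiSubgroup π) K) :
    IsPiHall π K := ⟨h.1, fun p hp hπ hd => by
  have := Fact.mk hp
  obtain ⟨S⟩ : Nonempty (Sylow p G) := inferInstance
  obtain ⟨M, h1, h2⟩ := exists_max (π := π) (K := (S : Subgroup G)) fun r hr e => by
    obtain ⟨k, hk⟩ := S.isPGroup'.exists_card_eq
    rwa [(Nat.prime_dvd_prime_iff_eq hr hp).1 (hr.dvd_of_dvd_pow (hk ▸ e))]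
  obtain ⟨g, rfl⟩ := hD K M h h2
  exact S.not_dvd_index (hd.trans ((index_map_of_bijective (f := (MulAut.conj g).toMonoidHom) (MulAut.conj g).bijective K) ▸ index_dvd_of_le h1))⟩

theorem C_of_D (hD : IsDPiGroup π G) : IsCPiGroup π G :=
  ⟨let ⟨M, _, h⟩ := exists_max (π := π) (K := (⊥ : Subgroup G)) (fun p hp e => by simp [hp.ne_one] at e);
    ⟨M, hall_of_max hD h⟩, fun H K h1 h2 => hD H K (max_of_hall h1) (max_of_hall h2)⟩

theorem triv_D (h : (∀ r s : ℕ, r.Prime → s.Prime → r ∈ π → s ∈ π → r ∣ Nat.card G → s ∣ Nat.card G → r = s) ∨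
    ∀ r : ℕ, r.Prime → r ∣ Nat.card G → r ∈ π) : IsDPiGroup π G := fun H K h1 h2 => by
  rcases h with h | h
  · by_cases e : ∃ p, p.Prime ∧ p ∈ π ∧ p ∣ Nat.card G
    · obtain ⟨p, hp, h3, h4⟩ := e
      have := Fact.mk hp
      have key : ∀ L : Subgroup G, IsPiSubgroup π L ↔ IsPGroup p L := fun L =>
        ⟨fun hL => .of_card (Nat.eq_prime_pow_of_unique_prime_dvd Nat.card_pos.ne' fun hr hd =>
          h _ _ hr hp (hL _ hr hd) h3 (hd.trans L.card_subgroup_dvd_card) h4), fun hL r hr e => by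
          obtain ⟨k, hk⟩ := hL.exists_card_eq
          rwa [(Nat.prime_dvd_prime_iff_eq hr hp).1 (hr.dvd_of_dvd_pow (hk ▸ e))]⟩
      obtain ⟨g, hg⟩ := MulAction.exists_smul_eq G
        (⟨H, (key _).1 h1.1, fun hQ e => (h1.2 ((key _).2 hQ) e).antisymm e⟩ : Sylow p G)
        ⟨K, (key _).1 h2.1, fun hQ e => (h2.2 ((key _).2 hQ) e).antisymm e⟩
      exact ⟨g, (congrArg Sylow.toSubgroup hg).symm⟩
    · have key : ∀ L : Subgroup G, IsPiSubgroup π L → L = ⊥ := fun L hL => card_eq_one.1 (by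
        by_contra h5
        obtain ⟨p, hp, hd⟩ := Nat.exists_prime_and_dvd h5
        exact e ⟨p, hp, hL p hp hd, hd.trans L.card_subgroup_dvd_card⟩)
      exact ⟨1, by rw [key H h1.1, key K h2.1, Subgroup.map_bot]⟩
  · have key : IsPiSubgroup π (⊤ : Subgroup G) := fun r hr e => h r hr (by simpa using e)
    refine ⟨1, ?_⟩
    rw [top_le_iff.1 (h1.2 key le_top), top_le_iff.1 (h2.2 key le_top), map_top_of_surjective _
      (MulAut.conj 1).surjective]

end grp

/-- the nontrivial case -/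
def NT (π : Set ℕ) (n : ℕ) : Prop :=
  (∃ r s : ℕ, r.Prime ∧ s.Prime ∧ r ≠ s ∧ r ∈ π ∧ s ∈ π ∧ r ≤ n ∧ s ≤ n) ∧ ∃ r : ℕ, r.Prime ∧ r ≤ n ∧ r ∉ π

theorem NT.three_le {n : ℕ} (h : NT π n) : 3 ≤ n := by
  obtain ⟨r, s, h1, h2, h3, -, -, h4, h5⟩ := h.1
  have := h1.two_le
  have := h2.two_le
  omega

omit [DecidableEq α] in
theorem D_of_not_NT (h : ¬ NT π (Fintype.card α)) (K : Subgroup (Perm α)) : IsDPiGroup π K := by
  have key : ∀ r : ℕ, r.Prime → r ∣ Nat.card K → r ≤ Fintype.card α := fun r hr hd => by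
    have := hd.trans K.card_subgroup_dvd_card
    rwa [Nat.card_perm, hr.dvd_factorial, Nat.card_eq_fintype_card] at this
  rw [NT, not_and_or] at h
  push Not at h
  exact triv_D (h.imp (fun h r s h1 h2 h3 h4 h5 h6 => by_contra fun e =>
    (h r s h1 h2 e h3 h4 (key r h1 h5)).not_ge (key s h2 h6)) fun h r hr hd => h r hr (key r hr hd))

omit [DecidableEq α] in
theorem D_of_not_NT' (h : ¬ NT π (Fintype.card α)) : IsDPiGroup π (Perm α) := by
  have key : ∀ r : ℕ, r.Prime → r ∣ Nat.card (Perm α) → r ≤ Fintype.card α := fun r hr hd => by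
    rwa [Nat.card_perm, hr.dvd_factorial, Nat.card_eq_fintype_card] at hd
  rw [NT, not_and_or] at h
  push Not at h
  exact triv_D (h.imp (fun h r s h1 h2 h3 h4 h5 h6 => by_contra fun e =>
    (h r s h1 h2 e h3 h4 (key r h1 h5)).not_ge (key s h2 h6)) fun h r hr hd => h r hr (key r hr hd))

theorem classify_S (h : NT π (Fintype.card α)) (hH : IsPiHall π H) :
    ∃ Δ : Finset α, H = P Δ ∧ Typ π (Fintype.card α) #Δ := by
  obtain ⟨Δ, h1, h2⟩ := classify (PiNum.of_dvd hH.1 (card_dvd_of_le inf_le_left))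
    (isPiHall_subgroupOf_normal hH (alternatingGroup α)).2 h.1 h.2
  exact ⟨Δ, eq_of_isPiHall_of_le hH (P_hall h.three_le h2).1 h1, h2⟩

theorem classify_A (h : NT π (Fintype.card α)) {M : Subgroup (alternatingGroup α)} (hM : IsPiHall π M) :
    ∃ Δ : Finset α, M = (P Δ).subgroupOf _ ∧ Typ π (Fintype.card α) #Δ := by
  have h0 := isPiHallOf_map_subtype.2 hM
  obtain ⟨Δ, h1, h2⟩ := classify (PiNum.of_dvd h0.2.1 (card_dvd_of_le inf_le_left)) h0.2.2 h.1 h.2
  exact ⟨Δ, eq_of_isPiHall_of_le hM (isPiHall_subgroupOf_normal (P_hall h.three_le h2) _).1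
    (map_le_iff_le_comap.1 h1), h2⟩

theorem hall_A_iff (M : Subgroup (alternatingGroup α)) :
    IsPiHall π M ↔ ∃ M₀ : Subgroup (Perm α), IsPiHall π M₀ ∧ M = M₀.subgroupOf _ := by
  refine ⟨fun hM => ?_, fun ⟨M₀, h, e⟩ => e ▸ isPiHall_subgroupOf_normal h _⟩
  by_cases h : NT π (Fintype.card α)
  · obtain ⟨Δ, h1, h2⟩ := classify_A h hM
    exact ⟨_, P_hall h.three_le h2, h1⟩
  · obtain ⟨M₀, h1, h2⟩ := exists_max (isPiHallOf_map_subtype.2 hM).2.1
    have h3 := hall_of_max (D_of_not_NT' h) h2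
    exact ⟨M₀, h3, eq_of_isPiHall_of_le hM (isPiHall_subgroupOf_normal h3 _).1 (map_le_iff_le_comap.1 h1)⟩

end H03.Sym
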