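import Mathlib
import Cfsg.Agent.H03.SymB
import Cfsg.Agent.H22.Two
import Cfsg.Agent.H29.Plane
import Cfsg.Agent.H10.Perm

/-! Subgroups of symmetric groups with quasisimple generalized Fitting subgroup. -/

namespace H03.Sym

open Equiv Equiv.Perm Finset Subgroup MulAction Cfsg
open scoped Pointwise commutatorElement

variable {α : Type*} [Fintype α] [DecidableEq α] {H L : Subgroup (Perm α)}

theorem supp_inv {f l : Perm α} (h : l * f = f * l) {a : α} (ha : a ∈ f.support) : l a ∈ f.support := by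
  rw [mem_support, ← Perm.mul_apply, ← h, Perm.mul_apply]
  exact l.injective.ne (mem_support.1 ha)

theorem fix_of_cent (hL : ⁅L, L⁆ = L) {f : Perm α} (hf : f.IsCycle)
    (h : f ∈ centralizer (L : Set (Perm α))) {a : α} (ha : a ∈ f.support) : L ≤ stabilizer _ a := by
  have key : ∀ l ∈ L, ∀ l' ∈ L, ∀ b ∈ f.support, l (l' b) = l' (l b) := fun l hl l' hl' b hb => by
    obtain ⟨i, hi⟩ := hf.exists_pow_eq (mem_support.1 hb) (mem_support.1 (supp_inv (h l hl) hb))
    obtain ⟨j, hj⟩ := hf.exists_pow_eq (mem_support.1 hb) (mem_support.1 (supp_inv (h l' hl') hb))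
    rw [← hj, ← Perm.mul_apply, (Commute.pow_right (h l hl) j).eq, Perm.mul_apply, ← hi, ← Perm.mul_apply l',
      (Commute.pow_right (h l' hl') i).eq, Perm.mul_apply, ← hj, ← Perm.mul_apply, ← Perm.mul_apply,
      ← pow_add, ← pow_add, add_comm]
  rw [← hL]
  refine commutator_le.2 fun l hl l' hl' => ?_
  have := key l hl l' hl' _ (supp_inv (h _ (inv_mem hl)) (supp_inv (h _ (inv_mem hl')) ha))
  simpa [commutatorElement_def] using this

/-- the even permutations of `Δ` -/
noncomputable def altEquiv (Δ : Finset α) :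
    ↥(fixU Δ ⊓ alternatingGroup α) ≃* alternatingGroup (Fin #Δ) :=
  ((MulEquiv.subgroupCongr (Subgroup.ext fun g => ⟨fun hg => by
      obtain ⟨k, rfl⟩ := (mem_range_ofSubtype_iff (p := (· ∈ Δ))).2 hg.1
      exact ⟨k, (sign_ofSubtype k).symm.trans hg.2, rfl⟩, by
      rintro ⟨k, hk, rfl⟩
      exact ⟨(mem_range_ofSubtype_iff (p := (· ∈ Δ))).1 ⟨k, rfl⟩, (sign_ofSubtype k).trans hk⟩⟩)).trans
    ((alternatingGroup {x // x ∈ Δ}).equivMapOfInjective ofSubtype ofSubtype_injective).symm).trans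
    Δ.equivFin.altCongrHom

theorem exists_three {Δ : Finset α} (h : 3 ≤ #Δ) {a : α} (ha : a ∈ Δ) :
    ∃ f : Perm α, f.IsThreeCycle ∧ a ∈ f.support ∧ f.support ⊆ Δ := by
  obtain ⟨s, h1, h2, h3⟩ := exists_subsuperset_card_eq (singleton_subset_iff.2 ha) (n := 3) (by simp) h
  obtain ⟨f, -, rfl⟩ := exists_cycle (s := s) (by omega)
  exact ⟨f, card_support_eq_three_iff.1 h3, singleton_subset_iff.1 h1, h2⟩

variable (hL : IsQuasisimple L) (hH : H ≤ normalizer (L : Set (Perm α))) (hLH : L ≤ H)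
  (hC : H ⊓ centralizer (L : Set (Perm α)) ≤ L)
include hL hH hLH hC

theorem main3 {f : Perm α} (hf : f.IsThreeCycle) (h : f ∈ H) :
    ∃ Δ, L = fixU Δ ⊓ alternatingGroup α ∧ Inv H Δ := by
  obtain ⟨a, ha⟩ := card_pos.1 (hf.card_support ▸ three_pos)
  have no : f ∉ centralizer (L : Set (Perm α)) := fun e =>
    mem_support.1 ha (fix_of_cent (H22.qs_perfect' hL) hf.isCycle e ha (hC ⟨h, e⟩))
  have hs : H ≤ stabRel (R H) := le_normalizer.trans norm_le_stab
  let K : Subgroup (Perm α) :=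
    { carrier := {g | g ∈ H ∧ ∀ b, R H b (g b)}
      one_mem' := ⟨one_mem _, .refl⟩
      mul_mem' := fun h1 h2 => ⟨mul_mem h1.1 h2.1, fun b => (h2.2 b).trans (h1.2 _)⟩
      inv_mem' := fun {g} h1 => ⟨inv_mem h1.1, fun b => by simpa using (h1.2 (g⁻¹ b)).symm⟩ }
  have h1 : L ≤ K := (H22.qs_le_or_cent (U := K) hL (fun l hl => mem_normalizer_fintype fun g hg =>
    ⟨mul_mem (mul_mem (hLH hl) hg.1) (inv_mem (hLH hl)), fun b => by
      simpa using (hs (hLH hl) _ _).2 (hg.2 (l⁻¹ b))⟩) fun g hg => hH hg.1).resolve_right fun e =>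
    no (e ⟨h, fun b => by
      by_cases hb : b ∈ f.support
      · exact R.of_three hf h hb (apply_mem_support.2 hb)
      · rw [notMem_support.1 hb]; exact .refl b⟩)
  have h2 : fixU (cls H a) ⊓ alternatingGroup α ≤ H := fun g hg => mem_of_cls hg.2 hg.1
  have h3 : f.support ⊆ cls H a := fun b hb => mem_cls.2 (R.of_three hf h ha hb)
  have h4 : L ≤ fixU (cls H a) ⊓ alternatingGroup α := (H22.qs_le_or_cent (U := fixU _ ⊓ alternatingGroup α) hL
    (fun l hl => mem_normalizer_fintype fun g hg => ⟨Inv.supp_conj (H := L) (fun l hl x hx =>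
      mem_cls.2 ((mem_cls.1 hx).trans ((h1 hl).2 x))) hl hg.1, Normal.conj_mem inferInstance _ hg.2 _⟩)
    (h2.trans hH)).resolve_right fun e => no (e ⟨h3, hf.mem_alternatingGroup⟩)
  have h5 : 3 ≤ #(cls H a) := hf.card_support ▸ card_le_card h3
  have h6 : L = fixU (cls H a) ⊓ alternatingGroup α := by
    have e := altEquiv (cls H a)
    by_cases h7 : 5 ≤ #(cls H a)
    · have := alternatingGroup.isSimpleGroup (α := Fin #(cls H a)) (by simpa)
      have := e.isSimpleGroup
      have := (normal_subgroupOf_iff_le_normalizer h4).2 (h2.trans hH)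
      refine h4.antisymm (subgroupOf_eq_top.1 ((this.eq_bot_or_eq_top).resolve_left fun e => ?_))
      have := H22.qs_nontrivial hL
      exact L.nontrivial_iff_ne_bot.1 this (disjoint_self.1 ((subgroupOf_eq_bot.1 e).mono_right h4))
    · have : Group.IsSolvable (Perm (Fin #(cls H a))) := by
        generalize #(cls H a) = m at h5 h7
        obtain rfl | rfl : m = 3 ∨ m = 4 := by omega
        exacts [H29.perm3_solvable, H29.perm4_solvable]
      exact absurd (Group.isSolvable_of_isSolvable_injective (f := e.toMonoidHom.comp (inclusion h4))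
        (e.injective.comp (inclusion_injective h4))) (H22.qs_not_solvable hL)
  refine ⟨_, h6, fun g hg x hx => ?_⟩
  obtain ⟨k, k1, k2, k3⟩ := exists_three h5 hx
  have := mem_fixU.1 (h6.le ((hH hg k).1 (h6.ge ⟨k3, k1.mem_alternatingGroup⟩))).1
  rw [support_conj] at this
  exact this (mem_map_of_mem _ k2)

omit hL hH hLH in
theorem eq_one_of_compl {Δ : Finset α} (h : L = fixU Δ ⊓ alternatingGroup α) {g : Perm α} (hg : g ∈ H)
    (h1 : g.support ⊆ Δᶜ) : g = 1 := by
  have h2 := (h.le (hC ⟨hg, fun l hl => (disjoint_iff_disjoint_support.2 (disjoint_compl_right.mono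
    (h.le hl).1 h1)).commute⟩)).1
  exact support_eq_empty_iff.1 (subset_empty.1 fun x hx => absurd (h2 hx) (mem_compl.1 (h1 hx)))

omit hL hH hLH hC

omit [Fintype α] in
theorem swaps_apply {a b c d x : α} (h1 : x ≠ a) (h2 : x ≠ b) (h3 : x ≠ c) (h4 : x ≠ d) :
    (swap a b * swap c d) x = x := by
  rw [Perm.mul_apply, swap_apply_of_ne_of_ne h3 h4, swap_apply_of_ne_of_ne h1 h2]

/-- even products of the transpositions of the involution `w` -/
def Z (w : Perm α) (hw : ∀ a, w (w a) = a) : Subgroup (Perm α) where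
  carrier := {g | ∀ a, g a = a ∨ g a = w a}
  one_mem' _ := .inl rfl
  mul_mem' {g k} hg hk a := by
    rcases hk a with h | h
    · simpa [h] using hg a
    · simpa [h, hw, or_comm] using hg (w a)
  inv_mem' {g} hg a := by
    obtain ⟨a, rfl⟩ := g.surjective a
    rw [H10.perm_inv_apply]
    exact (hg a).imp .symm fun h => by rw [h, hw]

omit [Fintype α] [DecidableEq α] in
theorem Z_comm {w : Perm α} {hw : ∀ a, w (w a) = a} {g k : Perm α} (hg : g ∈ Z w hw) (hk : k ∈ Z w hw) :
    g * k = k * g := by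
  have key : ∀ g ∈ Z w hw, ∀ a, g (w a) = w (g a) := fun g hg a => by
    rcases hg a with h | h <;> rcases hg (w a) with h' | h'
    · rw [h, h']
    · rw [hw] at h'; rw [h', h, g.injective (h'.trans h.symm)]
    · rw [h', h, hw, g.injective (h'.trans h.symm)]
    · rw [h', h]
  ext a
  rcases hg a with h | h <;> rcases hk a with h' | h' <;> simp [h, h', key g hg, key k hk]

omit [Fintype α] in
theorem swap_mem_Z {w : Perm α} {hw : ∀ a, w (w a) = a} (a : α) : swap a (w a) ∈ Z w hw := fun b => by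
  by_cases h : b = a
  · simp [h]
  by_cases h' : b = w a
  · simp [h', hw]
  · simp [swap_apply_of_ne_of_ne h h']

/-- `H` contains the even products of transpositions of the involution `w` -/
structure Good (H : Subgroup (Perm α)) (w : Perm α) : Prop where
  inv : ∀ a, w (w a) = a
  le : Z w inv ⊓ alternatingGroup α ≤ H
  uniq : ∀ a b, w a = a → w b = b → a = b
  big : 8 ≤ #w.support
  par : w ∈ alternatingGroup α ∨ 9 ≤ #w.support

theorem Good.mem {w : Perm α} (h : Good H w) {a c : α} (ha : w a ≠ a) (hc : w c ≠ c) :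
    swap a (w a) * swap c (w c) ∈ H :=
  h.le ⟨mul_mem (swap_mem_Z a) (swap_mem_Z c), by simp [mem_alternatingGroup, ha.symm, hc.symm]⟩

theorem Good.conj {w : Perm α} (h : Good H w) {g : Perm α} {K : Subgroup (Perm α)}
    (hg : ∀ x ∈ Z w h.inv ⊓ alternatingGroup α, g * x * g⁻¹ ∈ K) : Good K (g * w * g⁻¹) where
  inv a := by simp [h.inv]
  le x hx := by
    simpa [mul_assoc] using hg (g⁻¹ * x * g⁻¹⁻¹) ⟨fun a => by
      simpa [symm_apply_eq] using hx.1 (g a), Normal.conj_mem inferInstance _ hx.2 _⟩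
  uniq a b h1 h2 := g⁻¹.injective (h.uniq _ _ (by simpa [eq_symm_apply] using h1)
    (by simpa [eq_symm_apply] using h2))
  big := by simpa using h.big
  par := h.par.imp (Normal.conj_mem inferInstance _ · _) (by simp)

theorem exists_good (hn : 8 ≤ Fintype.card α) (h : ¬ 2 ∣ H.relIndex (alternatingGroup α)) :
    ∃ w, Good H w := by
  obtain ⟨w, hw⟩ := (exists_with_cycleType_iff α (m := Multiset.replicate (Fintype.card α / 2) 2)).2
    ⟨by simp; omega, fun a ha => (Multiset.eq_of_mem_replicate ha).ge⟩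
  have h1 : #w.support = Fintype.card α / 2 * 2 := by rw [← sum_cycleType, hw]; simp
  have h2 : ∀ a, w (w a) = a := fun a => by
    have : w ^ 2 = 1 := orderOf_dvd_iff_pow_eq_one.1 (by
      rw [← lcm_cycleType, hw]; exact Multiset.lcm_dvd.2 fun b hb => dvd_of_eq (Multiset.eq_of_mem_replicate hb))
    rw [← Perm.mul_apply, ← sq, this]; rfl
  have h3 : Good ⊤ w := ⟨h2, le_top, fun a b ha hb => card_le_one.1
    (show #w.supportᶜ ≤ 1 by rw [card_compl]; omega) a (by simpa) b (by simpa), by omega,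
    (em (Fintype.card α / 2 = 4)).imp (fun e => by
      rw [mem_alternatingGroup, sign_of_cycleType, hw, e]; decide) fun e => by omega⟩
  obtain ⟨d, -, hd⟩ := conj_into Nat.prime_two (E := Z w h2 ⊓ alternatingGroup α) (fun g => ⟨1, Subtype.ext (by
    ext a
    rcases g.2.1 a with e | e
    · simp [sq, e]
    · have := congrArg (· a) (Z_comm g.2.1 (swap_mem_Z a))
      simp only [Perm.mul_apply, swap_apply_left, e, swap_apply_right] at this
      simp [sq, e, this])⟩) inf_le_right h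
  exact ⟨_, h3.conj hd⟩

section
variable {w w' : Perm α} (g1 : Good H w) (g2 : Good H w') (no : ∀ f ∈ H, ¬ f.IsThreeCycle)
include g1 g2 no

theorem k0 {a d : α} (h1 : w a ≠ a) (h2 : w' a ≠ a) (h3 : w a ≠ w' a) (h4 : w' d ≠ d) (h5 : d ≠ a)
    (h6 : d ≠ w' a) (h7 : d ≠ w a) (h8 : w' d ≠ w a) :
    w.support ⊆ w.support ∩ {a, w a, w' a, w (w' a), d, w d, w' d, w (w' d)} := fun c hc => by
  by_contra h
  simp only [mem_inter, hc, true_and, mem_insert, Finset.mem_singleton, not_or] at h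
  obtain ⟨c1, c2, c3, c4, c5, c6, c7, c8⟩ := h
  have e : ∀ {x y}, x ≠ w y → w x ≠ y := fun h e => h (by rw [← e, g1.inv])
  have e' : ∀ {x y}, x ≠ w' y → w' x ≠ y := fun h e => h (by rw [← e, g2.inv])
  have u := g1.mem h1 (mem_support.1 hc)
  have v := g2.mem h2 h4
  refine no _ (mul_mem (mul_mem (mul_mem u v) (inv_mem u)) (inv_mem v))
    (H10.isThreeCycle_commutator (a := a) ?_ ?_ fun x hx => ?_)
  · simpa [swap_apply_of_ne_of_ne (Ne.symm c1) (e c2).symm]
  · simpa [swap_apply_of_ne_of_ne h5.symm (e' h6).symm]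
  by_cases x1 : x = w' a
  · exact .inl (x1 ▸ swaps_apply h2 h3.symm (Ne.symm c3) (e c4).symm)
  by_cases x2 : x = d
  · exact .inl (x2 ▸ swaps_apply h5 h7 (Ne.symm c5) (e c6).symm)
  by_cases x3 : x = w' d
  · exact .inl (x3 ▸ swaps_apply (e' h6) h8 (Ne.symm c7) (e c8).symm)
  · exact .inr (swaps_apply hx x1 x2 x3)

theorem k1 {a : α} (h1 : w a ≠ a) (h2 : w' a ≠ a) : w (w' a) ≠ w' a := fun h3 => by
  have h4 : w a ≠ w' a := fun h => h2 (by rw [← h3, ← h, g1.inv])
  obtain ⟨d, d1, d2⟩ := exists_mem_notMem_of_card_lt_card (s := {a, w' a, w a, w' (w a)})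
    (card_le_four.trans_lt (lt_of_lt_of_le (by omega) g2.big))
  simp only [mem_insert, Finset.mem_singleton, not_or] at d2
  have := card_le_card ((k0 g1 g2 no h1 h2 h4 (mem_support.1 d1) d2.1 d2.2.1 d2.2.2.1 fun h =>
    d2.2.2.2 (by rw [← h, g2.inv])).trans (c := {a, w a, d, w d, w' d, w (w' d)}) fun x hx => by
    simp only [mem_inter, mem_insert, Finset.mem_singleton, mem_support, h3] at hx ⊢
    have : x ≠ w' a := fun h => hx.1 (h ▸ h3)
    tauto)
  have := g1.big
  have := card_le_six (a := a) (b := w a) (c := d) (d := w d) (e := w' d) (f := w (w' d))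
  omega

theorem k2 (a : α) : w' (w (w' a)) = w a := by
  by_contra h
  by_cases h1 : w a = a
  · have h2 : w' a ≠ a := fun e => h (by rw [e, h1, e])
    exact k1 g1 g2 no (a := w' a) (fun e => h2 (g1.uniq _ _ e h1)) (by rw [g2.inv]; exact h2.symm)
      (by rw [g2.inv, h1])
  by_cases h2 : w' a = a
  · exact k1 g2 g1 no (a := w a) (fun e => h1 (g2.uniq _ _ e h2)) (by rw [g1.inv]; exact Ne.symm h1)
      (by rw [g1.inv, h2])
  have h3 : w a ≠ w' a := fun e => h (by rw [← e, g1.inv, e])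
  have h4 := k1 g1 g2 no h1 h2
  have := card_le_card ((k0 g1 g2 no h1 h2 h3 (k1 g2 g1 no (by rw [g2.inv]; exact Ne.symm h2) h4)
    (fun e => h3 ((congrArg w e).symm.trans (g1.inv _))) h4 (w.injective.ne h2) h).trans
    (c := {a, w a, w' a, w (w' a), w' (w (w' a)), w (w' (w (w' a)))}) fun x hx => by
    simp only [mem_inter, mem_insert, Finset.mem_singleton, g1.inv] at hx ⊢
    tauto)
  have := g1.big
  have := card_le_six (a := a) (b := w a) (c := w' a) (d := w (w' a)) (e := w' (w (w' a)))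
    (f := w (w' (w (w' a))))
  omega

theorem k3 (h : 9 ≤ #w.support) : w' = w := by
  ext a
  by_contra h3
  have h1 : w a ≠ a := fun e => h3 (by
    rw [e]; exact g1.uniq _ _ (by simpa [g1.inv, g2.inv, e] using congrArg w' (k2 g1 g2 no a)) e)
  have h2 : w' a ≠ a := fun e => h1 (g2.uniq _ _ (by simpa [e] using k2 g1 g2 no a) e)
  obtain ⟨d, d1, d2⟩ := exists_mem_notMem_of_card_lt_card (s := {a, w' a, w a, w' (w a)})
    (card_le_four.trans_lt (lt_of_lt_of_le (by omega) g2.big))
  simp only [mem_insert, Finset.mem_singleton, not_or] at d2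
  have := card_le_card ((k0 g1 g2 no h1 h2 (Ne.symm h3) (mem_support.1 d1) d2.1 d2.2.1 d2.2.2.1 fun h =>
    d2.2.2.2 (by rw [← h, g2.inv])).trans inter_subset_right)
  have h4 := fun (x : α) s => card_insert_le x s
  have := h4 a {w a, w' a, w (w' a), d, w d, w' d, w (w' d)}
  have := h4 (w a) {w' a, w (w' a), d, w d, w' d, w (w' d)}
  have := card_le_six (a := w' a) (b := w (w' a)) (c := d) (d := w d) (e := w' d) (f := w (w' d))
  omega

end

include hL hH hLH in
theorem three_of_good {w : Perm α} (g : Good H w) : ∃ f ∈ H, f.IsThreeCycle := by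
  by_contra! no
  have gd : ∀ l ∈ L, Good H (l * w * l⁻¹) := fun l hl => g.conj fun x hx =>
    mul_mem (mul_mem (hLH hl) (g.le hx)) (inv_mem (hLH hl))
  have h1 : w ∈ centralizer (L : Set (Perm α)) := by
    rcases g.par with h | h
    · let S := {x | ∃ l ∈ L, x = l * w * l⁻¹}
      have hw : w ∈ S := ⟨1, one_mem _, by simp⟩
      rcases H22.qs_le_or_cent (U := H ⊓ centralizer S) hL (fun l hl => mem_normalizer_fintype fun x hx =>
        ⟨H.mul_mem (H.mul_mem (hLH hl) hx.1) (H.inv_mem (hLH hl)), by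
          rintro _ ⟨k, hk, rfl⟩
          have := congrArg (l * · * l⁻¹) (hx.2 _ ⟨l⁻¹ * k, L.mul_mem (L.inv_mem hl) hk, rfl⟩)
          simpa [mul_assoc] using this⟩) (inf_le_left.trans hH) with h2 | h2
      · exact fun l hl => ((h2 hl).2 w hw).symm
      · refine h2 ⟨g.le ⟨fun a => .inr rfl, h⟩, ?_⟩
        rintro _ ⟨l, hl, rfl⟩
        ext a
        have := congrArg (l * w * l⁻¹) (k2 g (gd l hl) no a)
        rw [(gd l hl).inv] at this
        exact this.symm
    · exact fun l hl => mul_inv_eq_iff_eq_mul.1 (k3 g (gd l hl) no h)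
  have h2 : ∀ l ∈ L, ∀ a, w (l a) = l (w a) := fun l hl a => congrArg (· a) (h1 l hl).symm
  suffices L ≤ Z w g.inv from
    H22.qs_not_comm hL ⟨⟨fun x y => Subtype.ext (Z_comm (this x.2) (this y.2))⟩⟩
  · refine (H22.qs_le_or_cent (U := Z w g.inv ⊓ alternatingGroup α) hL
      (fun l hl => mem_normalizer_fintype fun x hx => ⟨fun a => ?_, Normal.conj_mem inferInstance _ hx.2 _⟩)
      (g.le.trans hH)).elim (·.trans inf_le_left) fun h3 l hl a => ?_
    · obtain ⟨a, rfl⟩ := l.surjective a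
      simpa [h2 l hl] using hx.1 a
    by_cases h4 : w a = a
    · exact .inl (g.uniq _ _ (by rw [h2 l hl, h4]) h4)
    by_contra! h5
    obtain ⟨c, c1, c2⟩ := exists_mem_notMem_of_card_lt_card (s := {a, w a, l a, w (l a)})
      (card_le_four.trans_lt (lt_of_lt_of_le (by omega) g.big))
    simp only [mem_insert, Finset.mem_singleton, not_or] at c2
    have e : ∀ {x y}, x ≠ w y → y ≠ w x := fun h e => h (by rw [e, g.inv])
    refine mem_support.1 (supp_inv (h3 ⟨mul_mem (swap_mem_Z a) (swap_mem_Z c), by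
      simp [mem_alternatingGroup, Ne.symm h4, (mem_support.1 c1).symm]⟩ l hl) (a := a) ?_)
      (swaps_apply h5.1 h5.2 (Ne.symm c2.2.2.1) (e c2.2.2.2))
    simpa [swap_apply_of_ne_of_ne (Ne.symm c2.1) (e c2.2.1)]

theorem fstar_alt (hF : IsQuasisimple (generalizedFittingSubgroup H)) {p : ℕ} (hp : p = 2 ∨ p = 3)
    (h : ¬ p ∣ H.relIndex (alternatingGroup α)) (hn : 12 ≤ Fintype.card α + 2 * p ∨ p = 3 ∧ 3 ≤ Fintype.card α) :
    ∃ m, m ≤ Fintype.card α ∧ Fintype.card α + p ≤ m + 5 ∧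
      Nonempty (generalizedFittingSubgroup H ≃* alternatingGroup (Fin m)) := by
  have e := (generalizedFittingSubgroup H).equivMapOfInjective _ H.subtype_injective
  have h1 : IsQuasisimple (H22.fstarOf H) := H22.qs_of_equiv hF e
  have h2 := le_normalizer.trans (H22.normalizer_le_normalizer_fstarOf H)
  have h3 : H ⊓ _ ≤ H22.fstarOf H := (H22.inf_centralizer_fstarOf_le H).trans (H22.fstarOf_eq H ▸ le_sup_right)
  have c3 : p = 3 → ∀ U, Inv H U → 3 ≤ #U → ∃ f ∈ H, f.IsThreeCycle ∧ f.support ⊆ U := by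
    rintro rfl U hU h4
    obtain ⟨f, f1, -, f2, f3⟩ := cycle_mem (e := 1) Nat.prime_three one_ne_zero h hU h4 (.inr ⟨by omega, rfl⟩)
    exact ⟨f, f1, card_support_eq_three_iff.1 f2, f3⟩
  obtain ⟨f, f1, f2⟩ : ∃ f ∈ H, f.IsThreeCycle := by
    rcases hp with rfl | rfl
    · obtain ⟨w, hw⟩ := exists_good (by omega) h
      exact three_of_good h1 h2 (H22.fstarOf_le H) hw
    · exact (c3 rfl _ inv_univ (by rw [card_univ]; omega)).imp fun _ h => ⟨h.1, h.2.1⟩
  obtain ⟨Δ, h4, h5⟩ := main3 h1 h2 (H22.fstarOf_le H) h3 f2 f1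
  have h6 : Inv H Δᶜ := fun g hg x hx => mem_compl.2 fun e => mem_compl.1 hx (by
    simpa using h5 _ (inv_mem hg) _ e)
  refine ⟨#Δ, card_le_univ Δ, ?_, ⟨e.trans ((MulEquiv.subgroupCongr h4).trans (altEquiv Δ))⟩⟩
  have h7 := card_add_card_compl Δ
  by_contra h8
  rcases hp with rfl | rfl
  · obtain ⟨S, s1, s2⟩ := exists_four h h6 (by omega)
    obtain ⟨a, ha, b, hb, s3⟩ := one_lt_card.1 (show 1 < #S by rw [s1.1]; omega)
    obtain ⟨u, u1, u2, -, u3, -⟩ := s1.2 a ha b hb
    exact s3 (by rw [← u2, eq_one_of_compl h3 h4 u1 (u3.trans s2)]; rfl)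
  · obtain ⟨f, f1, f2, f3⟩ := c3 rfl _ h6 (by omega)
    exact f2.ne_one (eq_one_of_compl h3 h4 f1 f3)

end H03.Sym
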