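import Mathlib
import Cfsg.Agent.H03.SymC

/-! `Out(A_n)` is a 2-group; overgroups of Sylow 3-subgroups of alternating groups. -/

namespace H03.Sym

open Equiv Equiv.Perm Finset Subgroup MulAction Cfsg
open scoped Pointwise

theorem aut_sq_three {n : ℕ} (hn : 5 ≤ n) (φ : MulAut (alternatingGroup (Fin n)))
    (c : alternatingGroup (Fin n)) (hc : (c : Perm (Fin n)).IsThreeCycle) :
    ((φ ^ 2) c : Perm (Fin n)).IsThreeCycle := by
  by_cases h : ∀ c : alternatingGroup (Fin n), (c : Perm (Fin n)).IsThreeCycle → (φ c : Perm (Fin n)).IsThreeCycle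
  · exact h _ (h c hc)
  push Not at h
  obtain ⟨d, d1, d2⟩ := h
  obtain rfl : n = 6 := by simpa using ((H10.aut_threeCycle φ d1).resolve_left d2).1
  let T : Finset (alternatingGroup (Fin 6)) := {c | #(c : Perm (Fin 6)).support = 3}
  let D : Finset (alternatingGroup (Fin 6)) := {c | c ^ 3 = 1 ∧ c ≠ 1 ∧ #(c : Perm (Fin 6)).support ≠ 3}
  have h1 : ∀ c ∈ T, φ c ∈ D := fun c hc => by
    simp only [T, D, mem_filter, mem_univ, true_and, ne_eq, card_support_eq_three_iff] at hc ⊢
    refine ⟨by rw [← map_pow, ← map_one φ, ← hc.orderOf, orderOf_coe, pow_orderOf_eq_one],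
      fun e => hc.ne_one (by simpa using e), fun e => d2 ?_⟩
    have := φ.toMonoidHom.map_isConj (alternatingGroup.isThreeCycle_isConj (by simp) hc d1)
    exact (isConj_iff_cycleType_eq.1 ((alternatingGroup _).subtype.map_isConj this)).symm.trans e
  have h2 : T.map φ.toEquiv.toEmbedding = D := eq_of_subset_of_card_le (fun x hx => by
    obtain ⟨c, hc, rfl⟩ := Finset.mem_map.1 hx
    exact h1 c hc) (by rw [card_map]; decide +kernel)
  have h3 : c ∈ T := by simpa [T] using hc.card_support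
  by_contra h4
  have h5 := h1 c h3
  obtain ⟨e, he, h6⟩ := Finset.mem_map.1 (h2.ge (show φ (φ c) ∈ D by
    simp only [D, mem_filter, mem_univ, true_and, ne_eq, card_support_eq_three_iff] at h5 ⊢
    exact ⟨by rw [← map_pow, h5.1, map_one], by simpa using h5.2.1, h4⟩))
  rw [← φ.injective h6] at h5
  exact (mem_filter.1 h5).2.2.2 (mem_filter.1 he).2

theorem aut_pow_four {n : ℕ} (hn : 5 ≤ n) (φ : MulAut (alternatingGroup (Fin n))) :
    φ ^ 4 ∈ (MulAut.conj : alternatingGroup (Fin n) →* _).range := by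
  obtain ⟨σ, hσ⟩ := H10.aut_alt_conj (by simp; omega) _ (aut_sq_three hn φ)
  refine ⟨⟨σ * σ, by simp [mem_alternatingGroup]⟩, MulEquiv.ext fun g => Subtype.ext ?_⟩
  rw [show 4 = 2 + 2 from rfl, pow_add, MulAut.mul_apply, hσ, hσ]
  simp [mul_assoc]

theorem mem_of_pow_four {G : Type*} [Group G] {K : Subgroup G} {x : G} {p k : ℕ} (hp : Odd p)
    (h : x ^ p ^ k = 1) (h4 : x ^ 4 ∈ K) : x ∈ K := by
  obtain ⟨m, hm⟩ := exists_pow_eq_self_of_coprime (x := x) (n := 4)
    (((Nat.coprime_two_left.2 hp.pow).pow_left 2).coprime_dvd_right (orderOf_dvd_of_pow_eq_one h))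
  exact hm ▸ K.pow_mem h4 m

theorem normal_of_index {G : Type*} [Group G] [Finite G] {p : ℕ} [hp : Fact p.Prime] (h : IsPGroup p G)
    {K : Subgroup G} (hK : K.index = p) : K.Normal := by
  obtain ⟨k, hk⟩ := h.exists_card_eq
  refine normal_of_index_eq_minFac_card (by
    rw [hK, hk, hp.out.pow_minFac]
    rintro rfl
    exact hp.out.not_dvd_one (by simpa [hK, hk] using K.index_dvd_card))

theorem exists_index {G : Type*} [Group G] [Finite G] {p : ℕ} [hp : Fact p.Prime] (h : IsPGroup p G)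
    {K : Subgroup G} (hK : K ≠ ⊤) : ∃ L, K ≤ L ∧ L.index = p := by
  obtain ⟨k, hk⟩ := h.exists_card_eq
  obtain ⟨j, hj⟩ := (h.to_subgroup K).exists_card_eq
  have h1 : j < k := (Nat.pow_lt_pow_iff_right hp.out.one_lt).1 (by
    rw [← hk, ← hj]; exact (card_le_card_group K).lt_of_ne fun e => hK (eq_top_of_card_eq _ e))
  obtain ⟨k, rfl⟩ : ∃ i, k = i + 1 := ⟨k - 1, by omega⟩
  obtain ⟨L, h2, h3⟩ := Sylow.exists_subgroup_card_pow_prime_le p (m := k) (hk ▸ pow_dvd_pow p (by omega)) K hj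
    (by omega)
  have := L.card_mul_index
  rw [h2, hk, pow_succ, mul_right_inj' (pow_ne_zero _ hp.out.ne_zero)] at this
  exact ⟨L, h3, this⟩

variable {α : Type*} [Fintype α] [DecidableEq α]

omit [DecidableEq α] in
theorem comm_of_lt_sq {G : Type*} [Group G] {p : ℕ} [hp : Fact p.Prime] (h : IsPGroup p G) (f : G →* Perm α)
    (hf : Function.Injective f) (hn : Fintype.card α < p ^ 2) : IsMulCommutative G := by
  have := Finite.of_injective f hf
  let _ := MulAction.compHom α f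
  have key : ∀ a : α, _root_.commutator G ≤ stabilizer G a := fun a => by
    obtain ⟨k, hk⟩ := h.index (stabilizer G a)
    have h1 : p ^ k < p ^ 2 := by
      rw [← hk, index_stabilizer]
      exact (Set.ncard_le_card _).trans_lt (by rwa [Nat.card_eq_fintype_card])
    rw [Nat.pow_lt_pow_iff_right hp.out.one_lt] at h1
    obtain rfl | rfl : k = 0 ∨ k = 1 := by omega
    · rw [index_eq_one.1 hk]; exact le_top
    · have := normal_of_index h (hk.trans (pow_one p))
      have := isCyclic_of_prime_card (α := G ⧸ stabilizer G a) (hk.trans (pow_one p))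
      exact Normal.quotient_commutative_iff_commutator_le.1 inferInstance
  refine ⟨⟨fun x y => commutatorElement_eq_one_iff_mul_comm.1 (hf (Equiv.ext fun a => ?_))⟩⟩
  rw [map_one]
  exact key a (commutator_mem_commutator trivial trivial)

theorem fixU_le_stabRel {r : α → α → Prop} (hr : Equivalence r) {B : Finset α}
    (hB : ∀ x ∈ B, ∀ y ∈ B, r x y) : fixU B ≤ stabRel r := fun g hg a b => by
  have key : ∀ a, r a (g a) := fun a => by
    by_cases h : a ∈ B
    · exact hB _ h _ (inv_fixU _ g hg a h)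
    · rw [fix_of_not_mem hg h]; exact hr.refl a
  exact ⟨fun h => hr.trans (hr.trans (key a) h) (hr.symm (key b)),
    fun h => hr.trans (hr.trans (hr.symm (key a)) h) (key b)⟩

theorem not_alt_le {r : α → α → Prop} (hn : 4 ≤ Fintype.card α) {a b c : α} (h1 : a ≠ b) (h2 : r a b)
    (h3 : ¬ r a c) (h4 : a ≠ c) : ¬ alternatingGroup α ≤ stabRel r := fun h => by
  obtain ⟨d, d1, d2, d3⟩ := H10.exists_ne_three hn a b c
  have h5 : b ≠ c := fun e => h3 (e ▸ h2)
  have := h (x := swap b d * swap b c) (by simp [mem_alternatingGroup, d2.symm, h5]) a b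
  rw [swaps_apply h1 d1.symm h1 h4] at this
  simp [swap_apply_of_ne_of_ne h5.symm d3.symm, h2, h3] at this

theorem R.of_fixU {H : Subgroup (Perm α)} {B : Finset α} (h : fixU B ⊓ alternatingGroup α ≤ H) (h3 : 3 ≤ #B)
    {a b : α} (ha : a ∈ B) (hb : b ∈ B) : R H a b := by
  obtain ⟨s, h1, h2, h4⟩ := exists_subsuperset_card_eq (insert_subset ha (singleton_subset_iff.2 hb)) (n := 3)
    (card_le_two.trans (by omega)) h3
  obtain ⟨f, -, rfl⟩ := exists_cycle (s := s) (by omega)
  have := card_support_eq_three_iff.1 h4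
  exact R.of_three this (h ⟨h2, this.mem_alternatingGroup⟩) (h1 (by simp)) (h1 (by simp))

theorem exists_swap_cls {H : Subgroup (Perm α)} {a b : α} (h : #(cls H a) = #(cls H b)) (h2 : 2 ≤ #(cls H a)) :
    ∃ g ∈ stabRel (R H) ⊓ alternatingGroup α, g.support ⊆ cls H a ∪ cls H b ∧ R H b (g a) := by
  have key : ∀ {a b} {g : Perm α}, g.support ⊆ cls H a ∪ cls H b → g • cls H a = cls H b →
      ∀ x y, R H x y → R H (g x) (g y) := fun {a b g} h1 h2 x y h => by
    have e1 : ∀ x, x ∈ cls H a ↔ g x ∈ cls H b := fun x => by rw [← h2]; exact (smul_mem_smul_finset_iff g).symm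
    have e2 : ∀ {x y c}, R H x y → x ∈ cls H c → y ∈ cls H c := fun h h' => mem_cls.2 ((mem_cls.1 h').trans h)
    have e3 : ∀ x, x ∉ cls H a → x ∈ cls H b → g x ∈ cls H a := fun x h h' =>
      (mem_union.1 (inv_fixU _ g h1 x (mem_union_right _ h'))).resolve_right fun e => h ((e1 x).2 e)
    by_cases x1 : x ∈ cls H a
    · exact (mem_cls.1 ((e1 x).1 x1)).symm.trans (mem_cls.1 ((e1 y).1 (e2 h x1)))
    have y1 : y ∉ cls H a := fun e => x1 (e2 h.symm e)
    by_cases x2 : x ∈ cls H b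
    · exact (mem_cls.1 (e3 x x1 x2)).symm.trans (mem_cls.1 (e3 y y1 (e2 h x2)))
    · rwa [fix_of_not_mem h1 (x := x) (by simp [x1, x2]), fix_of_not_mem h1 (x := y) (by
        simpa [y1] using fun e => x2 (e2 h.symm e))]
  obtain ⟨g, g1, g2, g3⟩ : ∃ g ∈ alternatingGroup α, g.support ⊆ cls H a ∪ cls H b ∧ g • cls H a = cls H b := by
    obtain ⟨g, g1, hg⟩ := exists_smul_eq subset_union_left subset_union_right h
    rcases Int.units_eq_one_or (sign g) with e | e
    · exact ⟨g, e, g1, hg⟩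
    obtain ⟨x, hx, y, hy, h3⟩ := one_lt_card.1 h2
    have h4 : (swap x y).support ⊆ cls H a := by
      rw [support_swap h3]; exact insert_subset hx (singleton_subset_iff.2 hy)
    exact ⟨g * swap x y, by simp [mem_alternatingGroup, e, h3], (fixU _).mul_mem g1 (h4.trans subset_union_left),
      by rw [mul_smul, (inv_fixU _).le_stab h4, hg]⟩
  refine ⟨g, ⟨fun x y => ⟨fun h => ?_, key g2 g3 x y⟩, g1⟩, g2,
    mem_cls.1 (g3 ▸ smul_mem_smul_finset (self_mem_cls a))⟩
  simpa using key (g := g⁻¹) (by rwa [support_inv, union_comm]) (by rw [← g3, inv_smul_smul]) _ _ h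

theorem card_cls_le {S : Subgroup (Perm α)} (hS : IsPGroup 3 S) (a : α) : #(cls S a) ≤ 3 := by
  by_contra! h
  obtain ⟨s, h1, h2⟩ := exists_subset_card_eq h
  obtain ⟨E, e1, e2, -, e3⟩ := exists_four_group h2
  obtain ⟨x, hx, y, hy, h3⟩ := one_lt_card.1 (show 1 < #s by omega)
  obtain ⟨u, u1, u2, u3, u4, -⟩ := e3 x hx y hy
  obtain ⟨k, hk⟩ := hS ⟨u, mem_of_cls (e2 u1).2 (u4.trans h1)⟩
  have := mem_of_pow_four (K := ⊥) (x := u) (by decide) (congrArg Subtype.val hk) (by
    rw [show 4 = 2 * 2 from rfl, pow_mul, sq u, u3]; simp)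
  exact h3 (by rw [← u2, mem_bot.1 this]; rfl)

theorem three_minimal {S M : Subgroup (Perm α)} (hn : 5 ≤ Fintype.card α) (hS : IsPGroup 3 S)
    (h3 : ¬ 3 ∣ S.relIndex (alternatingGroup α)) (hSM : S ≤ M)
    (hM : ¬ alternatingGroup α ≤ M)
    (hu : ∀ K, S ≤ K → ¬ alternatingGroup α ≤ K → K ⊓ alternatingGroup α ≤ M) :
    Fintype.card α = 6 ∨ Fintype.card α = 9 ∨ ∃ a, 2 ≤ a ∧ Fintype.card α = 3 ^ a + 1 := by
  classical
  have : Fact (Nat.Prime 3) := ⟨Nat.prime_three⟩
  have no : ∀ y, (∀ x, R M y x) → False := fun y h => hM fun g hg =>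
    mem_of_cls (o := y) hg fun x _ => mem_cls.2 (h x)
  have F : ∀ r : α → α → Prop, Equivalence r → S ≤ stabRel r → ∀ o c, ¬ r o c → 3 ≤ #{y | r o y} →
      stabRel r ⊓ alternatingGroup α ≤ M ∧ ∀ x y, r o x → r o y → R M x y := fun r hr h o c hc h4 => by
    obtain ⟨b, hb, h5⟩ := exists_mem_ne (show 1 < #{y | r o y} by omega) o
    have h6 := hu _ h (not_alt_le (by omega) h5.symm (mem_filter.1 hb).2 hc fun e => hc (e ▸ hr.refl o))
    exact ⟨h6, fun x y hx hy => R.of_fixU ((inf_le_inf_right _ (fixU_le_stabRel hr fun x hx y hy =>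
      hr.trans (hr.symm (mem_filter.1 hx).2) (mem_filter.1 hy).2)).trans h6) h4 (by simpa) (by simpa)⟩
  have F1 : ∀ U, Inv S U → ∀ c ∉ U, 3 ≤ #U → ∀ x ∈ U, ∀ y ∈ U, R M x y := fun U hU c hc h4 x hx y hy =>
    (F (fun a b => a ∈ U ↔ b ∈ U) ⟨fun _ => .rfl, .symm, .trans⟩ (hU.le_stab.trans stab_le_P) x c
      (by simp [hx, hc]) (by simpa [hx] using h4)).2 x y .rfl (by simp [hx, hy])
  let O : α → Finset α := fun a => {b | b ∈ orbit S a}
  have o1 : ∀ a, ∃ k, #(O a) = 3 ^ k := fun a => (hS.card_orbit a).imp fun k hk => by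
    rw [← hk, Nat.card_coe_set_eq, Set.ncard_eq_toFinset_card']; congr 1; ext; simp [O]
  have o2 : ∀ a, a ∈ O a := fun a => by simp [O]
  have o3 : ∀ a, Inv S (O a) := fun a g hg x hx => by
    simp only [O, mem_filter, mem_univ, true_and] at hx ⊢
    exact mem_orbit_of_mem_orbit (⟨g, hg⟩ : S) hx
  have o4 : ∀ a, Inv S (O a)ᶜ := fun a g hg x hx => mem_compl.2 fun e => mem_compl.1 hx (by
    simpa using o3 a _ (inv_mem hg) _ e)
  have o5 : ∀ {a b}, b ∉ O a → Disjoint (O a) (O b) := fun {a b} h => disjoint_left.2 fun x h1 h2 => h (by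
    simp only [O, mem_filter, mem_univ, true_and] at h1 h2 ⊢
    rw [← orbit_eq_iff.2 h1, orbit_eq_iff.2 h2]; exact mem_orbit_self b)
  have tri : (∀ a, 3 ≤ #(O a)) → ∀ x, #(cls M x) ≤ 3 := fun h x => by
    have h4 : ∀ a, #(cls S a) = 3 := fun a => (card_cls_le hS a).antisymm ((card_cls a).resolve_left fun e => by
      have := card_le_card (show O a ⊆ univ.filter fun a => #(cls S a) = 1 from fun b hb => by
        obtain ⟨g, rfl⟩ := (mem_filter.1 hb).2
        simpa [Subgroup.smul_def, cls_smul (norm_le_stab (le_normalizer g.2))] using e)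
      have := card_single_lt h3
      have := h a
      omega)
    have h5 : ∀ {a b}, R S a b → R M a b := fun h => h.imp id fun ⟨c, h1, h2, h3⟩ => ⟨c, h1, h2, hSM h3⟩
    by_contra! h6
    obtain ⟨y, y1, y2⟩ := exists_mem_notMem_of_card_lt_card ((h4 x).trans_lt h6)
    rw [mem_cls] at y1 y2
    have h7 := (F (R S) ⟨.refl, .symm, .trans⟩ (le_normalizer.trans norm_le_stab) x y y2
      ((h4 x).ge.trans (card_le_card fun z hz => by simpa using mem_cls.1 hz))).1
    refine no y fun z => ?_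
    by_cases h8 : R S z y
    · exact h5 h8.symm
    obtain ⟨g, g1, g2, g3⟩ := exists_swap_cls ((h4 x).trans (h4 z).symm) (by rw [h4]; omega)
    have := (norm_le_stab (le_normalizer (h7 g1)) x y).2 y1
    rw [fix_of_not_mem g2 (x := y) (by simp [mem_cls, y2, h8])] at this
    exact ((h5 g3).trans this).symm
  have le3 : (∀ a, 3 ≤ #(O a)) → ∀ (U : Finset α) x, (∀ y ∈ U, R M x y) → #U ≤ 3 := fun h U x h' =>
    (card_le_card fun y hy => mem_cls.2 (h' y hy)).trans (tri h x)
  obtain ⟨a⟩ : Nonempty α := Fintype.card_pos_iff.1 (by omega)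
  by_cases ha : ∀ b, b ∈ O a
  · obtain ⟨k, hk⟩ := o1 a
    rw [eq_univ_of_forall ha, card_univ] at hk
    have h4 : (stabilizer S a).index = Fintype.card α := by
      rw [index_stabilizer, ← Nat.card_eq_fintype_card, ← Set.ncard_univ]
      congr 1; exact Set.eq_univ_of_forall fun b => (mem_filter.1 (ha b)).2
    obtain ⟨K, k1, k2⟩ := exists_index hS (K := stabilizer S a) fun e => by rw [e, index_top] at h4; omega
    have := normal_of_index hS k2
    have h5 : #{y | y ∈ orbit K a} * 3 = Fintype.card α := by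
      rw [← h4, ← relIndex_mul_index k1, k2]
      congr 1
      rw [show (stabilizer S a).relIndex K = (stabilizer K a).index from rfl, index_stabilizer,
        Set.ncard_eq_toFinset_card']
      congr 1; ext; simp
    have h6 : 9 ≤ Fintype.card α := by
      rcases k with _ | _ | k <;> simp_all
      rw [pow_add, pow_add]; have := Nat.one_le_pow k 3; omega
    obtain ⟨c, -, hc⟩ := exists_mem_notMem_of_card_lt_card (s := {y | y ∈ orbit K a}) (t := univ)
      (by rw [card_univ]; omega)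
    have h7 := le3 (fun b => ?_) {y | y ∈ orbit K a} a fun y hy =>
      (F (fun x y => y ∈ orbit K x) ⟨mem_orbit_self, mem_orbit_symm.1, fun h1 h2 => orbit_eq_iff.2 h1 ▸ h2⟩
        (fun g hg x y => ?_) a c (by simpa using hc) (by omega)).2 a y (mem_orbit_self a) (by simpa using hy)
    · omega
    · rw [show O b = O a by simp only [O, orbit_eq_iff.2 (mem_filter.1 (ha b)).2], eq_univ_of_forall ha,
        card_univ]
      omega
    · have key : ∀ (g : S) x y, y ∈ orbit K x → g.1 y ∈ orbit K (g.1 x) := by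
        rintro g x _ ⟨k, rfl⟩
        exact ⟨⟨g * k * g⁻¹, this.conj_mem _ k.2 g⟩, by simp [Subgroup.smul_def]⟩
      exact ⟨fun h => by simpa using key ⟨g, hg⟩⁻¹ _ _ h, key ⟨g, hg⟩ x y⟩
  push Not at ha
  obtain ⟨b, hb⟩ := ha
  by_cases hc : ∀ c, c ∈ O a ∪ O b
  · have h4 := card_union_of_disjoint (o5 hb)
    rw [eq_univ_of_forall hc, card_univ] at h4
    obtain ⟨i, hi⟩ := o1 a
    obtain ⟨j, hj⟩ := o1 b
    have key : ∀ i, Fintype.card α = 3 ^ i + 1 → ∃ a, 2 ≤ a ∧ Fintype.card α = 3 ^ a + 1 := fun i h =>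
      ⟨i, by rcases i with _ | _ | i <;> omega, h⟩
    rcases i with _ | i
    · exact .inr (.inr (key j (by omega)))
    rcases j with _ | j
    · exact .inr (.inr (key (i + 1) (by omega)))
    have a3 : 3 ≤ #(O a) := by rw [hi, pow_succ]; have := Nat.one_le_pow i 3; omega
    have b3 : 3 ≤ #(O b) := by rw [hj, pow_succ]; have := Nat.one_le_pow j 3; omega
    have h5 : ∀ x, 3 ≤ #(O x) := fun x => by
      rcases mem_union.1 (hc x) with h | h
      · rwa [show O x = O a by simp only [O, orbit_eq_iff.2 (mem_filter.1 h).2]]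
      · rwa [show O x = O b by simp only [O, orbit_eq_iff.2 (mem_filter.1 h).2]]
    have := le3 h5 _ a (F1 _ (o3 a) b hb a3 a (o2 a))
    have := le3 h5 _ b (F1 _ (o3 b) a (disjoint_left.1 (o5 hb) (o2 a)) b3 b (o2 b))
    omega
  push Not at hc
  obtain ⟨c, hc⟩ := hc
  rw [mem_union, not_or] at hc
  have key : ∀ {a b c}, Disjoint (O a) (O b) → c ∉ O a → c ∉ O b → 3 ≤ #(O a)ᶜ → 3 ≤ #(O b)ᶜ → False :=
    fun {a b c} h h1 h2 h4 h5 => no c fun x => by
      by_cases e : x ∈ O a
      · exact F1 _ (o4 b) b (by simp [o2]) h5 c (by simpa) x (mem_compl.2 (disjoint_left.1 h e))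
      · exact F1 _ (o4 a) a (by simp [o2]) h4 c (by simpa) x (mem_compl.2 e)
  have d1 := o5 hb
  have d2 := o5 hc.1
  have d3 := o5 hc.2
  have h4 := card_le_univ (O a ∪ O b ∪ O c)
  rw [card_union_of_disjoint (disjoint_union_left.2 ⟨d2, d3⟩), card_union_of_disjoint d1] at h4
  have p1 := card_pos.2 ⟨a, o2 a⟩
  have p2 := card_pos.2 ⟨b, o2 b⟩
  have p3 := card_pos.2 ⟨c, o2 c⟩
  have q1 := card_compl (O a)
  have q2 := card_compl (O b)
  have q3 := card_compl (O c)
  exfalso
  by_cases e1 : 3 ≤ #(O a)ᶜ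
  · by_cases e2 : 3 ≤ #(O b)ᶜ
    · exact key d1 hc.1 hc.2 e1 e2
    · exact key d2 hb (disjoint_left.1 d3 (o2 b)) e1 (by omega)
  · exact key d3 (disjoint_left.1 d1 (o2 a)) (disjoint_left.1 d2 (o2 a)) (by omega) (by omega)

end H03.Sym
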